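import Mathlib

/-!
Symmetric designs and their automorphisms fixing a block pointwise: the fixed-point bound
(at most one fixed point outside the block) and the basic orbit facts.
-/

set_option autoImplicit false

namespace Cfsg.Agent.ItoDesign

open Finset

/-- A symmetric design with the points `P` and the blocks `L`, given by the point sets of the blocks. -/
structure Design (P L : Type*) [Fintype P] [Fintype L] [DecidableEq P] [DecidableEq L] where
  pts : L → Finset P
  k : ℕ
  lam : ℕ
  card_eq : Fintype.card L = Fintype.card P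
  blk : ∀ l, (pts l).card = k
  pt : ∀ p, (univ.filter fun l => p ∈ pts l).card = k
  two_pts : ∀ p q, p ≠ q → (univ.filter fun l => p ∈ pts l ∧ q ∈ pts l).card = lam
  two_blks : ∀ l m, l ≠ m → (pts l ∩ pts m).card = lam
  lam_pos : 1 ≤ lam
  lam_lt : lam + 2 ≤ k
  count : lam * Fintype.card P + k = k * k + lam

variable {P L : Type*} [Fintype P] [Fintype L] [DecidableEq P] [DecidableEq L]

/-- An automorphism of a design. -/
structure Aut (D : Design P L) where
  σ : Equiv.Perm P
  τ : Equiv.Perm L
  map : ∀ p l, σ p ∈ D.pts (τ l) ↔ p ∈ D.pts l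

namespace Design

variable (D : Design P L)

/-- The blocks through a point. -/
def blks (p : P) : Finset L := univ.filter fun l => p ∈ D.pts l

@[simp] theorem mem_blks {p : P} {l : L} : l ∈ D.blks p ↔ p ∈ D.pts l := by simp [blks]

theorem card_blks (p : P) : (D.blks p).card = D.k := D.pt p

theorem card_blks_inter {p q : P} (h : p ≠ q) : (D.blks p ∩ D.blks q).card = D.lam := by
  rw [← D.two_pts p q h]
  congr 1
  ext l
  simp

theorem eq_of_subset {l m : L} (h : D.pts l ⊆ D.pts m) : l = m := by
  by_contra hne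
  have h1 := D.two_blks l m hne
  rw [Finset.inter_eq_left.2 h, D.blk] at h1
  have := D.lam_lt
  omega

theorem pts_injective : Function.Injective D.pts := fun _ _ h => D.eq_of_subset h.le

theorem exists_not_mem (p q : P) (h : p ≠ q) : ∃ l, p ∈ D.pts l ∧ q ∉ D.pts l := by
  by_contra hc
  push Not at hc
  have h1 : D.blks p ∩ D.blks q = D.blks p :=
    Finset.inter_eq_left.2 fun l hl => D.mem_blks.2 (hc l (D.mem_blks.1 hl))
  have h2 := D.card_blks_inter h
  rw [h1, D.card_blks] at h2
  have := D.lam_lt
  omega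

end Design

namespace Aut

variable {D : Design P L} (A : Aut D)

/-- The fixed points. -/
def fixP : Finset P := univ.filter fun p => A.σ p = p

/-- The fixed blocks. -/
def fixL : Finset L := univ.filter fun l => A.τ l = l

@[simp] theorem mem_fixP {p : P} : p ∈ A.fixP ↔ A.σ p = p := by simp [fixP]

@[simp] theorem mem_fixL {l : L} : l ∈ A.fixL ↔ A.τ l = l := by simp [fixL]

theorem pts_τ (l : L) : D.pts (A.τ l) = (D.pts l).image A.σ := by
  ext p
  obtain ⟨p, rfl⟩ := A.σ.surjective p
  simp [A.map]

theorem σ_mem {p : P} {l : L} (hl : A.τ l = l) : A.σ p ∈ D.pts l ↔ p ∈ D.pts l := by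
  conv_lhs => rw [← hl]
  exact A.map p l

/-- An automorphism fixes as many blocks as points. -/
theorem card_fix : A.fixP.card = A.fixL.card := by
  classical
  -- count the pairs of a point and a block containing both it and its image
  have h1 : ∀ p, (univ.filter fun l => p ∈ D.pts l ∧ A.σ p ∈ D.pts l).card =
      if p ∈ A.fixP then D.k else D.lam := by
    intro p
    split_ifs with hp
    · rw [A.mem_fixP] at hp
      rw [← D.pt p]
      congr 1
      ext l
      simp [hp]
    · rw [A.mem_fixP] at hp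
      exact D.two_pts p (A.σ p) (Ne.symm hp)
  have h2 : ∀ l, (univ.filter fun p => p ∈ D.pts l ∧ A.σ p ∈ D.pts l).card =
      if l ∈ A.fixL then D.k else D.lam := by
    intro l
    have e : (univ.filter fun p => p ∈ D.pts l ∧ A.σ p ∈ D.pts l).image A.σ =
        D.pts (A.τ l) ∩ D.pts l := by
      ext q
      obtain ⟨q, rfl⟩ := A.σ.surjective q
      simp [A.map]
    rw [← Finset.card_image_of_injective _ A.σ.injective, e]
    split_ifs with hl
    · rw [A.mem_fixL] at hl
      rw [hl, Finset.inter_self, D.blk]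
    · rw [A.mem_fixL] at hl
      exact D.two_blks _ _ hl
  have h3 := Finset.sum_card_bipartiteAbove_eq_sum_card_bipartiteBelow (s := (univ : Finset P))
    (t := (univ : Finset L)) fun p l => p ∈ D.pts l ∧ A.σ p ∈ D.pts l
  simp only [Finset.bipartiteAbove, Finset.bipartiteBelow, h1, h2, Finset.sum_ite, Finset.sum_const,
    smul_eq_mul, Finset.filter_univ_mem] at h3
  have e1 : (univ.filter fun p => p ∉ A.fixP).card = Fintype.card P - A.fixP.card := by
    rw [Finset.filter_not, Finset.filter_univ_mem, ← Finset.compl_eq_univ_sdiff, Finset.card_compl]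
  have e2 : (univ.filter fun l => l ∉ A.fixL).card = Fintype.card P - A.fixL.card := by
    rw [Finset.filter_not, Finset.filter_univ_mem, ← Finset.compl_eq_univ_sdiff, Finset.card_compl,
      D.card_eq]
  rw [e1, e2] at h3
  obtain ⟨u, hu⟩ := Nat.le.dest (Finset.card_le_univ A.fixP)
  obtain ⟨v, hv⟩ := Nat.le.dest ((Finset.card_le_univ A.fixL).trans D.card_eq.le)
  rw [show Fintype.card P - A.fixP.card = u by omega,
    show Fintype.card P - A.fixL.card = v by omega] at h3
  have hk := D.lam_lt
  obtain ⟨w, hw⟩ := Nat.le.dest (show D.lam ≤ D.k by omega)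
  have : w * A.fixP.card = w * A.fixL.card := by
    zify at *
    linear_combination h3 + (A.fixP.card - A.fixL.card : ℤ) * hw - (D.lam : ℤ) * hu + (D.lam : ℤ) * hv
  exact Nat.eq_of_mul_eq_mul_left (by omega) this

/-- `B` is an axis: all of its points are fixed. -/
def Axis (B : L) : Prop := ∀ p ∈ D.pts B, A.σ p = p

variable {A} {B : L}

theorem Axis.fixed (hB : A.Axis B) : A.τ B = B := by
  refine D.pts_injective ?_
  rw [A.pts_τ]
  exact (Finset.image_congr (g := id) fun p hp => hB p hp).trans Finset.image_id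

theorem Axis.inter_moved (hB : A.Axis B) {l : L} (hl : A.τ l ≠ l) :
    D.pts l ∩ D.pts (A.τ l) = D.pts l ∩ D.pts B := by
  have hlB : l ≠ B := fun h => hl (h ▸ hB.fixed)
  refine (Finset.eq_of_subset_of_card_le ?_ ?_).symm
  · intro p hp
    rw [Finset.mem_inter] at hp ⊢
    refine ⟨hp.1, ?_⟩
    rw [← hB p hp.2, A.map]
    exact hp.1
  · rw [D.two_blks _ _ hlB, D.two_blks _ _ (Ne.symm hl)]

/-- Every block through a moved point and its image is fixed. -/
theorem Axis.block_fixed (hB : A.Axis B) {x : P} (hx : A.σ x ≠ x) {l : L} (h1 : x ∈ D.pts l)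
    (h2 : A.σ x ∈ D.pts l) : A.τ l = l := by
  by_contra hl
  have hmem : A.σ x ∈ D.pts l ∩ D.pts (A.τ l) := Finset.mem_inter.2 ⟨h2, (A.map x l).2 h1⟩
  rw [hB.inter_moved hl, Finset.mem_inter] at hmem
  exact hx (A.σ.injective (hB _ hmem.2))

/-- A fixed block through a moved point contains its image. -/
theorem fixL_inter_blks (hB : A.Axis B) {x : P} (hx : A.σ x ≠ x) :
    A.fixL ∩ D.blks x = D.blks x ∩ D.blks (A.σ x) := by
  ext l
  simp only [Finset.mem_inter, mem_fixL, Design.mem_blks]
  exact ⟨fun ⟨h1, h2⟩ => ⟨h2, (A.σ_mem h1).2 h2⟩, fun ⟨h1, h2⟩ => ⟨hB.block_fixed hx h1 h2, h1⟩⟩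

theorem card_fixL_inter_blks (hB : A.Axis B) {x : P} (hx : A.σ x ≠ x) :
    (A.fixL ∩ D.blks x).card = D.lam := by
  rw [fixL_inter_blks hB hx, D.card_blks_inter (Ne.symm hx)]

/-- Blocks through a fixed point off the axis are fixed. -/
theorem Axis.fixed_of_out (hB : A.Axis B) {a : P} (ha : A.σ a = a) (haB : a ∉ D.pts B) {l : L}
    (hal : a ∈ D.pts l) : A.τ l = l := by
  by_contra hl
  have hmem : a ∈ D.pts l ∩ D.pts (A.τ l) := by
    refine Finset.mem_inter.2 ⟨hal, ?_⟩
    rw [← ha]
    exact (A.map a l).2 hal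
  rw [hB.inter_moved hl, Finset.mem_inter] at hmem
  exact haB hmem.2

/-- **The fixed point bound**: a non-identity automorphism fixing a block pointwise fixes at most
one further point. -/
theorem Axis.eq_of_fixed_out (hB : A.Axis B) {x : P} (hx : A.σ x ≠ x) {a b : P} (ha : A.σ a = a)
    (hb : A.σ b = b) (haB : a ∉ D.pts B) (hbB : b ∉ D.pts B) : a = b := by
  by_contra hab
  have hxB : x ∉ D.pts B := fun h => hx (hB x h)
  -- the blocks through `a` and any moved point are the fixed blocks through that point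
  have key : ∀ c, A.σ c = c → c ∉ D.pts B → ∀ y, A.σ y ≠ y →
      D.blks c ∩ D.blks y = A.fixL ∩ D.blks y := by
    intro c hc hcB y hy
    refine Finset.eq_of_subset_of_card_le ?_ ?_
    · intro l hl
      simp only [Finset.mem_inter, Design.mem_blks, mem_fixL] at hl ⊢
      exact ⟨hB.fixed_of_out hc hcB hl.1, hl.2⟩
    · rw [card_fixL_inter_blks hB hy, D.card_blks_inter]
      rintro rfl
      exact hy hc
  have hΛ : ∀ y, A.σ y ≠ y → D.blks a ∩ D.blks b ⊆ D.blks y := by
    intro y hy
    have e : D.blks a ∩ D.blks y = D.blks a ∩ D.blks b := by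
      refine Finset.eq_of_subset_of_card_le ?_ ?_
      · intro l hl
        have : l ∈ D.blks b ∩ D.blks y := by rw [key b hb hbB y hy, ← key a ha haB y hy]; exact hl
        exact Finset.mem_inter.2 ⟨(Finset.mem_inter.1 hl).1, (Finset.mem_inter.1 this).1⟩
      · rw [D.card_blks_inter hab, D.card_blks_inter]
        rintro rfl
        exact hy ha
    exact e ▸ Finset.inter_subset_right
  obtain ⟨C, hC⟩ : (D.blks a ∩ D.blks b).Nonempty := Finset.card_pos.1 (by
    rw [D.card_blks_inter hab]; have := D.lam_pos; omega)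
  have hCB : C ≠ B := by
    rintro rfl
    exact haB (D.mem_blks.1 (Finset.mem_inter.1 hC).1)
  have hout : D.pts C \ D.pts B = (D.pts B)ᶜ := by
    refine Finset.eq_of_subset_of_card_le (fun p hp => Finset.mem_compl.2 (Finset.mem_sdiff.1 hp).2)
      (Finset.card_le_card fun p hp => ?_)
    rw [Finset.mem_compl] at hp
    refine Finset.mem_sdiff.2 ⟨?_, hp⟩
    by_cases hpf : A.σ p = p
    · by_cases hpa : p = a
      · exact hpa ▸ D.mem_blks.1 (Finset.mem_inter.1 hC).1
      by_cases hpb : p = b
      · exact hpb ▸ D.mem_blks.1 (Finset.mem_inter.1 hC).2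
      -- `p` is a third fixed point off the axis
      have hmem : C ∈ D.blks a ∩ D.blks x :=
        Finset.mem_inter.2 ⟨(Finset.mem_inter.1 hC).1, hΛ x hx hC⟩
      rw [key a ha haB x hx, ← key p hpf hp x hx, Finset.mem_inter, D.mem_blks] at hmem
      exact hmem.1
    · exact D.mem_blks.1 (hΛ p hpf hC)
  have hcard := congrArg Finset.card hout
  rw [Finset.card_sdiff, Finset.card_compl, D.blk, D.blk, D.two_blks B C hCB.symm] at hcard
  -- hence `k = lam + (n - k)`, forcing `k - lam = 1`
  have hk := D.lam_lt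
  have hle : D.k ≤ Fintype.card P := D.blk B ▸ Finset.card_le_univ _
  obtain ⟨w, hw⟩ := Nat.le.dest (show D.lam ≤ D.k by omega)
  have hn : Fintype.card P = D.lam + w + w := by omega
  have hc := D.count
  rw [hn] at hc
  have hkw : D.k = D.lam + w := hw.symm
  rw [hkw] at hc
  have : w * w = w := by zify at hc ⊢; linear_combination -hc
  rcases Nat.eq_zero_or_pos w with h0 | h0
  · omega
  · have : w = 1 := Nat.eq_of_mul_eq_mul_left h0 (by rw [this, mul_one])
    omega

theorem Axis.fixP_eq (hB : A.Axis B) (h : ∀ p, p ∉ D.pts B → A.σ p ≠ p) : A.fixP = D.pts B := by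
  ext p
  rw [A.mem_fixP]
  exact ⟨fun hp => by by_contra hn; exact h p hn hp, hB p⟩

theorem Axis.card_fixL (hB : A.Axis B) (h : ∀ p, p ∉ D.pts B → A.σ p ≠ p) : A.fixL.card = D.k := by
  rw [← A.card_fix, hB.fixP_eq h, D.blk]

end Aut

end Cfsg.Agent.ItoDesign
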