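import Cfsg.Agent.ItoDesign.Elation

/-!
Centres partition the axial group: the orbit structure of a projective space follows.
-/

set_option autoImplicit false
set_option linter.unusedSectionVars false

namespace Cfsg.Agent.ItoDesign

open Finset

variable {P L : Type*} [Fintype P] [Fintype L] [DecidableEq P] [DecidableEq L]

namespace Elations

variable {G : Type*} [Group G] [Finite G] [MulAction G P] [MulAction G L] {D : Design P L}
  (E : Elations G D)

/-- The elements of `K B` with centre `p`, with the identity. -/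
def Pt (B : L) (p : P) : Subgroup G where
  carrier := {h | h ∈ E.K B ∧ ∀ l, p ∈ D.pts l → h • l = l}
  one_mem' := ⟨one_mem _, fun _ _ => one_smul _ _⟩
  mul_mem' ha hb := ⟨mul_mem ha.1 hb.1, fun l hl => by rw [mul_smul, hb.2 l hl, ha.2 l hl]⟩
  inv_mem' ha := ⟨inv_mem ha.1, fun l hl => inv_smul_eq_iff.2 (ha.2 l hl).symm⟩

theorem mem_Pt {B : L} {p : P} {h : G} :
    h ∈ E.Pt B p ↔ h ∈ E.K B ∧ ∀ l, p ∈ D.pts l → h • l = l := Iff.rfl

theorem Pt_le (B : L) (p : P) : E.Pt B p ≤ E.K B := fun _ hh => hh.1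

theorem fixL_of_mem_Pt {B : L} {p : P} {h : G} (hh : h ∈ E.Pt B p) (h1 : h ≠ 1) :
    (E.aut h).fixL = D.blks p := by
  refine (Finset.eq_of_subset_of_card_le (fun l hl => ?_) ?_).symm
  · simpa using hh.2 l (D.mem_blks.1 hl)
  · rw [E.card_fixL hh.1 h1, D.card_blks]

theorem fix_iff {B : L} {p : P} {h : G} (hh : h ∈ E.Pt B p) (h1 : h ≠ 1) (l : L) :
    h • l = l ↔ p ∈ D.pts l := by
  rw [← D.mem_blks, ← E.fixL_of_mem_Pt hh h1, Aut.mem_fixL, aut_τ]

theorem exists_mem_Pt {B : L} {h : G} (hh : h ∈ E.K B) (h1 : h ≠ 1) :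
    ∃ p ∈ D.pts B, h ∈ E.Pt B p := by
  obtain ⟨p, hp, hF⟩ := E.exists_center hh h1
  refine ⟨p, hp, hh, fun l hl => ?_⟩
  have : l ∈ (E.aut h).fixL := hF ▸ D.mem_blks.2 hl
  simpa using this

theorem centre_unique {B B' : L} {p q : P} {h : G} (hp : h ∈ E.Pt B p) (hq : h ∈ E.Pt B' q)
    (h1 : h ≠ 1) : p = q := by
  by_contra hpq
  have e : D.blks p ∩ D.blks q = D.blks p := by
    rw [← E.fixL_of_mem_Pt hp h1, E.fixL_of_mem_Pt hq h1, Finset.inter_self]
  have h2 := D.card_blks_inter hpq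
  rw [e, D.card_blks] at h2
  have := D.lam_lt
  omega

theorem conj_Pt {B : L} {p : P} (g : G) {h : G} (hh : h ∈ E.Pt B p) :
    g * h * g⁻¹ ∈ E.Pt (g • B) (g • p) := by
  refine ⟨E.conj g B h hh.1, fun l hl => ?_⟩
  have : p ∈ D.pts (g⁻¹ • l) := by
    rw [← E.inv g, smul_inv_smul]; exact hl
  rw [mul_smul, mul_smul, hh.2 _ this, smul_inv_smul]

theorem card_Pt_eq {B : L} {p q : P} (hp : p ∈ D.pts B) (hq : q ∈ D.pts B) :
    Nat.card ↥(E.Pt B p) = Nat.card ↥(E.Pt B q) := by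
  obtain ⟨g, hgB, rfl⟩ := E.flag B p hp q hq
  exact Nat.card_congr
    { toFun := fun h => ⟨g * h * g⁻¹, by simpa [hgB] using E.conj_Pt g h.2⟩
      invFun := fun h => ⟨g⁻¹ * h * g, by
        have := E.conj_Pt g⁻¹ h.2
        rwa [inv_inv, inv_smul_smul, inv_smul_eq_iff.2 hgB.symm] at this⟩
      left_inv := fun h => Subtype.ext (by simp [mul_assoc])
      right_inv := fun h => Subtype.ext (by simp [mul_assoc]) }

/-- Counting the elements of a subgroup of `K B` by their centres. -/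
theorem card_by_centre {B : L} (U : Subgroup G) (hU : U ≤ E.K B) (T : Finset P) (hT : T ⊆ D.pts B)
    (hmem : ∀ h ∈ U, h ≠ 1 → ∀ p, h ∈ E.Pt B p → p ∈ T) (hP : ∀ p ∈ T, E.Pt B p ≤ U) {q : P}
    (hq : q ∈ D.pts B) :
    (Nat.card ↥U : ℤ) - 1 = (T.card : ℤ) * ((Nat.card ↥(E.Pt B q) : ℤ) - 1) := by
  classical
  have := Fintype.ofFinite G
  have hs : ∀ V : Subgroup G, (Nat.card ↥V : ℤ) - 1 = ((univ.filter fun g => g ∈ V ∧ g ≠ 1).card : ℤ) := by
    intro V
    have e : (univ.filter fun g => g ∈ V) = insert 1 (univ.filter fun g => g ∈ V ∧ g ≠ 1) := by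
      ext g
      by_cases hg : g = 1 <;> simp [hg, one_mem]
    rw [Nat.card_eq_fintype_card, Fintype.card_subtype, e, Finset.card_insert_of_notMem (by simp)]
    push_cast
    ring
  have e : (univ.filter fun g => g ∈ U ∧ g ≠ 1) =
      T.biUnion fun p => univ.filter fun g => g ∈ E.Pt B p ∧ g ≠ 1 := by
    ext g
    simp only [Finset.mem_filter, Finset.mem_univ, true_and, Finset.mem_biUnion]
    constructor
    · rintro ⟨hg, hg1⟩
      obtain ⟨p, -, hgp⟩ := E.exists_mem_Pt (hU hg) hg1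
      exact ⟨p, hmem g hg hg1 p hgp, hgp, hg1⟩
    · rintro ⟨p, hp, hgp, hg1⟩
      exact ⟨hP p hp hgp, hg1⟩
  rw [hs, e, Finset.card_biUnion]
  · push_cast
    rw [Finset.sum_congr rfl fun p hp => show ((univ.filter fun g => g ∈ E.Pt B p ∧ g ≠ 1).card : ℤ) =
      (Nat.card ↥(E.Pt B q) : ℤ) - 1 by rw [← hs, E.card_Pt_eq (hT hp) hq],
      Finset.sum_const, nsmul_eq_mul]
  · intro p _ p' _ hpp'
    rw [Function.onFun, Finset.disjoint_left]
    intro g hg hg'
    rw [Finset.mem_filter] at hg hg'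
    exact hpp' (E.centre_unique hg.2.1 hg'.2.1 hg.2.2)

/-- The parameters are those of a projective space. -/
theorem params {B C : L} (h : B ≠ C) {q : P} (hq : q ∈ D.pts B) :
    Nat.card ↥(E.Pt B q) = (E.orb B C).card ∧ D.k = D.lam * (E.orb B C).card + 1 ∧
      Nat.card ↥(E.S B C) + D.lam = D.k ∧ Nat.card ↥(E.K B) + D.k = Fintype.card P := by
  have hK := E.card_by_centre (E.K B) le_rfl (D.pts B) subset_rfl
    (fun g _ hg1 p hgp => E.mem_of_fixed hgp.1 hg1 (by
      -- the centre lies on the axis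
      obtain ⟨p', hp', hgp'⟩ := E.exists_mem_Pt hgp.1 hg1
      rw [E.centre_unique hgp hgp' hg1]
      exact E.axis B g hgp.1 p' hp')) (fun p _ => E.Pt_le B p) hq
  rw [D.blk] at hK
  have hS := E.card_by_centre (E.S B C) inf_le_left (D.pts B ∩ D.pts C) Finset.inter_subset_left
    (fun g hg hg1 p hgp => Finset.mem_inter.2 ⟨(E.fix_iff hgp hg1 B).1 (E.smul_axis hgp.1),
      (E.fix_iff hgp hg1 C).1 hg.2⟩)
    (fun p hp g hg => E.mem_S.2 ⟨hg.1, hg.2 C (Finset.mem_inter.1 hp).2⟩) hq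
  rw [D.two_blks B C h] at hS
  have hm : ((E.orb B C).card : ℤ) * Nat.card ↥(E.S B C) = Nat.card ↥(E.K B) := by
    exact_mod_cast E.card_orb_mul B C
  obtain ⟨m, hdm⟩ := E.orb_dvd h
  have hd2 := (E.two_le h).2
  have hk := D.lam_lt
  have hl := D.lam_pos
  have hkm : (D.k : ℤ) = (E.orb B C).card * m + 1 := by
    have : D.k = (E.orb B C).card * m + 1 := by omega
    exact_mod_cast this
  have hcnt : (D.lam : ℤ) * Fintype.card P + D.k = D.k * D.k + D.lam := by exact_mod_cast D.count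
  generalize hd : ((E.orb B C).card : ℤ) = d at hm hkm
  generalize ha : ((Nat.card ↥(E.Pt B q) : ℤ) - 1) = a at hK hS
  generalize hc : (Nat.card ↥(E.S B C) : ℤ) = c at hm hS
  generalize he : (Nat.card ↥(E.K B) : ℤ) = e at hm hK
  have ha0 : 0 ≤ a := by
    rw [← ha]
    have := Nat.card_pos (α := ↥(E.Pt B q))
    omega
  have hd2' : 2 ≤ d := by rw [← hd]; exact_mod_cast hd2
  have ha1 : 1 ≤ a := by
    by_contra h0
    have : a = 0 := by omega
    subst this
    have hc1 : c = 1 := by linear_combination hS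
    have := (E.two_le h).1
    omega
  -- `d - 1 = a * (k - lam * d)` and `k - lam * d` is congruent to one modulo `d`
  have hj : d - 1 = a * ((D.k : ℤ) - D.lam * d) := by linear_combination hK + hm - d * hS
  have hj1 : d - 1 = a * (1 + d * ((m : ℤ) - D.lam)) := by rw [hj, hkm]; ring
  have hml : (m : ℤ) = D.lam := by
    rcases lt_trichotomy ((m : ℤ) - D.lam) 0 with h0 | h0 | h0
    · nlinarith
    · omega
    · nlinarith
  have had : a = d - 1 := by
    rw [hml, sub_self, mul_zero, add_zero, mul_one] at hj1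
    exact hj1.symm
  have hck : c + D.lam = D.k := by
    rw [hkm, hml]
    rw [had] at hS
    linear_combination hS
  refine ⟨?_, ?_, ?_, ?_⟩
  · zify
    omega
  · zify
    rw [hkm, hml, hd, mul_comm]
  · zify
    rw [hc]
    exact hck
  · zify
    rw [he]
    have : (D.lam : ℤ) * (e + D.k - Fintype.card P) = 0 := by
      have hc' : c = (D.k : ℤ) - D.lam := by omega
      have hk' : (D.k : ℤ) = d * D.lam + 1 := by rw [hkm, hml]
      linear_combination -hcnt - (D.lam : ℤ) * hm + (D.lam : ℤ) * d * hc' - ((D.k : ℤ) - D.lam) * hk'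
    rcases mul_eq_zero.1 this with h0 | h0 <;> omega

/-- The axial group is transitive off its axis. -/
theorem exists_smul_eq {B : L} {x y : P} (hx : x ∉ D.pts B) (hy : y ∉ D.pts B) :
    ∃ h ∈ E.K B, h • x = y := by
  classical
  obtain ⟨C, hC⟩ := E.exists_ne B
  obtain ⟨q, hq⟩ : (D.pts B).Nonempty := Finset.card_pos.1 (by
    rw [D.blk]; have := D.lam_lt; omega)
  have hp := (E.params (Ne.symm hC) hq).2.2.2
  let f : ↥(E.K B) → {z // z ∈ (D.pts B)ᶜ} := fun h => ⟨(h : G) • x, by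
    rw [Finset.mem_compl]
    intro hm
    apply hx
    rwa [← E.inv (h : G), E.smul_axis h.2]⟩
  have hf : Function.Injective f := by
    intro a b hab
    have e : (a : G) • x = (b : G) • x := congrArg Subtype.val hab
    refine Subtype.ext (inv_mul_eq_one.1 (E.semireg B _ (mul_mem (inv_mem b.2) a.2) x hx ?_)).symm
    rw [mul_smul, e, inv_smul_smul]
  have hcard : Nat.card ↥(E.K B) = Nat.card {z // z ∈ (D.pts B)ᶜ} := by
    rw [Nat.card_eq_fintype_card (α := {z // z ∈ (D.pts B)ᶜ}), Fintype.card_coe, Finset.card_compl, D.blk]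
    omega
  obtain ⟨h, hh⟩ := ((Nat.bijective_iff_injective_and_card f).2 ⟨hf, hcard⟩).2
    ⟨y, Finset.mem_compl.2 hy⟩
  exact ⟨h, h.2, congrArg Subtype.val hh⟩

theorem eq_of_smul_eq {B : L} {g h : G} (hg : g ∈ E.K B) (hh : h ∈ E.K B) {x : P}
    (hx : x ∉ D.pts B) (e : g • x = h • x) : g = h :=
  (inv_mul_eq_one.1 (E.semireg B _ (mul_mem (inv_mem hh) hg) x hx
    (by rw [mul_smul, e, inv_smul_smul]))).symm

theorem conj_Pt_self {B : L} {p : P} (hp : p ∈ D.pts B) {g h : G} (hg : g ∈ E.K B)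
    (hh : h ∈ E.Pt B p) : g * h * g⁻¹ ∈ E.Pt B p := by
  have := E.conj_Pt g hh
  rwa [E.smul_axis hg, E.axis B g hg p hp] at this

/-- **The axial groups are commutative.** -/
theorem commute {B : L} {g h : G} (hg : g ∈ E.K B) (hh : h ∈ E.K B) : g * h = h * g := by
  have key : ∀ p q : P, p ∈ D.pts B → q ∈ D.pts B → p ≠ q → ∀ a ∈ E.Pt B p, ∀ b ∈ E.Pt B q,
      a * b = b * a := by
    intro p q hp hq hpq a ha b hb
    have h1 : a * b * a⁻¹ * b⁻¹ ∈ E.Pt B q := mul_mem (E.conj_Pt_self hq ha.1 hb) (inv_mem hb)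
    have h2 : a * b * a⁻¹ * b⁻¹ ∈ E.Pt B p := by
      have := mul_mem ha (E.conj_Pt_self hp hb.1 (inv_mem ha))
      simpa [mul_assoc] using this
    by_contra hne
    refine hpq (E.centre_unique h2 h1 fun e => hne ?_)
    calc a * b = a * b * a⁻¹ * b⁻¹ * (b * a) := by group
      _ = b * a := by rw [e, one_mul]
  by_cases hg1 : g = 1
  · simp [hg1]
  by_cases hh1 : h = 1
  · simp [hh1]
  obtain ⟨p, hp, hgp⟩ := E.exists_mem_Pt hg hg1
  obtain ⟨q, hq, hhq⟩ := E.exists_mem_Pt hh hh1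
  by_cases hpq : p = q
  · subst hpq
    -- pick an element with a different centre
    obtain ⟨r, hr, hrp⟩ : ∃ r ∈ D.pts B, r ≠ p := Finset.exists_mem_ne (by
      rw [D.blk]; have := D.lam_lt; omega) p
    obtain ⟨u, hu, hu1⟩ : ∃ u ∈ E.Pt B r, u ≠ 1 := by
      obtain ⟨C, hC⟩ := E.exists_ne B
      have h2 := (E.params (Ne.symm hC) hr).1
      have h3 := (E.two_le (Ne.symm hC)).2
      have : Nontrivial ↥(E.Pt B r) := Finite.one_lt_card_iff_nontrivial.1 (by omega)
      obtain ⟨u, hu⟩ := _root_.exists_ne (1 : ↥(E.Pt B r))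
      exact ⟨u, u.2, fun e => hu (Subtype.ext e)⟩
    have hgu := key p r hp hr hrp.symm g hgp u hu
    by_cases hhu1 : h * u = 1
    · have e : h = u⁻¹ := eq_inv_of_mul_eq_one_left hhu1
      exact absurd (E.centre_unique hhq (e ▸ inv_mem hu : h ∈ E.Pt B r) hh1) hrp.symm
    obtain ⟨s, hs, hhs⟩ := E.exists_mem_Pt (mul_mem hh hu.1) hhu1
    have hsp : p ≠ s := by
      rintro rfl
      have : u ∈ E.Pt B p := by
        have := mul_mem (inv_mem hhq) hhs
        rwa [inv_mul_cancel_left] at this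
      exact hrp (E.centre_unique hu this hu1)
    have hghu := key p s hp hs hsp g hgp (h * u) hhs
    calc g * h = g * (h * u) * u⁻¹ := by group
      _ = h * (u * g) * u⁻¹ := by rw [hghu, mul_assoc h u g]
      _ = h * g := by rw [← hgu]; group
  · exact key p q hp hq hpq g hgp h hhq

end Elations

end Cfsg.Agent.ItoDesign
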