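import Cfsg.Agent.ItoDesign.Shear

/-!
A symmetric design with an equivariant family of semiregular axial groups is the design of points and
hyperplanes of a projective space over a finite field.
-/

set_option autoImplicit false
set_option linter.unusedSectionVars false

namespace Cfsg.Agent.ItoDesign

open Finset Matrix
open scoped LinearAlgebra.Projectivization

variable {P L : Type*} [Fintype P] [Fintype L] [DecidableEq P] [DecidableEq L]

/-- The dot product against a vector is the dot product against a representative, up to a unit. -/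
theorem dot_rep_iff {F : Type*} [Field F] {m : ℕ} (w v : Fin m → F) (hv : v ≠ 0) :
    w ⬝ᵥ (Projectivization.mk F v hv).rep = 0 ↔ w ⬝ᵥ v = 0 := by
  obtain ⟨a, ha⟩ := Projectivization.exists_smul_eq_mk_rep F v hv
  rw [← ha, Units.smul_def, dotProduct_smul, smul_eq_mul, mul_eq_zero]
  simp [a.ne_zero]

/-- A subspace of codimension one is the orthogonal of a nonzero vector. -/
theorem exists_normal {F : Type*} [Field F] [Fintype F] {n : ℕ} (U : Submodule F (Fin (n + 1) → F))
    (hU : Nat.card ↥U = Fintype.card F ^ n) : ∃ a : Fin (n + 1) → F, a ≠ 0 ∧ ∀ x, a ⬝ᵥ x = 0 ↔ x ∈ U := by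
  classical
  have hq : 2 ≤ Fintype.card F := Fintype.one_lt_card
  have hV : Module.finrank F (Fin (n + 1) → F) = n + 1 := by simp
  have hUr : Module.finrank F ↥U = n := by
    have h := Module.natCard_eq_pow_finrank (K := F) (V := ↥U)
    rw [hU, Nat.card_eq_fintype_card] at h
    exact (Nat.pow_right_injective hq h).symm
  have hlt : U < ⊤ := lt_top_iff_ne_top.2 fun e => by
    rw [e, finrank_top, hV] at hUr
    omega
  obtain ⟨f, hf0, hfU⟩ := Submodule.exists_dual_map_eq_bot_of_lt_top hlt inferInstance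
  have hker : U = LinearMap.ker f := by
    refine Submodule.eq_of_le_of_finrank_eq (fun x hx => ?_) ?_
    · have hmem : f x ∈ U.map f := Submodule.mem_map_of_mem hx
      rw [hfU] at hmem
      exact (Submodule.mem_bot F).1 hmem
    · have h1 := f.finrank_range_add_finrank_ker
      have h2 : LinearMap.range f = ⊤ := by
        rw [LinearMap.range_eq_top]
        obtain ⟨x, hx⟩ : ∃ x, f x ≠ 0 := by
          by_contra hall
          push Not at hall
          exact hf0 (LinearMap.ext hall)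
        intro c
        exact ⟨(c / f x) • x, by rw [map_smul, smul_eq_mul, div_mul_cancel₀ c hx]⟩
      rw [h2, finrank_top, Module.finrank_self, hV] at h1
      omega
  have key : ∀ x : Fin (n + 1) → F, (fun i => f (Pi.single i 1)) ⬝ᵥ x = f x := by
    intro x
    conv_rhs => rw [show x = ∑ i, x i • (Pi.single i 1 : Fin (n + 1) → F) from (pi_eq_sum_univ' x)]
    simp [dotProduct, map_sum, map_smul, mul_comm]
  refine ⟨fun i => f (Pi.single i 1), fun e => hf0 (LinearMap.ext fun x => ?_), fun x => ?_⟩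
  · rw [← key, e, zero_dotProduct]; rfl
  · rw [key, hker, LinearMap.mem_ker]

namespace Elations

variable {G : Type*} [Group G] [Finite G] [MulAction G P] [MulAction G L] {D : Design P L}
  (E : Elations G D)

set_option maxHeartbeats 1000000 in
include E in
/-- **The design is a projective space.** -/
theorem exists_model [Nonempty L] : ∃ (F : Type) (_ : Field F) (_ : Fintype F) (m : ℕ)
    (Φ : P ≃ ℙ F (Fin (m + 1) → F)), 2 ≤ m ∧
    (∀ l, ∃ w : Fin (m + 1) → F, w ≠ 0 ∧ ∀ p, p ∈ D.pts l ↔ w ⬝ᵥ (Φ p).rep = 0) ∧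
    (∀ w : Fin (m + 1) → F, w ≠ 0 → ∃ l, ∀ p, p ∈ D.pts l ↔ w ⬝ᵥ (Φ p).rep = 0) := by
  classical
  obtain ⟨B⟩ := ‹Nonempty L›
  obtain ⟨C, hC⟩ := E.exists_ne B
  obtain ⟨o, -, ho⟩ : ∃ o ∈ D.pts C, o ∉ D.pts B := by
    by_contra hall
    push Not at hall
    exact hC (D.eq_of_subset hall)
  let _ := E.commGroupK B
  set T := E.spread B o ho with hT
  obtain ⟨F, hF, hFin, n, Ψ, hn, hcard, hline⟩ := T.exists_coords
  let kk : (Fin (n + 1) → F) → ↥(E.K B) := fun x => Additive.toMul (Ψ x)
  have hkk_add : ∀ x y, kk (x + y) = kk x * kk y := fun x y => congrArg Additive.toMul (map_add Ψ x y)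
  have hkk_inj : Function.Injective kk := fun x y h => Ψ.injective (Additive.toMul.injective h)
  have hkk_zero : kk 0 = 1 := congrArg Additive.toMul (map_zero Ψ)
  have hkk_surj : Function.Surjective kk := fun h => ⟨Ψ.symm (Additive.ofMul h), by simp [kk]⟩
  have hkkne : ∀ {x}, x ≠ 0 → (kk x : G) ≠ 1 := fun hx e => hx (hkk_inj (Subtype.ext e |>.trans hkk_zero.symm))
  -- centres
  have hctr : ∀ p ∈ D.pts B, ∃ x, x ≠ 0 ∧ (kk x : G) ∈ E.Pt B p := by
    intro p hp
    obtain ⟨v, hv⟩ := T.exists_ne_zero ⟨p, hp⟩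
    exact ⟨Ψ.symm v, fun e => hv (Subtype.ext (by simpa using congrArg Ψ e)), by
      simp only [kk, AddEquiv.apply_symm_apply]; exact v.2⟩
  choose xc hxc0 hxc using hctr
  have hprop : ∀ (p : P) (hp : p ∈ D.pts B) (x), (kk x : G) ∈ E.Pt B p → ∃ a : F, x = a • xc p hp :=
    fun p hp x hx => (hline (xc p hp) (hxc0 p hp) ⟨p, hp⟩ (hxc p hp) x).1 hx
  have hprop' : ∀ (p : P) (hp : p ∈ D.pts B) (a : F), (kk (a • xc p hp) : G) ∈ E.Pt B p :=
    fun p hp a => (hline (xc p hp) (hxc0 p hp) ⟨p, hp⟩ (hxc p hp) _).2 ⟨a, rfl⟩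
  -- coordinates off the axis
  have hoff : ∀ x ∉ D.pts B, ∃ v, (kk v : G) • o = x := by
    intro x hx
    obtain ⟨h, hh, e⟩ := E.exists_smul_eq ho hx
    obtain ⟨v, hv⟩ := hkk_surj ⟨h, hh⟩
    exact ⟨v, by rw [hv]; exact e⟩
  choose xo hxo using hoff
  have hkk_out : ∀ v, (kk v : G) • o ∉ D.pts B := fun v h =>
    ho ((E.inv (kk v : G) o B).1 ((E.smul_axis (kk v).2).symm ▸ h))
  have hxo_eq : ∀ v, xo ((kk v : G) • o) (hkk_out v) = v := fun v =>
    hkk_inj (Subtype.ext (E.eq_of_smul_eq (kk _).2 (kk v).2 ho (hxo _ _)))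
  -- the point map
  let vec : P → (Fin (n + 2) → F) := fun p =>
    if hp : p ∈ D.pts B then vecCons 0 (xc p hp) else vecCons 1 (xo p hp)
  have hvec : ∀ p, vec p ≠ 0 := by
    intro p e
    by_cases hp : p ∈ D.pts B
    · simp only [vec, dif_pos hp] at e
      exact hxc0 p hp (funext fun i => by simpa using congrFun e i.succ)
    · simp only [vec, dif_neg hp] at e
      simpa using congrFun e 0
  let φ : P → ℙ F (Fin (n + 2) → F) := fun p => Projectivization.mk F (vec p) (hvec p)
  have hsucc : ∀ (a s : F) (x : Fin (n + 1) → F), a • vecCons s x = vecCons (a * s) (a • x) := fun a s x => by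
    simp [Matrix.smul_cons]
  have hφ : Function.Bijective φ := by
    constructor
    · intro p p' hpp'
      obtain ⟨a, ha⟩ := (Projectivization.mk_eq_mk_iff' F _ _ _ _).1 hpp'
      by_cases hp : p ∈ D.pts B <;> by_cases hp' : p' ∈ D.pts B <;>
        simp only [vec, dif_pos, dif_neg, hp, hp', not_false_iff, hsucc] at ha
      · obtain ⟨-, h2⟩ := vecCons_inj.1 ha
        refine E.centre_unique (B' := B) (hxc p hp) ?_ (hkkne (hxc0 p hp))
        rw [← h2]; exact hprop' p' hp' a
      · obtain ⟨h1, h2⟩ := vecCons_inj.1 ha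
        rw [mul_one] at h1
        rw [h1, zero_smul] at h2
        exact absurd h2.symm (hxc0 p hp)
      · obtain ⟨h1, -⟩ := vecCons_inj.1 ha
        rw [mul_zero] at h1
        exact absurd h1 zero_ne_one
      · obtain ⟨h1, h2⟩ := vecCons_inj.1 ha
        rw [mul_one] at h1
        rw [h1, one_smul] at h2
        rw [← hxo p hp, ← hxo p' hp', h2]
    · intro z
      induction z using Projectivization.ind with
      | h v hv =>
      obtain ⟨s, x, rfl⟩ : ∃ s x, v = vecCons s x := ⟨vecHead v, vecTail v, (cons_head_tail v).symm⟩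
      by_cases hs : s = 0
      · subst hs
        have hx : x ≠ 0 := fun e => hv (by rw [e, cons_zero_zero])
        obtain ⟨p, hp, hxp⟩ := E.exists_mem_Pt (kk x).2 (hkkne hx)
        obtain ⟨a, ha⟩ := hprop p hp x hxp
        have ha0 : a ≠ 0 := fun e => hx (by rw [ha, e, zero_smul])
        refine ⟨p, (Projectivization.mk_eq_mk_iff' F _ _ _ _).2 ⟨a⁻¹, ?_⟩⟩
        simp only [vec, dif_pos hp, hsucc, mul_zero]
        rw [ha, smul_smul, inv_mul_cancel₀ ha0, one_smul]
      · refine ⟨(kk (s⁻¹ • x) : G) • o, (Projectivization.mk_eq_mk_iff' F _ _ _ _).2 ⟨s⁻¹, ?_⟩⟩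
        simp only [vec, dif_neg (hkk_out _), hxo_eq, hsucc, inv_mul_cancel₀ hs]
  let Φ : P ≃ ℙ F (Fin (n + 2) → F) := Equiv.ofBijective φ hφ
  have hdot : ∀ (w : Fin (n + 2) → F) p, w ⬝ᵥ (Φ p).rep = 0 ↔ w ⬝ᵥ vec p = 0 := fun w p =>
    dot_rep_iff w (vec p) (hvec p)
  -- the blocks are hyperplanes
  have hblk : ∀ l, ∃ w : Fin (n + 2) → F, w ≠ 0 ∧ ∀ p, p ∈ D.pts l ↔ w ⬝ᵥ (Φ p).rep = 0 := by
    intro l
    by_cases hlB : l = B
    · subst hlB
      refine ⟨vecCons 1 0, fun e => by simpa using congrFun e 0, fun p => ?_⟩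
      rw [hdot]
      by_cases hp : p ∈ D.pts l <;> simp [vec, hp]
    obtain ⟨x0, hx0, hx0B⟩ : ∃ x ∈ D.pts l, x ∉ D.pts B := by
      by_contra hall
      push Not at hall
      exact hlB (D.eq_of_subset hall)
    have hpar := fun q (hq : q ∈ D.pts B) => E.params (Ne.symm hlB) hq
    obtain ⟨q, hq⟩ : (D.pts B).Nonempty := Finset.card_pos.1 (by
      rw [D.blk]; have := D.lam_lt; omega)
    obtain ⟨hd, hk, hcS, -⟩ := hpar q hq
    have hdq : (E.orb B l).card = Fintype.card F := by
      rw [← hd, ← hcard ⟨q, hq⟩]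
      exact (Nat.card_congr (Subgroup.subgroupOfEquivOfLe (E.Pt_le B q)).toEquiv).symm
    have hscalar : ∀ (a : F) (x : Fin (n + 1) → F), (kk x : G) • l = l → (kk (a • x) : G) • l = l := by
      intro a x hx
      by_cases hx0' : x = 0
      · subst hx0'; rwa [smul_zero]
      obtain ⟨p, hp, hxp⟩ := E.exists_mem_Pt (kk x).2 (hkkne hx0')
      have hpl : p ∈ D.pts l := (E.fix_iff hxp (hkkne hx0') l).1 hx
      exact ((hline x hx0' ⟨p, hp⟩ hxp (a • x)).2 ⟨a, rfl⟩ :
        (kk (a • x) : G) ∈ E.Pt B p).2 l hpl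
    let U : Submodule F (Fin (n + 1) → F) :=
      { carrier := {x | (kk x : G) • l = l}
        zero_mem' := by
          show (kk 0 : G) • l = l
          rw [hkk_zero]; exact one_smul _ _
        add_mem' := fun {x y} (hx : (kk x : G) • l = l) (hy : (kk y : G) • l = l) => by
          show (kk (x + y) : G) • l = l
          rw [hkk_add, Subgroup.coe_mul, mul_smul, hy, hx]
        smul_mem' := hscalar }
    have hUcard : Nat.card ↥U = Nat.card ↥(E.S B l) := by
      refine Nat.card_congr (Equiv.ofBijective (fun x : ↥U => (⟨(kk x.1 : G), (kk x.1).2, x.2⟩ : ↥(E.S B l))) ⟨?_, ?_⟩)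
      · intro x y hxy
        exact Subtype.ext (hkk_inj (Subtype.ext (congrArg (fun z : ↥(E.S B l) => (z : G)) hxy)))
      · rintro ⟨g, hg, hgl⟩
        obtain ⟨x, hx⟩ := hkk_surj ⟨g, hg⟩
        exact ⟨⟨x, show (kk x : G) • l = l by rw [hx]; exact hgl⟩, Subtype.ext (congrArg (fun z : ↥(E.K B) => (z : G)) hx :)⟩
    have hKcard : Nat.card ↥(E.K B) = Fintype.card F ^ (n + 1) := by
      rw [← Nat.card_congr (Equiv.ofBijective kk ⟨hkk_inj, hkk_surj⟩), Nat.card_eq_fintype_card]
      simp
    have hU : Nat.card ↥U = Fintype.card F ^ n := by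
      have h := E.card_orb_mul B l
      rw [← hUcard, hdq, hKcard, pow_succ'] at h
      exact Nat.eq_of_mul_eq_mul_left Fintype.card_pos h
    obtain ⟨a, ha0, ha⟩ := exists_normal U hU
    set h0 := xo x0 hx0B with hh0
    -- the points of `l` off the axis form a coset
    have hcoset : ∀ v, (kk v : G) • o ∈ D.pts l ↔ v - h0 ∈ U := by
      intro v
      have hmaps : ∀ g : ↥(E.S B l), (g : G) • x0 ∈ D.pts l \ D.pts B := by
        intro g
        refine Finset.mem_sdiff.2 ⟨?_, fun h => hx0B ((E.inv (g : G) x0 B).1 ((E.smul_axis g.2.1).symm ▸ h))⟩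
        have := (E.inv (g : G) x0 l).2 hx0
        rwa [g.2.2] at this
      let fS : ↥(E.S B l) → {z // z ∈ D.pts l \ D.pts B} := fun g => ⟨(g : G) • x0, hmaps g⟩
      have hfS : Function.Injective fS := fun g g' e =>
        Subtype.ext (E.eq_of_smul_eq g.2.1 g'.2.1 hx0B (congrArg Subtype.val e))
      have hfSs := ((Nat.bijective_iff_injective_and_card fS).2 ⟨hfS, by
        rw [Nat.card_eq_fintype_card (α := {z // z ∈ D.pts l \ D.pts B}), Fintype.card_coe,
          Finset.card_sdiff, D.blk, D.two_blks B l (Ne.symm hlB)]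
        omega⟩).2
      have hx0o : x0 = (kk h0 : G) • o := (hxo x0 hx0B).symm
      have hsplit : ∀ u, (kk u : G) • x0 = (kk (u + h0) : G) • o := fun u => by
        rw [hx0o, hkk_add, Subgroup.coe_mul, mul_smul]
      constructor
      · intro hv
        obtain ⟨g, hg⟩ := hfSs ⟨(kk v : G) • o, Finset.mem_sdiff.2 ⟨hv, hkk_out v⟩⟩
        have e : (g : G) • x0 = (kk v : G) • o := congrArg Subtype.val hg
        obtain ⟨u, hu⟩ := hkk_surj ⟨g, g.2.1⟩
        have hu' : (kk u : G) = g := congrArg Subtype.val hu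
        rw [← hu', hsplit] at e
        have e2 : u + h0 = v := hkk_inj (Subtype.ext (E.eq_of_smul_eq (kk _).2 (kk v).2 ho e))
        show (kk (v - h0) : G) • l = l
        rw [← e2, add_sub_cancel_right, hu', g.2.2]
      · intro hv
        have hv' : (kk (v - h0) : G) • l = l := hv
        have := hsplit (v - h0)
        rw [sub_add_cancel] at this
        rw [← this]
        have h2 := (E.inv (kk (v - h0) : G) x0 l).2 hx0
        rwa [hv'] at h2
    refine ⟨vecCons (-(a ⬝ᵥ h0)) a, fun e => ha0 (funext fun i => by simpa using congrFun e i.succ),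
      fun p => ?_⟩
    rw [hdot]
    by_cases hp : p ∈ D.pts B
    · simp only [vec, dif_pos hp, cons_dotProduct_cons, mul_zero, zero_add, ha]
      exact ⟨fun h => (hxc p hp).2 l h, fun h => (E.fix_iff (hxc p hp) (hkkne (hxc0 p hp)) l).1 h⟩
    · simp only [vec, dif_neg hp, cons_dotProduct_cons, mul_one]
      rw [neg_add_eq_sub, ← dotProduct_sub, ha, ← hcoset, hxo]
  refine ⟨F, hF, hFin, n + 1, Φ, by omega, hblk, ?_⟩
  choose w hw0 hw using hblk
  let ν : L → ℙ F (Fin (n + 2) → F) := fun l => Projectivization.mk F (w l) (hw0 l)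
  have hscale : ∀ (u u' : Fin (n + 2) → F) (hu : u ≠ 0) (hu' : u' ≠ 0),
      Projectivization.mk F u hu = Projectivization.mk F u' hu' → ∀ v, u ⬝ᵥ v = 0 ↔ u' ⬝ᵥ v = 0 := by
    intro u u' hu hu' e v
    obtain ⟨a, ha⟩ := (Projectivization.mk_eq_mk_iff F _ _ hu hu').1 e
    rw [← ha, Units.smul_def, smul_dotProduct, smul_eq_mul, mul_eq_zero]
    simp [a.ne_zero]
  have hν : Function.Injective ν := fun l l' e =>
    D.pts_injective (Finset.ext fun p => by rw [hw, hw, hscale _ _ (hw0 l) (hw0 l') e])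
  have : Finite (ℙ F (Fin (n + 2) → F)) := Finite.of_equiv P Φ
  have hνs : Function.Surjective ν := ((Nat.bijective_iff_injective_and_card ν).2 ⟨hν, by
    rw [← Nat.card_congr Φ, Nat.card_eq_fintype_card, Nat.card_eq_fintype_card, D.card_eq]⟩).2
  intro u hu
  obtain ⟨l, hl⟩ := hνs (Projectivization.mk F u hu)
  exact ⟨l, fun p => by rw [hw, hscale _ _ (hw0 l) hu hl]⟩

end Elations

end Cfsg.Agent.ItoDesign
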