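import Cfsg.Agent.ItoDesign.Basic

/-!
Itô's argument: in a symmetric design with a doubly transitive group and semiregular axial groups,
every axial automorphism has a centre, the axial groups are regular off the axis and the lines are full.
-/

set_option autoImplicit false
set_option linter.unusedSectionVars false

namespace Cfsg.Agent.ItoDesign

open Finset

variable {P L : Type*} [Fintype P] [Fintype L] [DecidableEq P] [DecidableEq L]

/-- An equivariant family of semiregular axial groups of a design. -/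
structure Elations (G : Type*) [Group G] [MulAction G P] [MulAction G L] (D : Design P L) where
  K : L → Subgroup G
  inv : ∀ (g : G) (p : P) (l : L), g • p ∈ D.pts (g • l) ↔ p ∈ D.pts l
  axis : ∀ B, ∀ h ∈ K B, ∀ p ∈ D.pts B, h • p = p
  semireg : ∀ B, ∀ h ∈ K B, ∀ p, p ∉ D.pts B → h • p = p → h = 1
  conj : ∀ (g : G) B, ∀ h ∈ K B, g * h * g⁻¹ ∈ K (g • B)
  nontriv : ∀ B, ∃ h ∈ K B, h ≠ 1
  two : ∀ l m l' m' : L, l ≠ m → l' ≠ m' → ∃ g : G, g • l = l' ∧ g • m = m'
  flag : ∀ B, ∀ p ∈ D.pts B, ∀ q ∈ D.pts B, ∃ g : G, g • B = B ∧ g • p = q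

namespace Elations

variable {G : Type*} [Group G] [Finite G] [MulAction G P] [MulAction G L] {D : Design P L}
  (E : Elations G D)

/-- The automorphism given by a group element. -/
def aut (g : G) : Aut D := ⟨MulAction.toPerm g, MulAction.toPerm g, E.inv g⟩

@[simp] theorem aut_σ (g : G) (p : P) : (E.aut g).σ p = g • p := rfl

@[simp] theorem aut_τ (g : G) (l : L) : (E.aut g).τ l = g • l := rfl

theorem axis_aut {B : L} {h : G} (hh : h ∈ E.K B) : (E.aut h).Axis B := E.axis B h hh

theorem smul_axis {B : L} {h : G} (hh : h ∈ E.K B) : h • B = B := (E.axis_aut hh).fixed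

theorem card_fixL {B : L} {h : G} (hh : h ∈ E.K B) (h1 : h ≠ 1) : (E.aut h).fixL.card = D.k :=
  (E.axis_aut hh).card_fixL fun p hp hf => h1 (E.semireg B h hh p hp hf)

theorem mem_of_fixed {B : L} {h : G} (hh : h ∈ E.K B) (h1 : h ≠ 1) {p : P} (hp : h • p = p) :
    p ∈ D.pts B := by
  by_contra hn
  exact h1 (E.semireg B h hh p hn hp)

theorem conj_of_fixed {B : L} {g h : G} (hg : g • B = B) (hh : h ∈ E.K B) :
    g * h * g⁻¹ ∈ E.K B := hg ▸ E.conj g B h hh

/-- `K X ⊓ G_Y`. -/
def S (X Y : L) : Subgroup G := E.K X ⊓ MulAction.stabilizer G Y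

theorem mem_S {X Y : L} {h : G} : h ∈ E.S X Y ↔ h ∈ E.K X ∧ h • Y = Y := Iff.rfl

theorem card_K_smul (g : G) (X : L) : Nat.card ↥(E.K X) = Nat.card ↥(E.K (g • X)) :=
  Nat.card_congr
    { toFun := fun h => ⟨g * h * g⁻¹, E.conj g X h h.2⟩
      invFun := fun h => ⟨g⁻¹ * h * g, by simpa using E.conj g⁻¹ _ h h.2⟩
      left_inv := fun h => Subtype.ext (by simp [mul_assoc])
      right_inv := fun h => Subtype.ext (by simp [mul_assoc]) }

theorem card_S_smul (g : G) (X Y : L) :
    Nat.card ↥(E.S X Y) = Nat.card ↥(E.S (g • X) (g • Y)) :=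
  Nat.card_congr
    { toFun := fun h => ⟨g * h * g⁻¹, E.conj g X h h.2.1, by
        show (g * h * g⁻¹) • g • Y = g • Y
        rw [mul_smul, mul_smul, inv_smul_smul, (E.mem_S.1 h.2).2]⟩
      invFun := fun h => ⟨g⁻¹ * h * g, by simpa using E.conj g⁻¹ _ h h.2.1, by
        show (g⁻¹ * h * g) • Y = Y
        rw [mul_smul, mul_smul, (E.mem_S.1 h.2).2, inv_smul_smul]⟩
      left_inv := fun h => Subtype.ext (by simp [mul_assoc])
      right_inv := fun h => Subtype.ext (by simp [mul_assoc]) }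

theorem card_S_eq {X Y X' Y' : L} (h : X ≠ Y) (h' : X' ≠ Y') :
    Nat.card ↥(E.S X Y) = Nat.card ↥(E.S X' Y') := by
  obtain ⟨g, rfl, rfl⟩ := E.two X Y X' Y' h h'
  exact E.card_S_smul g X Y

theorem card_K_eq {X X' : L} : Nat.card ↥(E.K X) = Nat.card ↥(E.K X') := by
  by_cases h : X = X'
  · rw [h]
  · obtain ⟨g, hg, -⟩ := E.two X X' X' X h (Ne.symm h)
    rw [E.card_K_smul g X, hg]

/-- The orbit of `Y` under `K X`. -/
noncomputable def orb (X Y : L) : Finset L := by
  classical exact univ.filter fun l => ∃ h ∈ E.K X, h • Y = l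

theorem mem_orb {X Y l : L} : l ∈ E.orb X Y ↔ ∃ h ∈ E.K X, h • Y = l := by simp [orb]

theorem self_mem_orb (X Y : L) : Y ∈ E.orb X Y := E.mem_orb.2 ⟨1, one_mem _, one_smul _ _⟩

theorem orb_eq_of_mem {X Y l : L} (h : l ∈ E.orb X Y) : E.orb X l = E.orb X Y := by
  obtain ⟨g, hg, rfl⟩ := E.mem_orb.1 h
  ext m
  simp only [mem_orb]
  constructor
  · rintro ⟨a, ha, rfl⟩
    exact ⟨a * g, mul_mem ha hg, mul_smul _ _ _⟩
  · rintro ⟨a, ha, rfl⟩
    exact ⟨a * g⁻¹, mul_mem ha (inv_mem hg), by rw [mul_smul, inv_smul_smul]⟩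

theorem ne_of_mem_orb {X Y l : L} (hne : X ≠ Y) (h : l ∈ E.orb X Y) : X ≠ l := by
  obtain ⟨g, hg, rfl⟩ := E.mem_orb.1 h
  intro e
  exact hne ((MulAction.injective g) ((E.smul_axis hg).trans e))

theorem card_orb_mul (X Y : L) :
    (E.orb X Y).card * Nat.card ↥(E.S X Y) = Nat.card ↥(E.K X) := by
  have h := (MulAction.stabilizer ↥(E.K X) Y).index_mul_card
  rw [← h]
  congr 1
  · rw [MulAction.index_stabilizer, ← Set.ncard_coe_finset]
    congr 1
    ext l
    simp [MulAction.mem_orbit_iff, mem_orb, Subgroup.smul_def]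
  · exact Nat.card_congr
      { toFun := fun h => ⟨⟨h, h.2.1⟩, h.2.2⟩
        invFun := fun h => ⟨(h : ↥(E.K X)), (h : ↥(E.K X)).2, h.2⟩
        left_inv := fun _ => rfl
        right_inv := fun _ => rfl }

include E in
theorem exists_ne (B : L) : ∃ C : L, C ≠ B := by
  by_contra hc
  push Not at hc
  have h1 : Fintype.card L ≤ 1 := Fintype.card_le_one_iff.2 fun a b => (hc a).trans (hc b).symm
  have h2 : D.k ≤ Fintype.card P := D.blk B ▸ Finset.card_le_univ _
  have := D.lam_lt
  have := D.card_eq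
  omega

theorem card_orb_eq {X Y X' Y' : L} (h : X ≠ Y) (h' : X' ≠ Y') :
    (E.orb X Y).card = (E.orb X' Y').card := by
  refine Nat.eq_of_mul_eq_mul_right (Nat.card_pos (α := ↥(E.S X Y))) ?_
  rw [E.card_orb_mul, E.card_S_eq h h', E.card_orb_mul]
  exact E.card_K_eq

/-- The counting identity `(e - 1) lam = (c - 1) k`. -/
theorem param {B C : L} (h : B ≠ C) :
    ((Nat.card ↥(E.K B) : ℤ) - 1) * D.lam = ((Nat.card ↥(E.S B C) : ℤ) - 1) * D.k := by
  classical
  have := Fintype.ofFinite G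
  set s : Finset G := univ.filter fun g => g ∈ E.K B ∧ g ≠ 1 with hs
  have hs1 : (s.card : ℤ) = (Nat.card ↥(E.K B) : ℤ) - 1 := by
    have e : insert 1 s = univ.filter fun g => g ∈ E.K B := by
      ext g
      by_cases hg : g = 1 <;> simp [hs, hg, one_mem]
    have e2 : (univ.filter fun g => g ∈ E.K B).card = Nat.card ↥(E.K B) := by
      rw [Nat.card_eq_fintype_card, Fintype.card_subtype]
    rw [← e2, ← e, Finset.card_insert_of_notMem (by simp [hs])]
    push_cast
    ring
  have h3 := Finset.sum_card_bipartiteAbove_eq_sum_card_bipartiteBelow (s := s)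
    (t := (univ : Finset L).erase B) fun g l => g • l = l
  simp only [Finset.bipartiteAbove, Finset.bipartiteBelow] at h3
  have hL : ∀ g ∈ s, (((univ : Finset L).erase B).filter fun l => g • l = l).card + 1 = D.k := by
    intro g hg
    rw [hs, mem_filter] at hg
    rw [← E.card_fixL hg.2.1 hg.2.2]
    have e : ((univ : Finset L).erase B).filter (fun l => g • l = l) = (E.aut g).fixL.erase B := by
      ext l
      simp [and_comm]
    rw [e, Finset.card_erase_add_one]
    simpa using E.smul_axis hg.2.1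
  have hR : ∀ l ∈ (univ : Finset L).erase B,
      (s.filter fun g => g • l = l).card + 1 = Nat.card ↥(E.S B C) := by
    intro l hl
    rw [E.card_S_eq h (Finset.ne_of_mem_erase hl).symm, Nat.card_eq_fintype_card,
      Fintype.card_subtype]
    have e : (univ.filter fun g => g ∈ E.S B l) = insert 1 (s.filter fun g => g • l = l) := by
      ext g
      by_cases hg : g = 1 <;> simp [hs, hg, mem_S, one_mem]
    rw [e, Finset.card_insert_of_notMem (by simp [hs])]
  have h4 : ((∑ g ∈ s, (((univ : Finset L).erase B).filter fun l => g • l = l).card : ℕ) : ℤ) =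
      (s.card : ℤ) * ((D.k : ℤ) - 1) := by
    push_cast
    rw [Finset.sum_congr rfl fun g hg => show ((((univ : Finset L).erase B).filter
      fun l => g • l = l).card : ℤ) = (D.k : ℤ) - 1 from by
        have := hL g hg; omega]
    simp [mul_sub]
  have h5 : ((∑ l ∈ (univ : Finset L).erase B, (s.filter fun g => g • l = l).card : ℕ) : ℤ) =
      ((Fintype.card P : ℤ) - 1) * ((Nat.card ↥(E.S B C) : ℤ) - 1) := by
    push_cast
    rw [Finset.sum_congr rfl fun l hl => show ((s.filter fun g => g • l = l).card : ℤ) =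
      (Nat.card ↥(E.S B C) : ℤ) - 1 from by
        have := hR l hl; omega]
    rw [Finset.sum_const, nsmul_eq_mul, Finset.card_erase_of_mem (Finset.mem_univ B), Finset.card_univ,
      D.card_eq, Nat.cast_sub (D.card_eq ▸ Fintype.card_pos_iff.2 ⟨B⟩)]
    simp
  rw [h3, hs1] at h4
  rw [h5] at h4
  have hk : (1 : ℤ) < D.k := by have := D.lam_lt; have := D.lam_pos; omega
  have hc : (D.lam : ℤ) * Fintype.card P + D.k = D.k * D.k + D.lam := by exact_mod_cast D.count
  refine mul_left_cancel₀ (show (D.k : ℤ) - 1 ≠ 0 by omega) ?_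
  linear_combination (norm := ring1) (-(D.lam : ℤ)) * h4 + ((Nat.card ↥(E.S B C) : ℤ) - 1) * hc

/-- An orbit of an axial group has size at least two, and so has a two-block stabiliser. -/
theorem two_le {B C : L} (h : B ≠ C) : 2 ≤ Nat.card ↥(E.S B C) ∧ 2 ≤ (E.orb B C).card := by
  obtain ⟨g, hg, hg1⟩ := E.nontriv B
  have he : 2 ≤ Nat.card ↥(E.K B) := by
    have : Nontrivial ↥(E.K B) := ⟨⟨⟨g, hg⟩, 1, fun e => hg1 (congrArg Subtype.val e)⟩⟩
    exact Finite.one_lt_card
  have hp := E.param h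
  have hm := E.card_orb_mul B C
  have hk := D.lam_lt
  have hl := D.lam_pos
  have hc : 2 ≤ Nat.card ↥(E.S B C) := by
    by_contra hlt
    have h1 : Nat.card ↥(E.S B C) = 1 := by have := Nat.card_pos (α := ↥(E.S B C)); omega
    rw [h1] at hp
    simp only [Nat.cast_one, sub_self, zero_mul, mul_eq_zero] at hp
    omega
  refine ⟨hc, ?_⟩
  by_contra hlt
  have h1 : (E.orb B C).card = 1 := by
    have := Finset.card_pos.2 ⟨_, E.self_mem_orb B C⟩
    omega
  rw [h1, one_mul] at hm
  rw [← hm] at hp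
  have := mul_left_cancel₀ (show ((Nat.card ↥(E.S B C) : ℤ) - 1) ≠ 0 by omega) hp
  omega

/-- A set of blocks away from `B` invariant under `K B` has size divisible by the orbit size. -/
theorem dvd_card_of_invariant {B C : L} (h : B ≠ C) (s : Finset L) (hB : B ∉ s)
    (hs : ∀ g ∈ E.K B, ∀ l ∈ s, g • l ∈ s) : (E.orb B C).card ∣ s.card := by
  classical
  rw [Finset.card_eq_sum_card_image (fun l => E.orb B l) s]
  refine Finset.dvd_sum fun o ho => ?_
  obtain ⟨l, hl, rfl⟩ := Finset.mem_image.1 ho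
  have hlB : B ≠ l := fun e => hB (e ▸ hl)
  have e : s.filter (fun m => E.orb B m = E.orb B l) = E.orb B l := by
    ext m
    rw [Finset.mem_filter]
    refine ⟨fun hm => hm.2 ▸ E.self_mem_orb B m, fun hm => ⟨?_, E.orb_eq_of_mem hm⟩⟩
    obtain ⟨g, hg, rfl⟩ := E.mem_orb.1 hm
    exact hs g hg l hl
  rw [e, E.card_orb_eq h hlB]

theorem orb_dvd {B C : L} (h : B ≠ C) : (E.orb B C).card ∣ D.k - 1 := by
  obtain ⟨b, hb⟩ : (D.pts B).Nonempty := Finset.card_pos.1 (by
    rw [D.blk]; have := D.lam_lt; omega)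
  have := E.dvd_card_of_invariant h ((D.blks b).erase B) (Finset.notMem_erase _ _) ?_
  · rwa [Finset.card_erase_of_mem (D.mem_blks.2 hb), D.card_blks] at this
  · intro g hg l hl
    rw [Finset.mem_erase, D.mem_blks] at hl ⊢
    refine ⟨fun e => hl.1 ((MulAction.injective g) (e.trans (E.smul_axis hg).symm)), ?_⟩
    rw [← E.axis B g hg b hb, E.inv]
    exact hl.2

end Elations

/-- The blocks through the common points of two blocks. -/
def Design.W (D : Design P L) (X Y : L) : Finset L :=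
  univ.filter fun l => D.pts X ∩ D.pts Y ⊆ D.pts l

namespace Design

variable {D : Design P L}

theorem mem_W {X Y l : L} : l ∈ D.W X Y ↔ D.pts X ∩ D.pts Y ⊆ D.pts l := by simp [W]

theorem left_mem_W (X Y : L) : X ∈ D.W X Y := D.mem_W.2 Finset.inter_subset_left

theorem right_mem_W (X Y : L) : Y ∈ D.W X Y := D.mem_W.2 Finset.inter_subset_right

theorem inter_eq_of_mem_W {X Y l m : L} (hXY : X ≠ Y) (hl : l ∈ D.W X Y) (hm : m ∈ D.W X Y)
    (hlm : l ≠ m) : D.pts l ∩ D.pts m = D.pts X ∩ D.pts Y :=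
  (Finset.eq_of_subset_of_card_le (Finset.subset_inter (D.mem_W.1 hl) (D.mem_W.1 hm))
    (by rw [D.two_blks _ _ hXY, D.two_blks _ _ hlm])).symm

theorem W_eq {X Y l m : L} (hXY : X ≠ Y) (hl : l ∈ D.W X Y) (hm : m ∈ D.W X Y) (hlm : l ≠ m) :
    D.W l m = D.W X Y := by
  simp only [W, inter_eq_of_mem_W hXY hl hm hlm]

theorem W_comm (X Y : L) : D.W X Y = D.W Y X := by
  simp only [W, Finset.inter_comm]

end Design

namespace Elations

variable {G : Type*} [Group G] [Finite G] [MulAction G P] [MulAction G L] {D : Design P L}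
  (E : Elations G D)

theorem smul_mem_W {B C l : L} {g : G} (hg : g ∈ E.K B) (hl : l ∈ D.W B C) : g • l ∈ D.W B C := by
  rw [Design.mem_W] at hl ⊢
  intro p hp
  rw [← E.axis B g hg p (Finset.mem_inter.1 hp).1, E.inv]
  exact hl hp

/-- A line is a block together with one orbit of its axial group. -/
theorem erase_W {B C : L} (h : B ≠ C) : (D.W B C).erase B = E.orb B C := by
  classical
  have hsub : E.orb B C ⊆ (D.W B C).erase B := fun l hl => by
    obtain ⟨g, hg, rfl⟩ := E.mem_orb.1 hl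
    exact Finset.mem_erase.2 ⟨(E.ne_of_mem_orb h hl).symm, E.smul_mem_W hg (D.right_mem_W B C)⟩
  refine (Finset.Subset.antisymm hsub fun l hl => ?_).symm
  by_contra hl'
  have hlB : B ≠ l := (Finset.ne_of_mem_erase hl).symm
  have hdis : Disjoint (E.orb B C) (E.orb B l) := Finset.disjoint_left.2 fun m h1 h2 => hl' (by
    rw [← E.orb_eq_of_mem h1, E.orb_eq_of_mem h2]
    exact E.self_mem_orb B l)
  have hsub' : E.orb B l ⊆ (D.W B C).erase B := fun m hm => by
    obtain ⟨g, hg, rfl⟩ := E.mem_orb.1 hm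
    exact Finset.mem_erase.2 ⟨(E.ne_of_mem_orb hlB hm).symm,
      E.smul_mem_W hg (Finset.mem_of_mem_erase hl)⟩
  have h2d : 2 * (E.orb B C).card ≤ ((D.W B C).erase B).card := by
    have := Finset.card_le_card (Finset.union_subset hsub hsub')
    rw [Finset.card_union_of_disjoint hdis, E.card_orb_eq hlB h] at this
    omega
  -- the members of a line are disjoint off their common points
  have hout : ∀ m ∈ (D.W B C).erase B, D.pts m \ D.pts B ⊆ (D.pts B)ᶜ := fun m _ p hp =>
    Finset.mem_compl.2 (Finset.mem_sdiff.1 hp).2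
  have hpair : ((((D.W B C).erase B) : Finset L) : Set L).PairwiseDisjoint fun m => D.pts m \ D.pts B := by
    intro a ha b hb hab
    rw [Function.onFun, Finset.disjoint_left]
    intro p hpa hpb
    have hpab : p ∈ D.pts a ∩ D.pts b :=
      Finset.mem_inter.2 ⟨(Finset.mem_sdiff.1 hpa).1, (Finset.mem_sdiff.1 hpb).1⟩
    rw [D.inter_eq_of_mem_W h (Finset.mem_of_mem_erase ha) (Finset.mem_of_mem_erase hb) hab] at hpab
    exact (Finset.mem_sdiff.1 hpa).2 (Finset.mem_inter.1 hpab).1
  have hb := Finset.card_le_card (Finset.biUnion_subset.2 hout)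
  rw [Finset.card_biUnion hpair, Finset.card_compl, D.blk,
    Finset.sum_congr rfl fun m hm => show (D.pts m \ D.pts B).card = D.k - D.lam by
      rw [Finset.card_sdiff, D.blk, D.two_blks B m (Finset.ne_of_mem_erase hm).symm],
    Finset.sum_const, smul_eq_mul] at hb
  have hle : D.k ≤ Fintype.card P := D.blk B ▸ Finset.card_le_univ _
  have hk := D.lam_lt
  zify [hle, (show D.lam ≤ D.k by omega)] at hb h2d
  have hc : (D.lam : ℤ) * Fintype.card P + D.k = D.k * D.k + D.lam := by exact_mod_cast D.count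
  have hp := E.param h
  have hm : ((E.orb B C).card : ℤ) * Nat.card ↥(E.S B C) = Nat.card ↥(E.K B) := by
    exact_mod_cast E.card_orb_mul B C
  rw [← hm] at hp
  have h2 := (E.two_le h).1
  generalize ((E.orb B C).card : ℤ) = d at *
  generalize (((D.W B C).erase B).card : ℤ) = w at *
  have hl : (0 : ℤ) < D.lam := by have := D.lam_pos; omega
  have hkl : (0 : ℤ) < (D.k : ℤ) - D.lam := by omega
  have hwk : w * (D.lam : ℤ) ≤ (D.k : ℤ) - 1 := by
    refine le_of_mul_le_mul_right ?_ hkl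
    nlinarith [mul_le_mul_of_nonneg_left hb hl.le]
  have hc2 : (2 : ℤ) ≤ Nat.card ↥(E.S B C) := by exact_mod_cast h2
  generalize (Nat.card ↥(E.S B C) : ℤ) = c at *
  have hd0 : 0 ≤ d := by nlinarith
  nlinarith [mul_le_mul_of_nonneg_right h2d hl.le, mul_nonneg hd0 hl.le,
    mul_nonneg (mul_nonneg (sub_nonneg.2 hc2) hd0) hl.le]

theorem card_W {B C : L} (h : B ≠ C) : (D.W B C).card = (E.orb B C).card + 1 := by
  rw [← E.erase_W h, Finset.card_erase_add_one (D.left_mem_W B C)]

/-- Lines with a moved common point are fixed. -/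
theorem fix_W_of_moved {B X Y : L} {h : G} (hh : h ∈ E.K B) (h1 : h ≠ 1) (hX : h • X = X)
    (hY : h • Y = Y) (hout : ¬ D.pts X ∩ D.pts Y ⊆ D.pts B) {l : L} (hl : l ∈ D.W X Y) :
    h • l = l := by
  obtain ⟨x, hx, hxB⟩ := Finset.not_subset.1 hout
  have hmov : (E.aut h).σ x ≠ x := fun e => h1 (E.semireg B h hh x hxB e)
  have hx' : h • x ∈ D.pts X ∩ D.pts Y := by
    rw [Finset.mem_inter] at hx ⊢
    exact ⟨((E.aut h).σ_mem hX).2 hx.1, ((E.aut h).σ_mem hY).2 hx.2⟩
  exact (E.axis_aut hh).block_fixed hmov (D.mem_W.1 hl hx) (D.mem_W.1 hl hx')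

/-- An axial automorphism fixing a block fixes the whole line through it and the axis. -/
theorem fix_W_axis {B C : L} (hBC : B ≠ C) {h : G} (hh : h ∈ E.K B) (hC : h • C = C) {l : L}
    (hl : l ∈ D.W B C) : h • l = l := by
  classical
  by_cases h1 : h = 1
  · rw [h1, one_smul]
  by_cases hlB : l = B
  · rw [hlB]; exact E.smul_axis hh
  set F := (E.aut h).fixL.erase B with hF
  have hFc : F.card = D.k - 1 := by
    rw [hF, Finset.card_erase_of_mem (by simpa using E.smul_axis hh), E.card_fixL hh h1]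
  set M := F.filter (fun m => m ∉ D.W B C) with hM
  have hMd : (E.orb B C).card ∣ M.card := by
    rw [Finset.card_eq_sum_card_image (fun m => D.W C m) M]
    refine Finset.dvd_sum fun w hw => ?_
    obtain ⟨m, hm, rfl⟩ := Finset.mem_image.1 hw
    have hm2 := hm
    simp only [hM, hF, Finset.mem_filter, Finset.mem_erase, Aut.mem_fixL, aut_τ] at hm2
    obtain ⟨⟨hmB, hmf⟩, hmW⟩ := hm2
    have hCm : C ≠ m := fun e => hmW (e ▸ D.right_mem_W B C)
    have hout : ¬ D.pts C ∩ D.pts m ⊆ D.pts B := fun hs => by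
      have hB' : B ∈ D.W C m := D.mem_W.2 hs
      rw [D.W_eq hCm hB' (D.left_mem_W C m) hBC] at hmW
      exact hmW (D.right_mem_W C m)
    have e : M.filter (fun m' => D.W C m' = D.W C m) = (D.W C m).erase C := by
      ext m'
      simp only [hM, hF, Finset.mem_filter, Finset.mem_erase, Aut.mem_fixL, aut_τ]
      constructor
      · rintro ⟨⟨-, hm'W⟩, e⟩
        exact ⟨fun e' => hm'W (e' ▸ D.right_mem_W B C), e ▸ D.right_mem_W C m'⟩
      · rintro ⟨hm'C, hm'W⟩
        have e' : D.W C m' = D.W C m := D.W_eq hCm (D.left_mem_W C m) hm'W (Ne.symm hm'C)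
        refine ⟨⟨⟨?_, E.fix_W_of_moved hh h1 hC hmf hout hm'W⟩, ?_⟩, e'⟩
        · rintro rfl
          exact hout (D.mem_W.1 hm'W)
        · intro hm'
          have e'' : D.W C m' = D.W B C :=
            D.W_eq hBC (D.right_mem_W B C) hm' (Ne.symm hm'C)
          exact hmW ((e'.symm.trans e'') ▸ D.right_mem_W C m)
    rw [e, ← E.erase_W hBC]
    have hCc := E.card_W hCm
    rw [E.card_orb_eq hCm hBC] at hCc
    rw [Finset.card_erase_of_mem (D.left_mem_W C m), hCc, E.erase_W hBC, Nat.add_sub_cancel]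
  set Φ := F.filter (fun m => m ∈ D.W B C) with hΦ
  have hsum : Φ.card + M.card = F.card := Finset.card_filter_add_card_filter_not _
  have hΦd : (E.orb B C).card ∣ Φ.card := by
    rw [Nat.dvd_add_iff_left hMd, hsum, hFc]
    exact E.orb_dvd hBC
  have hΦsub : Φ ⊆ (D.W B C).erase B := fun m hm => by
    simp only [hΦ, hF, Finset.mem_filter, Finset.mem_erase] at hm
    exact Finset.mem_erase.2 ⟨hm.1.1, hm.2⟩
  have hΦpos : 0 < Φ.card := Finset.card_pos.2 ⟨C, by
    simp [hΦ, hF, Ne.symm hBC, hC, D.right_mem_W B C]⟩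
  have heq : Φ = (D.W B C).erase B := Finset.eq_of_subset_of_card_le hΦsub (by
    rw [E.erase_W hBC]
    exact Nat.le_of_dvd hΦpos hΦd)
  have : l ∈ Φ := heq ▸ Finset.mem_erase.2 ⟨hlB, hl⟩
  simp only [hΦ, hF, Finset.mem_filter, Finset.mem_erase, Aut.mem_fixL, aut_τ] at this
  exact this.1.2

/-- The fixed blocks of an axial automorphism are closed under lines. -/
theorem fix_W {B X Y : L} {h : G} (hh : h ∈ E.K B) (hXY : X ≠ Y) (hX : h • X = X) (hY : h • Y = Y)
    {l : L} (hl : l ∈ D.W X Y) : h • l = l := by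
  by_cases h1 : h = 1
  · rw [h1, one_smul]
  by_cases hXB : X = B
  · subst hXB; exact E.fix_W_axis hXY hh hY hl
  by_cases hout : D.pts X ∩ D.pts Y ⊆ D.pts B
  · have hBW : B ∈ D.W X Y := D.mem_W.2 hout
    rw [← D.W_eq hXY hBW (D.left_mem_W X Y) (Ne.symm hXB)] at hl
    exact E.fix_W_axis (Ne.symm hXB) hh hX hl
  · exact E.fix_W_of_moved hh h1 hX hY hout hl

/-- Only the common stabiliser commutes with a nontrivial element of the opposite group. -/
theorem fixed_of_commute {B C : L} {h t : G} (_hh : h ∈ E.K B) (ht : t ∈ E.S C B) (ht1 : t ≠ 1)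
    (hc : h * t = t * h) : h • C = C := by
  by_contra hne
  obtain ⟨x, hx, hx'⟩ : ∃ x ∈ D.pts (h • C), x ∉ D.pts C := by
    by_contra hc'
    push Not at hc'
    exact hne (D.eq_of_subset hc')
  have ht' : t ∈ E.K (h • C) := by
    have := E.conj h C t ht.1
    rwa [hc, mul_inv_cancel_right] at this
  exact ht1 (E.semireg C t ht.1 x hx' (E.axis _ t ht' x hx))

/-- Every axial element fixing a second block is matched by one with that block as axis. -/
theorem exists_same_fix {B C : L} (hBC : B ≠ C) {h : G} (hh : h ∈ E.K B) (h1 : h ≠ 1)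
    (hC : h • C = C) :
    ∃ t ∈ E.K C, t ≠ 1 ∧ (E.aut t).fixL = (E.aut h).fixL := by
  obtain ⟨C', hC', hC'C⟩ := Finset.exists_mem_ne (E.two_le hBC).2 C
  obtain ⟨a, ha, rfl⟩ := E.mem_orb.1 hC'
  -- the commutator with `a` maps `S C B` onto `S B C`
  have hmem : ∀ t ∈ E.S C B, a * t * a⁻¹ * t⁻¹ ∈ E.S B C := by
    intro t ht
    refine E.mem_S.2 ⟨?_, ?_⟩
    · have := E.conj_of_fixed (g := t) ht.2 (inv_mem ha)
      have := mul_mem ha this
      simpa [mul_assoc] using this
    · have h2 : t • a⁻¹ • C = a⁻¹ • C := by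
        refine E.fix_W_axis hBC.symm ht.1 ht.2 ?_
        rw [D.W_comm]
        exact E.smul_mem_W (inv_mem ha) (D.right_mem_W B C)
      have h3 : t⁻¹ • C = C := inv_smul_eq_iff.2 (E.smul_axis ht.1).symm
      rw [mul_smul, mul_smul, mul_smul, h3, h2, smul_inv_smul]
  let ψ : ↥(E.S C B) → ↥(E.S B C) := fun t => ⟨a * t * a⁻¹ * (t : G)⁻¹, hmem t t.2⟩
  have hinj : Function.Injective ψ := by
    intro t s hts
    have e : a * (t : G) * a⁻¹ * (t : G)⁻¹ = a * (s : G) * a⁻¹ * (s : G)⁻¹ := congrArg Subtype.val hts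
    have hcomm : a * ((s : G)⁻¹ * t) = ((s : G)⁻¹ * t) * a := by
      have e1 : (t : G) * a⁻¹ * (t : G)⁻¹ = (s : G) * a⁻¹ * (s : G)⁻¹ := by
        apply mul_left_cancel (a := a)
        simpa [mul_assoc] using e
      calc a * ((s : G)⁻¹ * t) = a * ((s : G)⁻¹ * ((t : G) * a⁻¹ * (t : G)⁻¹) * (t : G)) * a := by
            group
        _ = a * ((s : G)⁻¹ * ((s : G) * a⁻¹ * (s : G)⁻¹) * (t : G)) * a := by rw [e1]
        _ = ((s : G)⁻¹ * t) * a := by group
    by_contra hne
    have hne' : (s : G)⁻¹ * t ≠ 1 := fun e' => hne (Subtype.ext (inv_mul_eq_one.1 e').symm)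
    exact hC'C (E.fixed_of_commute ha (mul_mem (inv_mem s.2) t.2) hne' hcomm)
  obtain ⟨t, ht⟩ := ((Nat.bijective_iff_injective_and_card ψ).2
    ⟨hinj, E.card_S_eq hBC.symm hBC⟩).2 ⟨h, E.mem_S.2 ⟨hh, hC⟩⟩
  have he : a * (t : G) * a⁻¹ * (t : G)⁻¹ = h := congrArg Subtype.val ht
  have ht1 : (t : G) ≠ 1 := fun e => h1 (by rw [← he, e]; simp)
  refine ⟨t, t.2.1, ht1, ?_⟩
  refine Finset.eq_of_subset_of_card_le (fun l hl => ?_) (by
    rw [E.card_fixL hh h1, E.card_fixL t.2.1 ht1])
  simp only [Aut.mem_fixL, aut_τ] at hl ⊢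
  have h2 : (t : G) • a⁻¹ • l = a⁻¹ • l := by
    by_cases hlB : l = B
    · subst hlB
      rw [E.smul_axis (inv_mem ha), hl]
    · refine E.fix_W t.2.1 (Ne.symm hlB) t.2.2 hl ?_
      exact E.smul_mem_W (inv_mem ha) (D.right_mem_W B l)
  have h3 : (t : G)⁻¹ • l = l := inv_smul_eq_iff.2 hl.symm
  rw [← he, mul_smul, mul_smul, mul_smul, h3, h2, smul_inv_smul]

/-- **Every axial automorphism has a centre on its axis.** -/
theorem exists_center {B : L} {h : G} (hh : h ∈ E.K B) (h1 : h ≠ 1) :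
    ∃ p ∈ D.pts B, (E.aut h).fixL = D.blks p := by
  classical
  have hfc := E.card_fixL hh h1
  set F := (E.aut h).fixL with hF
  have hBF : B ∈ F := by simpa [hF] using E.smul_axis hh
  obtain ⟨p, hp, hpne⟩ : ∃ p ∈ D.pts B, (F ∩ D.blks p).card ≠ D.lam := by
    by_contra hall
    push Not at hall
    have h3 := Finset.sum_card_bipartiteAbove_eq_sum_card_bipartiteBelow (s := D.pts B) (t := F)
      fun p l => p ∈ D.pts l
    simp only [Finset.bipartiteAbove, Finset.bipartiteBelow] at h3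
    have eL : ∀ p ∈ D.pts B, (F.filter fun l => p ∈ D.pts l).card = D.lam := fun p hp => by
      rw [← hall p hp]
      congr 1
      ext l
      simp
    rw [Finset.sum_congr rfl eL, Finset.sum_const, smul_eq_mul, D.blk,
      ← Finset.add_sum_erase _ _ hBF,
      show (D.pts B).filter (fun p => p ∈ D.pts B) = D.pts B from Finset.filter_true_of_mem fun p hp => hp,
      D.blk] at h3
    rw [Finset.sum_congr rfl fun l hl => show ((D.pts B).filter fun p => p ∈ D.pts l).card = D.lam by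
      rw [Finset.filter_mem_eq_inter, D.two_blks B l (Finset.ne_of_mem_erase hl).symm],
      Finset.sum_const, smul_eq_mul, Finset.card_erase_of_mem hBF, hfc] at h3
    have := D.lam_lt
    obtain ⟨w, hw⟩ := Nat.le.dest (show 1 ≤ D.k by omega)
    rw [show D.k - 1 = w by omega] at h3
    rw [← hw] at h3 this
    nlinarith
  refine ⟨p, hp, ?_⟩
  refine Finset.eq_of_subset_of_card_le (fun l hl => D.mem_blks.2 ?_) (by rw [hfc, D.card_blks])
  by_cases hlB : l = B
  · exact hlB ▸ hp
  obtain ⟨t, ht, ht1, htF⟩ := E.exists_same_fix (Ne.symm hlB) hh h1 (by simpa [hF] using hl)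
  by_contra hpl
  refine hpne ?_
  rw [hF, ← htF]
  exact Aut.card_fixL_inter_blks (E.axis_aut ht) fun e => ht1 (E.semireg l t ht p hpl e)

end Elations

end Cfsg.Agent.ItoDesign
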