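import Cfsg.Agent.ItoDesign.JordanOdd

/-!
A finite additive group of units closed under inversion and containing `1` is a field.
-/

set_option autoImplicit false
set_option linter.unusedSectionVars false

namespace Cfsg.Agent.ItoDesign

open Finset
open scoped Classical

variable {A : Type*} [AddCommGroup A] [Finite A]

theorem frobenius_fixed_commute {K : Type*} [Field K] [Fintype K] (ι : K →+* AddMonoid.End A)
    {p : ℕ} [Fact p.Prime] [CharP K p] (X : AddMonoid.End A) {t : K} (ht : t ^ p = t) :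
    ι t * X = X * ι t := by
  let S : Subfield K :=
    { carrier := {a | ι a * X = X * ι a}
      mul_mem' := fun {a b} (ha : ι a * X = X * ι a) (hb : ι b * X = X * ι b) => by
        show ι (a * b) * X = X * ι (a * b)
        rw [map_mul, mul_assoc, hb, ← mul_assoc, ha, mul_assoc]
      one_mem' := by simp
      add_mem' := fun {a b} (ha : ι a * X = X * ι a) (hb : ι b * X = X * ι b) => by
        show ι (a + b) * X = X * ι (a + b)
        rw [map_add, add_mul, mul_add, ha, hb]
      zero_mem' := by simp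
      neg_mem' := fun {a} (ha : ι a * X = X * ι a) => by
        show ι (-a) * X = X * ι (-a)
        rw [map_neg, neg_mul, mul_neg, ha]
      inv_mem' := fun a (ha : ι a * X = X * ι a) => by
        show ι a⁻¹ * X = X * ι a⁻¹
        by_cases h0 : a = 0
        · simp [h0]
        calc ι a⁻¹ * X = ι a⁻¹ * (X * ι a) * ι a⁻¹ := by
              rw [mul_assoc, mul_assoc, ← map_mul, mul_inv_cancel₀ h0, map_one, mul_one]
          _ = X * ι a⁻¹ := by rw [← ha, ← mul_assoc, ← map_mul, inv_mul_cancel₀ h0, map_one, one_mul] }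
  exact (bot_le : ⊥ ≤ S) ((Subfield.mem_bot_iff_pow_eq_self K p (x := t)).2 ht)

/-- An element outside the commutant has a nontrivial component. -/
theorem exists_comp_ne_zero {K : Type*} [Field K] [Fintype K] (ι : K →+* AddMonoid.End A)
    (X : AddMonoid.End A) (hX : ∃ a, ι a * X ≠ X * ι a) :
    ∃ τ : K ≃+* K, τ ≠ 1 ∧ comp ι τ X ≠ 0 := by
  obtain ⟨p, hchar⟩ := CharP.exists K
  have : Fact p.Prime := ⟨CharP.char_is_prime K p⟩
  have hbij : Function.Bijective (frobenius K p) := Finite.injective_iff_bijective.1 (frobenius_inj K p)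
  let φ : K ≃+* K := RingEquiv.ofBijective (frobenius K p) hbij
  have hφ : ∀ x, φ x = x ^ p := fun x => rfl
  set n := orderOf φ
  have hn : 0 < n := orderOf_pos φ
  by_contra hall
  push Not at hall
  have htot : ∑ j ∈ range n, comp ι (φ ^ j) X = X := by
    simp only [comp, Finset.sum_neg_distrib]
    rw [Finset.sum_comm]
    have e : ∀ b : Kˣ, ∑ j ∈ range n, ι ((φ ^ j) (b : K)) * X * ι ((b : K)⁻¹) =
        X * ι ((∑ j ∈ range n, (φ ^ j) (b : K)) * (b : K)⁻¹) := by
      intro b
      have ht : φ (∑ j ∈ range n, (φ ^ j) (b : K)) = ∑ j ∈ range n, (φ ^ j) (b : K) := by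
        rw [map_sum]
        have e := Finset.sum_range_succ' (fun j => (φ ^ j) (b : K)) n
        rw [Finset.sum_range_succ] at e
        simp only [pow_succ', RingAut.mul_apply, pow_zero] at e
        rw [show (φ ^ n) (b : K) = b by rw [show φ ^ n = 1 from pow_orderOf_eq_one φ]; rfl] at e
        exact (add_right_cancel e).symm
      rw [map_mul ι, ← mul_assoc X, ← frobenius_fixed_commute ι X ((hφ _).symm.trans ht), map_sum,
        Finset.sum_mul, Finset.sum_mul]
    rw [Finset.sum_congr rfl fun b _ => e b, ← Finset.mul_sum, ← map_sum]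
    simp only [Finset.sum_mul]
    rw [Finset.sum_comm, Finset.sum_congr rfl fun j hj => show ∑ b : Kˣ, (φ ^ j) (b : K) * (b : K)⁻¹ =
      if j = 0 then -1 else 0 by
        have := sum_units_orth (φ ^ j) 1
        simp only [RingAut.one_apply] at this
        rw [this]
        split_ifs with h1 h2 h2
        · rfl
        · exact absurd h1 (pow_ne_one_of_lt_orderOf h2 (Finset.mem_range.1 hj))
        · exact absurd (by rw [h2, pow_zero]) h1
        · rfl, Finset.sum_ite_eq', if_pos (Finset.mem_range.2 hn), map_neg, map_one, mul_neg, mul_one, neg_neg]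
  obtain ⟨a, ha⟩ := hX
  refine ha ?_
  rw [Finset.sum_eq_single 0 (fun j hj hj0 =>
    hall _ (pow_ne_one_of_lt_orderOf hj0 (Finset.mem_range.1 hj)))
    (fun h => absurd (Finset.mem_range.2 hn) h), pow_zero] at htot
  rw [← htot, comp_mul, RingAut.one_apply]

set_option maxHeartbeats 1000000 in
theorem isJordan_commute_aux (n : ℕ) : ∀ D : AddSubgroup (AddMonoid.End A), Nat.card ↥D = n →
    IsJordan D → ∀ a ∈ D, ∀ b ∈ D, a * b = b * a := by
  induction n using Nat.strong_induction_on with
  | _ n ih =>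
  intro D hn hD a ha b hb
  by_contra hab
  obtain ⟨w0, hw0⟩ : ∃ w : A, w ≠ 0 := by
    by_contra hall
    push Not at hall
    exact hab (AddMonoidHom.ext fun v => (hall _).trans (hall _).symm)
  -- centralisers of noncentral elements are commutative
  have hcent : ∀ x ∈ D, ∀ y ∈ D, x * y ≠ y * x → ∀ u ∈ D, ∀ v ∈ D, x * u = u * x → x * v = v * x →
      u * v = v * u := by
    intro x hx y hy hxy u hu v hv hxu hxv
    refine ih _ ?_ _ rfl (hD.centralizer x) u ⟨hu, sub_eq_zero.2 hxu⟩ v ⟨hv, sub_eq_zero.2 hxv⟩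
    rw [← hn]
    refine lt_of_le_of_ne (AddSubgroup.card_le_of_le inf_le_left) fun e => hxy ?_
    have := AddSubgroup.eq_of_le_of_card_ge inf_le_left e.ge
    have hy' : y ∈ D ⊓ AddMonoidHom.ker (AddMonoidHom.mulLeft x - AddMonoidHom.mulRight x) := by
      rw [this]; exact hy
    exact sub_eq_zero.1 hy'.2
  -- the field of the centraliser of `a`
  let Ks : Subring (AddMonoid.End A) :=
    { carrier := {x | x ∈ D ∧ a * x = x * a}
      mul_mem' := fun {x y} hx hy =>
        ⟨hD.mul_mem_of_commute hx.1 hy.1 (hcent a ha b hb hab x hx.1 y hy.1 hx.2 hy.2),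
          by rw [← mul_assoc, hx.2, mul_assoc, hy.2, mul_assoc]⟩
      one_mem' := ⟨hD.one_mem, by simp⟩
      add_mem' := fun {x y} hx hy => ⟨add_mem hx.1 hy.1, by rw [mul_add, add_mul, hx.2, hy.2]⟩
      zero_mem' := ⟨zero_mem _, by simp⟩
      neg_mem' := fun {x} hx => ⟨neg_mem hx.1, by rw [mul_neg, neg_mul, hx.2]⟩ }
  have hfield : IsField ↥Ks := hD.isField hw0 Ks (fun y hy => hy.1)
    (fun x hx y hy => hcent a ha b hb hab x hx.1 y hy.1 hx.2 hy.2)
  let _ : Field ↥Ks := hfield.toField
  let _ : Fintype ↥Ks := Fintype.ofFinite _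
  let ι : ↥Ks →+* AddMonoid.End A := Ks.subtype
  have hK : ∀ x, ι x ∈ D := fun x => x.2.1
  have hC : ∀ W ∈ D, (∀ x, ι x * W = W * ι x) → ∃ y, ι y = W := fun W hW hc =>
    ⟨⟨W, hW, hc ⟨a, ha, rfl⟩⟩, rfl⟩
  -- a moved scalar has centraliser the field
  have hCK : ∀ x : ↥Ks, (∃ d ∈ D, ι x * d ≠ d * ι x) → ∀ W ∈ D, ι x * W = W * ι x → ∃ y, ι y = W := by
    rintro x ⟨d, hd, hxd⟩ W hW hxW
    exact ⟨⟨W, hW, hcent _ (hK x) d hd hxd a ha W hW x.2.2.symm hxW⟩, rfl⟩
  obtain ⟨τ, hτ, hY0⟩ := exists_comp_ne_zero ι b ⟨⟨a, ha, rfl⟩, hab⟩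
  -- central scalars are fixed
  have hfixc : ∀ x : ↥Ks, (∀ d ∈ D, ι x * d = d * ι x) → τ x = x := by
    intro x hx
    refine coef_eq hY0 (ι := ι) ?_
    rw [← comp_mul]
    simp only [comp, neg_mul, mul_neg, Finset.sum_mul, Finset.mul_sum, neg_inj]
    refine Finset.sum_congr rfl fun u _ => ?_
    rw [mul_assoc, ← map_mul ι, mul_comm ((u : ↥Ks)⁻¹), map_mul, ← mul_assoc,
      mul_assoc (ι (τ (u : ↥Ks))), ← hx b hb, ← mul_assoc, ← map_mul, mul_comm (τ _), map_mul,
      mul_assoc, mul_assoc, mul_assoc]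
  -- the element `P` carrying the component
  obtain ⟨P, hPD, hPsemi, hPτ, hdec⟩ : ∃ P ∈ D, (∀ x, τ (τ x) = x → P * ι x = ι (τ x) * P) ∧
      comp ι τ P = comp ι τ b ∧ (τ⁻¹ ≠ τ → P = comp ι τ b + comp ι τ⁻¹ b) := by
    by_cases hinv : τ⁻¹ = τ
    · exact ⟨comp ι τ b, comp_mem hD hK hb τ hinv, fun x _ => comp_mul ι τ b x,
        by rw [comp_eq ι (comp_mul ι τ b), if_pos rfl], fun h => absurd hinv h⟩
    · refine ⟨_, comp_add_comp_mem hD hK hb τ, fun x hx => ?_, ?_, fun _ => rfl⟩
      · have : τ⁻¹ x = τ x := by rw [RingAut.inv_apply, RingEquiv.symm_apply_eq, hx]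
        rw [add_mul, comp_mul, comp_mul, this, mul_add]
      · rw [comp_add, comp_eq ι (comp_mul ι τ b), comp_eq ι (comp_mul ι τ⁻¹ b), if_pos rfl,
          if_neg (Ne.symm hinv), add_zero]
  have hnotK : ∀ s, P ≠ ι s := by
    intro s hs
    refine hY0 ?_
    rw [← hPτ, hs, comp_eq ι (ρ := 1) fun x => by rw [RingAut.one_apply, ← map_mul, ← map_mul, mul_comm],
      if_neg hτ]
  set o := orderOf τ
  have ho2 : 2 ≤ o := by
    have h1 : o ≠ 1 := fun e => hτ (orderOf_eq_one_iff.1 e)
    have h0 : 0 < o := orderOf_pos τ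
    omega
  rcases Nat.even_or_odd o with heven | hodd
  · -- a quadratic subfield moved by `τ`
    obtain ⟨k, hk, hk1⟩ : ∃ k : ↥Ks, τ (τ k) = k ∧ τ k ≠ k := by
      obtain ⟨m, hm⟩ := heven
      by_contra hall
      push Not at hall
      have hg : ∀ x : ↥Ks, ∑ i ∈ range o, (-1 : ↥Ks) ^ i * (τ ^ i) x = 0 := by
        intro x
        have hf : τ (τ (∑ i ∈ range m, (τ ^ (2 * i)) x)) = ∑ i ∈ range m, (τ ^ (2 * i)) x := by
          rw [map_sum, map_sum]
          have e := Finset.sum_range_succ' (fun i => (τ ^ (2 * i)) x) m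
          rw [Finset.sum_range_succ] at e
          simp only [Nat.mul_succ, pow_add, RingAut.mul_apply, mul_zero, pow_zero] at e
          rw [show (τ ^ (2 * m)) x = x by
            rw [show 2 * m = o by omega, show τ ^ o = 1 from pow_orderOf_eq_one τ]; rfl] at e
          have e' := (add_right_cancel e).symm
          refine Eq.trans (Finset.sum_congr rfl fun i _ => ?_) e'
          show τ (τ ((τ ^ (2 * i)) x)) = _
          rw [← RingAut.mul_apply τ τ, ← RingAut.mul_apply, ← pow_two, ← pow_add, ← RingAut.mul_apply,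
            ← pow_add, add_comm]
        have hfx := hall _ hf
        rw [map_sum] at hfx
        rw [show o = 2 * m by omega]
        have hsplit : ∀ m', ∑ i ∈ range (2 * m'), (-1 : ↥Ks) ^ i * (τ ^ i) x =
            ∑ i ∈ range m', (τ ^ (2 * i)) x - ∑ i ∈ range m', τ ((τ ^ (2 * i)) x) := by
          intro m'
          induction m' with
          | zero => simp
          | succ m' ih =>
            rw [Nat.mul_succ, Finset.sum_range_succ, Finset.sum_range_succ, ih, Finset.sum_range_succ,
              Finset.sum_range_succ, pow_succ' τ, RingAut.mul_apply, pow_succ, pow_mul, neg_one_sq, one_pow]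
            ring
        rw [hsplit, hfx, sub_self]
      have h0 : ∑ u : (↥Ks)ˣ, (∑ i ∈ range o, (-1 : ↥Ks) ^ i * (τ ^ i) (u : ↥Ks)) * (u : ↥Ks)⁻¹ = 0 :=
        Finset.sum_eq_zero fun u _ => by rw [hg, zero_mul]
      simp only [Finset.sum_mul, mul_assoc] at h0
      rw [Finset.sum_comm, Finset.sum_congr rfl fun i hi => show
        ∑ u : (↥Ks)ˣ, (-1 : ↥Ks) ^ i * ((τ ^ i) (u : ↥Ks) * (u : ↥Ks)⁻¹) = if i = 0 then -1 else 0 by
          have := sum_units_orth (τ ^ i) 1
          simp only [RingAut.one_apply] at this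
          rw [← Finset.mul_sum]
          refine (congrArg _ (Eq.trans (Finset.sum_congr (by ext; simp) fun _ _ => rfl) this)).trans ?_
          split_ifs with h1 h2 h2
          · subst h2; simp
          · exact absurd h1 (pow_ne_one_of_lt_orderOf h2 (Finset.mem_range.1 hi))
          · exact absurd (by rw [h2, pow_zero]) h1
          · simp, Finset.sum_ite_eq', if_pos (Finset.mem_range.2 (by omega))] at h0
      exact neg_ne_zero.2 one_ne_zero h0
    have hP0 : P ≠ 0 := fun e => hnotK 0 (by rw [e, map_zero])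
    have hknc : ∃ d ∈ D, ι k * d ≠ d * ι k := by
      by_contra hall
      push Not at hall
      exact hk1 (hfixc k hall)
    refine false_of_anti hD hK hC hPD hP0 (τ := τ) hk1 hPsemi ?_ ?_ hk
    · intro W hW hWP _ y hy
      refine hfixc y ?_
      by_contra hnc
      push Not at hnc
      obtain ⟨s, hs⟩ := hCK y hnc P hPD (by rw [hy, hWP])
      exact hnotK s hs.symm
    · intro W hW hW2 x
      obtain ⟨y, rfl⟩ := hCK k hknc W hW (hW2 k hk)
      rw [← map_mul, ← map_mul, mul_comm]
  · -- the odd case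
    have ho3 : 2 < o := by
      have := Nat.odd_iff.1 hodd
      omega
    have hinv : τ⁻¹ ≠ τ := fun e => by
      refine pow_ne_one_of_lt_orderOf (x := τ) two_ne_zero ho3 ?_
      rw [pow_two]
      nth_rewrite 1 [← e]
      exact inv_mul_cancel τ
    have hPe := hdec hinv
    have hZ0 : comp ι τ⁻¹ b ≠ 0 := by
      intro e
      rw [e, add_zero] at hPe
      -- a single component is impossible
      obtain ⟨r, hr⟩ : ∃ r, ι r = P ^ o := by
        refine hC _ (hD.pow_mem hPD o) fun x => ?_
        rw [hPe, semi_pow (comp_mul ι τ b), show τ ^ o = 1 from pow_orderOf_eq_one τ]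
        rfl
      have hP0 : comp ι τ b ≠ 0 := hY0
      have hτr : τ r = r := by
        refine coef_eq hP0 (ι := ι) ?_
        rw [← comp_mul, hr, hPe]
        exact (Commute.self_pow _ o).eq
      have hr0 : r ≠ 0 := by
        intro e0
        obtain ⟨P', -, hPP', -⟩ := hD.inv P hPD fun e => hnotK 0 (by rw [e, map_zero])
        have hz : ∀ m, P ^ m * P' ^ m = 1 := by
          intro m
          induction m with
          | zero => simp
          | succ m ih => rw [pow_succ, pow_succ', mul_assoc, ← mul_assoc _ P', hPP', one_mul, ih]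
        have := hz o
        rw [← hr, e0, map_zero, zero_mul] at this
        exact hw0 (DFunLike.congr_fun this w0).symm
      have hsemi := comp_mul ι τ b
      rw [hPe] at hr hPD hnotK
      generalize comp ι τ b = Y at hr hPD hnotK hsemi
      obtain ⟨c, hc⟩ := exists_norm_eq τ (pow_orderOf_eq_one τ) (by omega)
        (fun i hi hio => pow_ne_one_of_lt_orderOf hi.ne' hio) (f := r⁻¹) (by rw [map_inv₀, hτr])
        (inv_ne_zero hr0)
      obtain ⟨v, hv, hfix⟩ := exists_fixed_vector ι (pow_orderOf_eq_one τ) (by omega)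
        (fun i hi hio => pow_ne_one_of_lt_orderOf hi.ne' hio) (semi_smul hsemi c) (w := w0) (by
          rw [semi_mul_pow hsemi, hc, ← hr, ← map_mul, inv_mul_cancel₀ hr0, map_one]
          rfl) hw0
      have hc0 : c ≠ 0 := by
        intro e0
        rw [e0, map_zero, zero_mul] at hfix
        exact hv hfix.symm
      have hYv : Y v = ι c⁻¹ v := by
        conv_rhs => rw [← hfix]
        show Y v = ι c⁻¹ (ι c (Y v))
        rw [← ι_mul_apply, inv_mul_cancel₀ hc0, map_one]
        rfl
      obtain ⟨d, -, -, hd⟩ := hD.inv _ (sub_mem hPD (hK c⁻¹)) (sub_ne_zero.2 (hnotK _))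
      refine hv ?_
      have : (d * (Y - ι c⁻¹)) v = d (Y v - ι c⁻¹ v) := rfl
      rw [hd, hYv, sub_self, map_zero] at this
      exact this
    refine Pair.absurd_pair (ι := ι) (D := D) (τ := τ) (o := o) (Y := comp ι τ b) (Z := comp ι τ⁻¹ b)
      ⟨hD, hPe ▸ hPD, hK, hC, comp_mul ι τ b, comp_mul ι τ⁻¹ b, hodd, pow_orderOf_eq_one τ,
        fun i hi hio => pow_ne_one_of_lt_orderOf hi.ne' hio, ho3, hY0, hZ0, hPe ▸ hnotK⟩ hw0

/-- **A finite special Jordan division ring is commutative.** -/
theorem IsJordan.commute {D : AddSubgroup (AddMonoid.End A)} (hD : IsJordan D) {a b : AddMonoid.End A}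
    (ha : a ∈ D) (hb : b ∈ D) : a * b = b * a :=
  isJordan_commute_aux _ D rfl hD a ha b hb

/-- It is closed under multiplication. -/
theorem IsJordan.mul_mem {D : AddSubgroup (AddMonoid.End A)} (hD : IsJordan D) {a b : AddMonoid.End A}
    (ha : a ∈ D) (hb : b ∈ D) : a * b ∈ D :=
  hD.mul_mem_of_commute ha hb (hD.commute ha hb)

end Cfsg.Agent.ItoDesign
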