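import Cfsg.Agent.ItoDesign.Spread
import Cfsg.Agent.ItoDesign.JordanMain

/-!
A spread with all shears consists of the lines through the origin of a vector space over a finite field.
-/

set_option autoImplicit false
set_option linter.unusedSectionVars false

namespace Cfsg.Agent.ItoDesign

open scoped Classical

theorem exists_small_field (F : Type*) [Field F] [Fintype F] :
    ∃ (F' : Type) (_ : Field F') (_ : Fintype F'), Nonempty (F' ≃+* F) := by
  let e : Fin (Fintype.card F) ≃ F := (Fintype.equivFin F).symm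
  exact ⟨_, e.field, inferInstance, ⟨e.ringEquiv⟩⟩

namespace TSpread

variable {ι V : Type*} [AddCommGroup V] [Finite V] (T : TSpread ι V)

/-- The sum map of a family of members. -/
noncomputable def sumMap {M : ℕ} (f : Fin M → ι) : (∀ i, ↥(T.P (f i))) →+ V :=
  ∑ i, (T.P (f i)).subtype.comp (Pi.evalAddMonoidHom _ i)

theorem sumMap_apply {M : ℕ} (f : Fin M → ι) (c : ∀ i, ↥(T.P (f i))) :
    T.sumMap f c = ∑ i, (c i : V) := by
  simp [sumMap, AddMonoidHom.finsetSum_apply]

theorem sumMap_single {M : ℕ} (f : Fin M → ι) (i : Fin M) (x : ↥(T.P (f i))) :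
    T.sumMap f (Pi.single i x) = x := by
  rw [sumMap_apply, Finset.sum_eq_single i]
  · simp
  · intro j _ hj; simp [Pi.single_eq_of_ne hj]
  · intro h; exact absurd (Finset.mem_univ i) h

theorem range_le {M : ℕ} (f : Fin M → ι) : (T.sumMap f).range = ⨆ i, T.P (f i) := by
  refine le_antisymm ?_ (iSup_le fun i x hx => ⟨Pi.single i ⟨x, hx⟩, T.sumMap_single f i _⟩)
  rintro _ ⟨c, rfl⟩
  rw [sumMap_apply]
  exact sum_mem fun i _ => AddSubgroup.mem_iSup_of_mem i (c i).2

theorem member_le_span {M : ℕ} (f : Fin M → ι) {x : V} (hx : x ∈ ⨆ i, T.P (f i)) :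
    ∀ r, x ≠ 0 → x ∈ T.P r → T.P r ≤ ⨆ i, T.P (f i) := by
  refine AddSubgroup.iSup_induction (fun i => T.P (f i))
    (C := fun x => ∀ r, x ≠ 0 → x ∈ T.P r → T.P r ≤ ⨆ i, T.P (f i)) hx ?_ ?_ ?_
  · intro i x hx r h0 hr
    rw [T.eq_of_mem h0 hr hx]
    exact le_iSup (fun i => T.P (f i)) i
  · intro r h0; exact absurd rfl h0
  · intro x y hx hy r h0 hr
    by_cases hx0 : x = 0
    · subst hx0; rw [zero_add] at h0 hr; exact hy r h0 hr
    by_cases hy0 : y = 0
    · subst hy0; rw [add_zero] at h0 hr; exact hx r h0 hr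
    obtain ⟨a, ha⟩ := T.cover x
    obtain ⟨b, hb⟩ := T.cover y
    by_cases hab : a = b
    · subst hab
      rw [T.eq_of_mem h0 hr (add_mem ha hb)]
      exact hx a hx0 ha
    · exact (T.plane hab (AddSubgroup.add_mem_sup ha hb) h0 hr).trans
        (sup_le (hx a hx0 ha) (hy b hy0 hb))

theorem exists_frame : ∃ (n : ℕ) (f : Fin (n + 1) → ι), 1 ≤ n ∧ Function.Bijective (T.sumMap f) := by
  obtain ⟨i, j, hij⟩ := T.pair
  let S : ℕ → Prop := fun n => ∃ f : Fin (n + 1) → ι, Function.Injective (T.sumMap f)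
  have hbound : ∀ n, S n → n + 1 ≤ Nat.card V := by
    rintro n ⟨f, hf⟩
    have h1 : Function.Injective fun k : Fin (n + 1) =>
        T.sumMap f (Pi.single k (T.exists_ne_zero (f k)).choose) := by
      intro a b hab
      by_contra hne
      have := congrFun (hf hab) a
      rw [Pi.single_eq_same, Pi.single_eq_of_ne hne] at this
      exact (T.exists_ne_zero (f a)).choose_spec this
    simpa using Nat.card_le_card_of_injective _ h1
  have h1 : S 1 := by
    refine ⟨![i, j], (injective_iff_map_eq_zero _).2 fun c hc => ?_⟩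
    rw [sumMap_apply, Fin.sum_univ_two] at hc
    have h0 : (c 0 : V) = 0 := T.disjoint i j hij _ (c 0).2 (by
      rw [eq_neg_of_add_eq_zero_left hc]
      exact neg_mem (c 1).2)
    rw [h0, zero_add] at hc
    funext k
    fin_cases k
    · exact Subtype.ext h0
    · exact Subtype.ext hc
  have hpos : 1 ≤ Nat.card V := Nat.card_pos
  obtain ⟨n, hn, hmax⟩ : ∃ n, S n ∧ ∀ m, S m → m ≤ n := by
    refine ⟨Nat.findGreatest S (Nat.card V), Nat.findGreatest_spec hpos h1, fun m hm => ?_⟩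
    exact Nat.le_findGreatest (by have := hbound m hm; omega) hm
  obtain ⟨f, hf⟩ := hn
  refine ⟨n, f, hmax 1 h1, hf, fun v => ?_⟩
  by_contra hv
  have hv' : v ∉ ⨆ i, T.P (f i) := by rw [← T.range_le]; exact hv
  obtain ⟨r, hr⟩ := T.cover v
  have := hmax (n + 1) ⟨Fin.cons r f, (injective_iff_map_eq_zero _).2 fun c hc => ?_⟩
  · omega
  rw [sumMap_apply, Fin.sum_univ_succ] at hc
  have htail : (∑ i : Fin (n + 1), (c i.succ : V)) ∈ ⨆ i, T.P (f i) :=
    sum_mem fun i _ => AddSubgroup.mem_iSup_of_mem i (by simpa using (c i.succ).2)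
  have h0 : (c 0 : V) = 0 := by
    by_contra hne
    have hmem : (c 0 : V) ∈ ⨆ i, T.P (f i) := by
      rw [eq_neg_of_add_eq_zero_left hc]; exact neg_mem htail
    exact hv' (T.member_le_span f hmem r hne (by simpa using (c 0).2) hr)
  rw [h0, zero_add] at hc
  let c' : ∀ i, ↥(T.P (f i)) := fun i => ⟨(c i.succ : V), by simpa using (c i.succ).2⟩
  have hc' : c' = 0 := hf (by rw [sumMap_apply, map_zero]; exact hc)
  funext k
  refine Fin.cases (Subtype.ext h0) (fun k => Subtype.ext ?_) k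
  exact congrArg Subtype.val (congrFun hc' k)

set_option maxHeartbeats 1000000 in
/-- The coordinates of a spread: a field, a bijection with the coordinate space, and the members as lines. -/
theorem exists_coords : ∃ (F : Type) (_ : Field F) (_ : Fintype F) (n : ℕ) (Ψ : (Fin (n + 1) → F) ≃+ V),
    1 ≤ n ∧ (∀ i, Nat.card ↥(T.P i) = Fintype.card F) ∧
      ∀ x, x ≠ 0 → ∀ r, Ψ x ∈ T.P r → ∀ y, Ψ y ∈ T.P r ↔ ∃ a : F, y = a • x := by
  obtain ⟨n, f, hn, hf⟩ := T.exists_frame
  obtain ⟨v0, hv0⟩ := T.exists_ne_zero (f 0)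
  have hne : ∀ {i j : Fin (n + 1)}, i ≠ j → f i ≠ f j := by
    intro i j hij e
    obtain ⟨v, hv⟩ := T.exists_ne_zero (f i)
    have h1 : T.sumMap f (Pi.single i v) = T.sumMap f (Pi.single j ⟨v, e ▸ v.2⟩) := by
      rw [T.sumMap_single, T.sumMap_single]
    have := congrFun (hf.1 h1) i
    rw [Pi.single_eq_same, Pi.single_eq_of_ne hij] at this
    exact hv this
  have hind : ∀ {i j k : Fin (n + 1)}, i ≠ j → j ≠ k → i ≠ k → ∀ u ∈ T.P (f i), ∀ w ∈ T.P (f j),
      ∀ z ∈ T.P (f k), u + w + z = 0 → u = 0 ∧ w = 0 ∧ z = 0 := by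
    intro i j k hij hjk hik u hu w hw z hz he
    have h1 : (Pi.single i ⟨u, hu⟩ + Pi.single j ⟨w, hw⟩ + Pi.single k ⟨z, hz⟩ : ∀ l, ↥(T.P (f l))) = 0 :=
      hf.1 (by rw [map_add, map_add, map_zero, T.sumMap_single, T.sumMap_single, T.sumMap_single]; exact he)
    have e1 := congrFun h1 i
    have e2 := congrFun h1 j
    have e3 := congrFun h1 k
    simp only [Pi.add_apply, Pi.zero_apply, Pi.single_eq_same, Pi.single_eq_of_ne hij,
      Pi.single_eq_of_ne hik, Pi.single_eq_of_ne hij.symm, Pi.single_eq_of_ne hjk,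
      Pi.single_eq_of_ne hjk.symm, Pi.single_eq_of_ne hik.symm, add_zero, zero_add] at e1 e2 e3
    exact ⟨congrArg Subtype.val e1, congrArg Subtype.val e2, congrArg Subtype.val e3⟩
  set i1 : Fin (n + 1) := ⟨1, by omega⟩ with hi1
  have h01 : (0 : Fin (n + 1)) ≠ i1 := fun e => by simpa [hi1] using congrArg Fin.val e
  obtain ⟨u1, hu1⟩ := T.exists_ne_zero (f i1)
  obtain ⟨φ1, hφ1, hφ1v⟩ := T.exists_graph (hne h01) hv0 u1
  have hφ1b := T.graph_bijective (hne h01) hφ1 fun e => hu1 (by rw [← hφ1v, e]; rfl)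
  let e1 : ↥(T.P (f 0)) ≃+ ↥(T.P (f i1)) := AddEquiv.ofBijective φ1 hφ1b
  -- the coordinate ring
  let D : AddSubgroup (AddMonoid.End ↥(T.P (f 0))) :=
    { carrier := {a | T.IsGraph (φ1.comp a)}
      zero_mem' := by
        show T.IsGraph _
        rw [show φ1.comp (0 : AddMonoid.End ↥(T.P (f 0))) = 0 from AddMonoidHom.comp_zero φ1]
        exact T.isGraph_zero _ _
      add_mem' := fun {a b} ha hb => by
        show T.IsGraph _
        rw [show φ1.comp (a + b) = φ1.comp a + φ1.comp b from AddMonoidHom.comp_add φ1 a b]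
        exact T.isGraph_add (hne h01) ha hb
      neg_mem' := fun {a} ha => by
        show T.IsGraph _
        rw [show φ1.comp (-a) = -φ1.comp a from AddMonoidHom.ext fun x => map_neg φ1 (a x)]
        exact T.isGraph_neg (hne h01) ha }
  have h1D : (1 : AddMonoid.End ↥(T.P (f 0))) ∈ D := by
    show T.IsGraph _
    rw [show φ1.comp (1 : AddMonoid.End ↥(T.P (f 0))) = φ1 from AddMonoidHom.comp_id φ1]
    exact hφ1
  have hex : ∀ w, ∃ a ∈ D, a v0 = w := by
    intro w
    obtain ⟨φ, hφ, hφv⟩ := T.exists_graph (hne h01) hv0 (φ1 w)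
    refine ⟨e1.symm.toAddMonoidHom.comp φ, ?_, ?_⟩
    · show T.IsGraph _
      convert hφ using 1
      exact AddMonoidHom.ext fun x => e1.apply_symm_apply (φ x)
    · show e1.symm (φ v0) = w
      rw [hφv]
      exact e1.symm_apply_apply w
  have huni : ∀ a ∈ D, ∀ b ∈ D, a v0 = b v0 → a = b := by
    intro a ha b hb hab
    have := T.graph_eq (hne h01) ha hb hv0 (by show φ1 (a v0) = φ1 (b v0); rw [hab])
    exact AddMonoidHom.ext fun x => hφ1b.1 (DFunLike.congr_fun this x)
  -- an inverse of an element lies in the ring read backwards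
  let D' : Set (AddMonoid.End ↥(T.P (f 0))) :=
    {b | ∃ χ : ↥(T.P (f i1)) →+ ↥(T.P (f 0)), T.IsGraph χ ∧ b = χ.comp φ1}
  have hD'inv : ∀ a ∈ D, a ≠ 0 → ∃ b ∈ D', a * b = 1 ∧ b * a = 1 := by
    intro a ha ha0
    have hbij := T.graph_bijective (hne h01) ha fun e => ha0 (AddMonoidHom.ext fun x =>
      hφ1b.1 ((DFunLike.congr_fun e x).trans (map_zero φ1).symm))
    let ea : ↥(T.P (f 0)) ≃+ ↥(T.P (f i1)) := AddEquiv.ofBijective (φ1.comp a) hbij
    refine ⟨ea.symm.toAddMonoidHom.comp φ1, ⟨_, T.isGraph_symm ea ha, rfl⟩, ?_, ?_⟩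
    · exact AddMonoidHom.ext fun x => hφ1b.1 (ea.apply_symm_apply (φ1 x))
    · exact AddMonoidHom.ext fun x => ea.symm_apply_apply x
  have hD'sub : ∀ a ∈ D', ∀ b ∈ D', a + b ∈ D' := by
    rintro _ ⟨χ, hχ, rfl⟩ _ ⟨χ', hχ', rfl⟩
    exact ⟨χ + χ', T.isGraph_add (hne h01.symm) hχ hχ', (AddMonoidHom.add_comp χ χ' φ1).symm⟩
  have hD'back : ∀ b ∈ D', b ≠ 0 → ∃ a ∈ D, a * b = 1 ∧ b * a = 1 := by
    rintro _ ⟨χ, hχ, rfl⟩ hb0
    have hbij := T.graph_bijective (hne h01.symm) hχ fun e => hb0 (by rw [e]; rfl)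
    let eχ : ↥(T.P (f i1)) ≃+ ↥(T.P (f 0)) := AddEquiv.ofBijective χ hbij
    refine ⟨e1.symm.toAddMonoidHom.comp eχ.symm.toAddMonoidHom, ?_, ?_, ?_⟩
    · show T.IsGraph _
      convert T.isGraph_symm eχ hχ using 1
      exact AddMonoidHom.ext fun x => e1.apply_symm_apply (eχ.symm x)
    · refine AddMonoidHom.ext fun x => ?_
      show e1.symm (eχ.symm (eχ (φ1 x))) = x
      rw [eχ.symm_apply_apply]
      exact e1.symm_apply_apply x
    · refine AddMonoidHom.ext fun x => ?_
      show χ (φ1 (e1.symm (eχ.symm x))) = x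
      rw [show φ1 (e1.symm (eχ.symm x)) = eχ.symm x from e1.apply_symm_apply _]
      exact eχ.apply_symm_apply x
  have hnt : (1 : AddMonoid.End ↥(T.P (f 0))) ≠ 0 := fun e => hv0 (DFunLike.congr_fun e v0)
  have h1D' : (1 : AddMonoid.End ↥(T.P (f 0))) ∈ D' := by
    obtain ⟨b, hb, hb1, -⟩ := hD'inv 1 h1D hnt
    rw [one_mul] at hb1
    exact hb1 ▸ hb
  have hD : IsJordan D := by
    refine ⟨h1D, fun a ha ha0 => ?_⟩
    obtain ⟨b, hb, hab, hba⟩ := hD'inv a ha ha0
    refine ⟨b, ?_, hab, hba⟩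
    -- `1 - b` is the inverse of `1 + (a - 1)⁻¹`
    by_cases ha1 : a - 1 = 0
    · rw [sub_eq_zero.1 ha1, one_mul] at hab
      rw [hab]; exact h1D
    obtain ⟨u', hu', huu', hu'u⟩ := hD'inv (a - 1) (sub_mem ha h1D) ha1
    have hs : (1 + u') * (1 - b) = 1 := by
      have e1 : 1 + u' = u' * a := by
        calc 1 + u' = u' * (a - 1) + u' := by rw [hu'u]
          _ = u' * a := by rw [mul_sub, mul_one, sub_add_cancel]
      rw [e1, mul_sub, mul_one, mul_assoc, hab, mul_one, ← e1, add_sub_cancel_right]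
    have hne' : 1 + u' ≠ 0 := fun e => hnt (by rw [← hs, e, zero_mul])
    obtain ⟨w, hw, hw1, hw2⟩ := hD'back _ (hD'sub 1 h1D' u' hu') hne'
    have : w = 1 - b := calc
      w = w * ((1 + u') * (1 - b)) := by rw [hs, mul_one]
      _ = 1 - b := by rw [← mul_assoc, hw1, one_mul]
    have := sub_mem h1D hw
    rwa [‹w = 1 - b›, sub_sub_cancel] at this
  let Fs : Subring (AddMonoid.End ↥(T.P (f 0))) :=
    { carrier := {a | a ∈ D}
      mul_mem' := fun {a b} ha hb => hD.mul_mem ha hb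
      one_mem' := h1D
      add_mem' := fun {a b} ha hb => D.add_mem ha hb
      zero_mem' := zero_mem D
      neg_mem' := fun {a} ha => D.neg_mem ha }
  have hfield : IsField ↥Fs := hD.isField (x := v0) hv0 Fs (fun y hy => hy)
    (fun a ha b hb => hD.commute ha hb)
  let _ : Field ↥Fs := hfield.toField
  let _ : Fintype ↥Fs := Fintype.ofFinite _
  have hev : Function.Bijective fun a : ↥Fs => (a : AddMonoid.End ↥(T.P (f 0))) v0 :=
    ⟨fun a b hab => Subtype.ext (huni a a.2 b b.2 hab),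
      fun w => let ⟨a, ha, e⟩ := hex w; ⟨⟨a, ha⟩, e⟩⟩
  -- the coordinate maps
  have hφex : ∀ i, ∃ φ : ↥(T.P (f 0)) →+ ↥(T.P (f i)), Function.Bijective φ ∧
      (i = 0 → ∀ z, (φ z : V) = z) ∧ (i ≠ 0 → ∀ a ∈ D, T.IsGraph (φ.comp a)) := by
    intro i
    by_cases hi0 : i = 0
    · subst hi0
      exact ⟨AddMonoidHom.id _, Function.bijective_id, fun _ _ => rfl, fun h => absurd rfl h⟩
    by_cases hi : i = i1
    · subst hi
      exact ⟨φ1, hφ1b, fun h => absurd h hi0, fun _ a ha => ha⟩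
    obtain ⟨w, hw⟩ := T.exists_ne_zero (f i)
    obtain ⟨χ, hχ, hχv⟩ := T.exists_graph (hne (Ne.symm hi)) hu1 w
    refine ⟨χ.comp φ1, (T.graph_bijective (hne (Ne.symm hi)) hχ fun e => hw (by rw [← hχv, e]; rfl)).comp hφ1b,
      fun h => absurd h hi0, fun _ a ha => ?_⟩
    exact T.isGraph_comp (hne h01) (hne (Ne.symm hi)) (hne (Ne.symm hi0))
      (hind h01 (Ne.symm hi) (Ne.symm hi0)) ha hχ
  choose φ hφb hφ0 hφD using hφex
  let Ψ0 : (Fin (n + 1) → ↥Fs) →+ V :=
    { toFun := fun x => ∑ i, (φ i ((x i : AddMonoid.End ↥(T.P (f 0))) v0) : V)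
      map_zero' := by simp
      map_add' := fun x y => by
        rw [← Finset.sum_add_distrib]
        refine Finset.sum_congr rfl fun i _ => ?_
        show (φ i (((x i : AddMonoid.End ↥(T.P (f 0))) + y i) v0) : V) = _
        rw [show ((x i : AddMonoid.End ↥(T.P (f 0))) + y i) v0 = (x i : AddMonoid.End _) v0 + (y i : AddMonoid.End _) v0
          from rfl, map_add, AddSubgroup.coe_add] }
  have hΨb : Function.Bijective Ψ0 := by
    have e : (Ψ0 : (Fin (n + 1) → ↥Fs) → V) = T.sumMap f ∘ fun x i => φ i ((x i : AddMonoid.End _) v0) :=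
      funext fun x => (T.sumMap_apply f _).symm
    rw [e]
    exact hf.comp (Function.Bijective.piMap fun i => (hφb i).comp hev)
  -- scalars preserve members
  have key : ∀ (s : Finset (Fin (n + 1))) (x : Fin (n + 1) → ↥Fs), (∀ i, i ∉ s → x i = 0) → x ≠ 0 →
      ∀ r, Ψ0 x ∈ T.P r → ∀ a : ↥Fs, Ψ0 (a • x) ∈ T.P r := by
    intro s
    induction s using Finset.strongInduction with
    | H s ih =>
    intro x hs hx r hr a
    obtain ⟨i0, hi0⟩ : ∃ i, x i ≠ 0 := by
      by_contra hall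
      push Not at hall
      exact hx (funext hall)
    by_cases hone : ∀ i, i ≠ i0 → x i = 0
    · have e : ∀ y : Fin (n + 1) → ↥Fs, (∀ i, i ≠ i0 → y i = 0) → Ψ0 y ∈ T.P (f i0) := by
        intro y hy
        show (∑ i, (φ i ((y i : AddMonoid.End _) v0) : V)) ∈ _
        rw [Finset.sum_eq_single i0 (fun i _ hi => by rw [hy i hi]; simp)
          (fun h => absurd (Finset.mem_univ _) h)]
        exact (φ i0 _).2
      rw [T.eq_of_mem (fun h => hx (hΨb.1 (h.trans (map_zero Ψ0).symm))) hr (e x hone)]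
      exact e _ fun i hi => by simp [hone i hi]
    push Not at hone
    obtain ⟨i2, hi2, hx2⟩ := hone
    obtain ⟨j, hj0, hxj, hex'⟩ : ∃ j : Fin (n + 1), j ≠ 0 ∧ x j ≠ 0 ∧ ∃ k, k ≠ j ∧ x k ≠ 0 := by
      by_cases h : i0 = 0
      · exact ⟨i2, h ▸ hi2, hx2, i0, hi2.symm, hi0⟩
      · exact ⟨i0, h, hi0, i2, hi2, hx2⟩
    obtain ⟨k0, hk0, hxk0⟩ := hex'
    set z := Function.update x j 0 with hz
    have hzne : z ≠ 0 := fun e => hxk0 (by
      have := congrFun e k0
      rwa [hz, Function.update_of_ne hk0] at this)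
    have hzs : ∀ i, i ∉ s.erase j → z i = 0 := by
      intro i hi
      by_cases hij : i = j
      · subst hij; simp [hz]
      · rw [hz, Function.update_of_ne hij]
        exact hs i fun h => hi (Finset.mem_erase.2 ⟨hij, h⟩)
    have hjs : j ∈ s := by_contra fun h => hxj (hs j h)
    have hΨz0 : Ψ0 z ≠ 0 := fun h => hzne (hΨb.1 (h.trans (map_zero Ψ0).symm))
    obtain ⟨b, hb⟩ := T.cover (Ψ0 z)
    have hbz := ih (s.erase j) (Finset.erase_ssubset hjs) z hzs hzne b hb
    have hbj : b ≠ f j := by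
      rintro rfl
      have h1 : T.sumMap f (Pi.single j ⟨Ψ0 z, hb⟩) = T.sumMap f (fun i => φ i ((z i : AddMonoid.End _) v0)) := by
        rw [T.sumMap_single, T.sumMap_apply]; rfl
      have := congrFun (hf.1 h1) k0
      rw [Pi.single_eq_of_ne hk0, hz, Function.update_of_ne hk0] at this
      refine hxk0 (hev.1 ?_)
      refine ((hφb k0).1 ?_)
      rw [← this]
      simp
    obtain ⟨η, h1, h2, h3, h4⟩ := T.shear b (f j) hbj (Ψ0 z) hb hΨz0
      (φ j ((x j : AddMonoid.End _) v0) : V) (φ j _).2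
    -- `η` is linear in the coordinates
    have hlin : ∀ k, ∃ c : ↥Fs, ∀ t : ↥Fs, η (φ k ((t : AddMonoid.End _) v0) : V) =
        (φ j (((c * t : ↥Fs) : AddMonoid.End _) v0) : V) := by
      intro k
      by_cases hk : k = j
      · subst hk
        refine ⟨0, fun t => ?_⟩
        rw [h2 _ (φ k _).2, zero_mul]
        simp
      obtain ⟨g, hg, hge⟩ : ∃ g : ↥(T.P (f 0)) →+ ↥(T.P (f j)), T.IsGraph g ∧ ∀ u, (g u : V) = η (φ k u) := by
        refine ⟨(T.res (p := f k) η h1).comp (φ k), ?_, fun _ => rfl⟩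
        by_cases hk0' : k = 0
        · subst hk0'
          convert T.isGraph_res (p := f 0) η h1 h4 using 1
          exact AddMonoidHom.ext fun u => Subtype.ext (congrArg η (hφ0 0 rfl u))
        · have := T.isGraph_comp (hne (Ne.symm hk0')) (hne hk) (hne (Ne.symm hj0))
            (hind (Ne.symm hk0') hk (Ne.symm hj0)) (hφD k hk0' 1 h1D) (T.isGraph_res (p := f k) η h1 h4)
          exact this
      obtain ⟨w, hw⟩ := (hφb j).2 (g v0)
      obtain ⟨c, hc, hcv⟩ := hex w
      have hgc : g = (φ j).comp c := T.graph_eq (hne (Ne.symm hj0)) hg (hφD j hj0 c hc) hv0 (by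
        show g v0 = φ j (c v0)
        rw [hcv, hw])
      refine ⟨⟨c, hc⟩, fun t => ?_⟩
      rw [← hge, hgc]
      rfl
    choose c hc using hlin
    have hη : ∀ y : Fin (n + 1) → ↥Fs,
        η (Ψ0 y) = (φ j (((∑ i, c i * y i : ↥Fs) : AddMonoid.End _) v0) : V) := by
      intro y
      show η (∑ i, (φ i ((y i : AddMonoid.End _) v0) : V)) = _
      rw [map_sum]
      simp only [hc]
      let L : ↥Fs →+ V :=
        { toFun := fun t => (φ j ((t : AddMonoid.End _) v0) : V)
          map_zero' := by simp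
          map_add' := fun s t => by
            show (φ j (((s : AddMonoid.End ↥(T.P (f 0))) + (t : AddMonoid.End ↥(T.P (f 0)))) v0) : V) = _
            rw [show ((s : AddMonoid.End ↥(T.P (f 0))) + t) v0 = (s : AddMonoid.End _) v0 + (t : AddMonoid.End _) v0
              from rfl, map_add, AddSubgroup.coe_add] }
      exact (map_sum L _ _).symm
    have hxjc : x j = ∑ i, c i * z i := by
      refine hev.1 ((hφb j).1 (Subtype.ext ?_))
      rw [← hη, h3]
    have hdec : ∀ t : ↥Fs, Ψ0 (t • x) = Ψ0 (t • z) + η (Ψ0 (t • z)) := by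
      intro t
      have e : t • x = t • z + Pi.single j (t * x j) := by
        funext i
        by_cases hij : i = j
        · subst hij; simp [hz]
        · simp [hz, Function.update_of_ne hij, Pi.single_eq_of_ne hij]
      rw [e, map_add, hη]
      congr 1
      show (∑ i, (φ i (((Pi.single j (t * x j) : Fin (n + 1) → ↥Fs) i : AddMonoid.End _) v0) : V)) = _
      rw [Finset.sum_eq_single j (fun i _ hij => by rw [Pi.single_eq_of_ne hij]; simp)
        (fun h => absurd (Finset.mem_univ _) h), Pi.single_eq_same, hxjc, Finset.mul_sum]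
      rw [show (∑ i, t * (c i * z i) : ↥Fs) = ∑ i, c i * (t • z) i from
        Finset.sum_congr rfl fun i _ => by rw [Pi.smul_apply, smul_eq_mul, mul_left_comm]]
    obtain ⟨j0, hj0'⟩ := h4 b
    have hxr := hdec 1
    simp only [one_smul] at hxr
    have hr0 : r = j0 := T.eq_of_mem (fun h => hx (hΨb.1 (h.trans (map_zero Ψ0).symm))) hr
      (hxr ▸ hj0' _ hb)
    rw [hr0, hdec]
    exact hj0' _ (hbz a)
  -- transfer to a small type
  obtain ⟨F', hF', hFin', ⟨er⟩⟩ := exists_small_field ↥Fs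
  have hq : Fintype.card F' = Fintype.card ↥Fs := Fintype.card_congr er.toEquiv
  let Ψ : (Fin (n + 1) → F') ≃+ V :=
    (AddEquiv.piCongrRight fun _ => er.toAddEquiv).trans (AddEquiv.ofBijective Ψ0 hΨb)
  have hcard : ∀ i, Nat.card ↥(T.P i) = Fintype.card ↥Fs := fun i => by
    rw [T.card_eq i (f 0), ← Nat.card_eq_fintype_card]
    exact (Nat.card_congr (Equiv.ofBijective _ hev)).symm
  refine ⟨F', hF', hFin', n, Ψ, hn, fun i => by rw [hcard, hq], ?_⟩
  intro x hx r hr y
  have hsm : ∀ a : F', Ψ (a • x) ∈ T.P r := by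
    intro a
    have hx' : (fun i => er (x i)) ≠ 0 := fun h => hx (funext fun i => er.injective (by
      rw [show er (x i) = 0 from congrFun h i, Pi.zero_apply, map_zero]))
    have := key Finset.univ _ (fun i hi => absurd (Finset.mem_univ i) hi) hx' r hr (er a)
    show Ψ0 (fun i => er ((a • x) i)) ∈ T.P r
    simpa [Pi.smul_def] using this
  refine ⟨fun hy => ?_, fun ⟨a, ha⟩ => ha ▸ hsm a⟩
  have hinj : Function.Injective fun a => (⟨Ψ (a • x), hsm a⟩ : ↥(T.P r)) := fun a b hab =>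
    smul_left_injective _ hx (Ψ.injective (congrArg Subtype.val hab))
  obtain ⟨a, ha⟩ := ((Nat.bijective_iff_injective_and_card _).2 ⟨hinj, by
    rw [hcard, Nat.card_eq_fintype_card, hq]⟩).2 ⟨Ψ y, hy⟩
  exact ⟨a, (Ψ.injective (congrArg Subtype.val ha)).symm⟩

end TSpread

end Cfsg.Agent.ItoDesign
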