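import Cfsg.Agent.ItoDesign.Semilinear

/-!
A finite additive group of automorphisms of an abelian group (with `0`) which contains `1` and is
closed under inversion is commutative, hence a field. This is the Desargues theorem for finite
Moufang planes.
-/

set_option autoImplicit false
set_option linter.unusedSectionVars false

namespace Cfsg.Agent.ItoDesign

open Finset
open scoped Classical

variable {A : Type*} [AddCommGroup A] [Finite A]

/-- An additive group of units containing `1`, closed under inversion. -/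
structure IsJordan (D : AddSubgroup (AddMonoid.End A)) : Prop where
  one_mem : 1 ∈ D
  inv : ∀ x ∈ D, x ≠ 0 → ∃ y ∈ D, x * y = 1 ∧ y * x = 1

instance finite_end : Finite (AddMonoid.End A) :=
  Finite.of_injective (fun f : AddMonoid.End A => (f : A → A)) DFunLike.coe_injective

/-- A sum over an involution lies in a subgroup containing the pair sums and the fixed terms. -/
theorem sum_mem_of_involution {M : Type*} [AddCommGroup M] (D : AddSubgroup M) {β : Type*}
    [Fintype β] (f : β → M) (g : β → β) (hg : ∀ b, g (g b) = b) (h2 : ∀ b, f b + f (g b) ∈ D)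
    (h1 : ∀ b, g b = b → f b ∈ D) : ∑ b, f b ∈ D := by
  rw [← QuotientAddGroup.eq_zero_iff, ← QuotientAddGroup.mk'_apply, map_sum]
  refine Finset.sum_involution (fun b _ => g b) (fun b _ => ?_) (fun b _ hb hgb => hb ?_)
    (fun b _ => Finset.mem_univ _) (fun b _ => hg b)
  · rw [← map_add]
    exact (QuotientAddGroup.eq_zero_iff _).2 (h2 b)
  · exact (QuotientAddGroup.eq_zero_iff _).2 (h1 b hgb)

namespace IsJordan

variable {D : AddSubgroup (AddMonoid.End A)} (hD : IsJordan D)

include hD in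
theorem ne_zero {x : A} (hx : x ≠ 0) : (1 : AddMonoid.End A) ≠ 0 := fun e =>
  hx (DFunLike.congr_fun e x)

include hD in
theorem sandwich {x y : AddMonoid.End A} (hx : x ∈ D) (hy : y ∈ D) : x * y * x ∈ D := by
  by_cases hx0 : x = 0
  · subst hx0; simp [zero_mem]
  by_cases hy0 : y = 0
  · subst hy0; simp [zero_mem]
  obtain ⟨x', hx'D, hxx', hx'x⟩ := hD.inv x hx hx0
  obtain ⟨y', hy'D, hyy', hy'y⟩ := hD.inv y hy hy0
  by_cases hu0 : y' - x = 0
  · rw [← sub_eq_zero.1 hu0, hy'y, one_mul]
    exact hy'D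
  obtain ⟨u', hu'D, huu', hu'u⟩ := hD.inv _ (sub_mem hy'D hx) hu0
  set u := y' - x with hu
  have hw : x' + u' = x' * y' * u' := by
    rw [show y' = u + x by rw [hu, sub_add_cancel], mul_add, add_mul, mul_assoc, huu', mul_one, hx'x,
      one_mul]
  have hinv : (x' + u') * (u * y * x) = 1 := by
    rw [hw]
    simp only [mul_assoc]
    rw [← mul_assoc u' u, hu'u, one_mul, ← mul_assoc y' y, hy'y, one_mul, hx'x]
  have hne : x' + u' ≠ 0 := fun e => by
    rw [e, zero_mul] at hinv
    exact hx0 (by rw [← mul_one x, ← hinv, mul_zero])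
  obtain ⟨w, hwD, hww', hw'w⟩ := hD.inv _ (add_mem hx'D hu'D) hne
  have hweq : w = u * y * x := by
    rw [← mul_one w, ← hinv, ← mul_assoc, hw'w, one_mul]
  have e : x - w = x * y * x := by
    rw [hweq, hu, sub_mul, sub_mul, hy'y, one_mul, sub_sub_cancel]
  exact e ▸ sub_mem hx hwD

include hD in
theorem lin {x x' y : AddMonoid.End A} (hx : x ∈ D) (hx' : x' ∈ D) (hy : y ∈ D) :
    x * y * x' + x' * y * x ∈ D := by
  have e : x * y * x' + x' * y * x = (x + x') * y * (x + x') - x * y * x - x' * y * x' := by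
    noncomm_ring
  rw [e]
  exact sub_mem (sub_mem (hD.sandwich (add_mem hx hx') hy) (hD.sandwich hx hy)) (hD.sandwich hx' hy)

include hD in
theorem sq_mem {x : AddMonoid.End A} (hx : x ∈ D) : x * x ∈ D := by
  simpa using hD.sandwich hx hD.one_mem

include hD in
theorem mul_add_mem {x y : AddMonoid.End A} (hx : x ∈ D) (hy : y ∈ D) : x * y + y * x ∈ D := by
  simpa using hD.lin hx hy hD.one_mem

include hD in
theorem pow_mem {x : AddMonoid.End A} (hx : x ∈ D) : ∀ n : ℕ, x ^ n ∈ D
  | 0 => by simpa using hD.one_mem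
  | 1 => by simpa using hx
  | n + 2 => by
    rw [pow_succ, pow_succ']
    exact hD.sandwich hx (pow_mem hx n)

include hD in
theorem adjoin_le {x y : AddMonoid.End A} (hx : x ∈ D) (hy : y ∈ Algebra.adjoin ℤ ({x} : Set _)) :
    y ∈ D := by
  rw [Algebra.adjoin_singleton_eq_range_aeval] at hy
  obtain ⟨p, rfl⟩ := hy
  show Polynomial.aeval x p ∈ D
  induction p using Polynomial.induction_on' with
  | add p q hp hq => rw [map_add]; exact add_mem hp hq
  | monomial n a =>
    rw [Polynomial.aeval_monomial, ← Algebra.smul_def]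
    exact zsmul_mem (hD.pow_mem hx n) a

include hD in
/-- A commutative subring inside `D` is a field. -/
theorem isField {x : A} (hx : x ≠ 0) (S : Subring (AddMonoid.End A))
    (hS : ∀ y ∈ S, y ∈ D) (hc : ∀ a ∈ S, ∀ b ∈ S, a * b = b * a) : IsField ↥S := by
  have : Nontrivial ↥S :=
    ⟨⟨1, 0, fun e => hD.ne_zero hx (congrArg Subtype.val e)⟩⟩
  have : NoZeroDivisors ↥S := ⟨fun {a b} hab => by
    by_contra hne
    push Not at hne
    obtain ⟨a', -, -, ha'a⟩ := hD.inv a (hS a a.2) fun e => hne.1 (Subtype.ext e)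
    refine hne.2 (Subtype.ext ?_)
    have e : (a : AddMonoid.End A) * b = 0 := congrArg Subtype.val hab
    rw [← one_mul (b : AddMonoid.End A), ← ha'a, mul_assoc, e, mul_zero]
    rfl⟩
  let _ : CommRing ↥S := { (inferInstance : Ring ↥S) with
    mul_comm := fun a b => Subtype.ext (hc a a.2 b b.2) }
  have : IsDomain ↥S := NoZeroDivisors.to_isDomain _
  exact Finite.isField_of_domain ↥S

include hD in
theorem mul_mem_of_commute {a b : AddMonoid.End A} (ha : a ∈ D) (hb : b ∈ D) (hab : a * b = b * a) :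
    a * b ∈ D := by
  by_cases hA : ∀ x : A, x = 0
  · have : a * b = 0 := AddMonoidHom.ext fun x => hA _
    rw [this]; exact zero_mem _
  push Not at hA
  obtain ⟨x, hx⟩ := hA
  set S := (Algebra.adjoin ℤ ({a} : Set (AddMonoid.End A))).toSubring with hS
  have hmem : ∀ y ∈ S, y ∈ D := fun y hy => hD.adjoin_le ha hy
  have hcomm : ∀ y ∈ S, y * b = b * y := fun y hy => by
    induction hy using Algebra.adjoin_induction with
    | mem z hz => rw [Set.mem_singleton_iff.1 hz, hab]
    | algebraMap r => exact Algebra.commutes r b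
    | add p q _ _ hp hq => rw [add_mul, mul_add, hp, hq]
    | mul p q _ _ hp hq => rw [mul_assoc, hq, ← mul_assoc, hp, mul_assoc]
  have hSc : ∀ y ∈ S, ∀ z ∈ S, y * z = z * y := by
    intro y hy z hz
    have hy' : y ∈ Algebra.adjoin ℤ ({a} : Set (AddMonoid.End A)) := hy
    have hz' : z ∈ Algebra.adjoin ℤ ({a} : Set (AddMonoid.End A)) := hz
    rw [Algebra.adjoin_singleton_eq_range_aeval] at hy' hz'
    obtain ⟨p, rfl⟩ := hy'
    obtain ⟨q, rfl⟩ := hz'
    show Polynomial.aeval a p * Polynomial.aeval a q = Polynomial.aeval a q * Polynomial.aeval a p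
    rw [← map_mul, ← map_mul, mul_comm]
  let _ : Field ↥S := (hD.isField hx S hmem hSc).toField
  -- `a` is a sum or a difference of two squares
  have key : ∀ s : ↥S, (∃ u, s = u * u) ∨ ∃ u v, s = u * u - v * v := by
    intro s
    by_cases h2 : (2 : ↥S) = 0
    · refine Or.inl ?_
      have : CharP ↥S 2 := CharP.ringChar_of_prime_eq_zero Nat.prime_two (by exact_mod_cast h2) ▸
        ringChar.charP ↥S
      obtain ⟨u, hu⟩ := FiniteField.isSquare_of_char_two (F := ↥S) (ringChar.eq _ 2) s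
      exact ⟨u, hu⟩
    · exact Or.inr ⟨(s + 1) / 2, (s - 1) / 2, by field_simp; ring⟩
  have hsq : ∀ u : ↥S, (u : AddMonoid.End A) * u * b ∈ D := fun u => by
    rw [mul_assoc, hcomm _ u.2, ← mul_assoc]
    exact hD.sandwich (hmem _ u.2) hb
  obtain ⟨u, hu⟩ | ⟨u, v, huv⟩ := key ⟨a, Algebra.self_mem_adjoin_singleton ℤ a⟩
  · have e : a = (u : AddMonoid.End A) * u := congrArg Subtype.val hu
    rw [e]
    exact hsq u
  · have e : a = (u : AddMonoid.End A) * u - (v : AddMonoid.End A) * v := congrArg Subtype.val huv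
    rw [e, sub_mul]
    exact sub_mem (hsq u) (hsq v)

include hD in
theorem centralizer (x : AddMonoid.End A) :
    IsJordan (D ⊓ AddMonoidHom.ker (AddMonoidHom.mulLeft x - AddMonoidHom.mulRight x)) := by
  refine ⟨⟨hD.one_mem, by simp⟩, fun y hy hy0 => ?_⟩
  obtain ⟨z, hz, hyz, hzy⟩ := hD.inv y hy.1 hy0
  refine ⟨z, ⟨hz, ?_⟩, hyz, hzy⟩
  have hc : x * y = y * x := sub_eq_zero.1 hy.2
  show x * z - z * x = 0
  have e : x * z = z * x := by
    calc x * z = z * (y * x) * z := by rw [← mul_assoc z y, hzy, one_mul]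
      _ = z * x * (y * z) := by rw [← hc]; simp only [mul_assoc]
      _ = z * x := by rw [hyz, mul_one]
  rw [e, sub_self]

end IsJordan

section Core

variable {K : Type*} [Field K] [Fintype K] {ι : K →+* AddMonoid.End A}
  {D : AddSubgroup (AddMonoid.End A)}

theorem cancel_left {a : K} (ha : a ≠ 0) {X : AddMonoid.End A} (h : ι a * X = 0) : X = 0 := by
  rw [← one_mul X, ← map_one ι, ← inv_mul_cancel₀ ha, map_mul, mul_assoc, h, mul_zero]

theorem coef_eq {a b : K} {X : AddMonoid.End A} (hX : X ≠ 0) (h : ι a * X = ι b * X) : a = b := by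
  by_contra hne
  exact hX (cancel_left (sub_ne_zero.2 hne) (by rw [map_sub, sub_mul, h, sub_self]))

theorem apply_cancel {a : K} (ha : a ≠ 0) {x : A} (h : ι a x = 0) : x = 0 := by
  have : ι (a⁻¹ * a) x = ι a⁻¹ (ι a x) := by rw [map_mul]; rfl
  rw [inv_mul_cancel₀ ha, map_one, h, map_zero] at this
  exact this

theorem ι_mul_apply (a b : K) (x : A) : ι (a * b) x = ι a (ι b x) := by
  rw [map_mul]; rfl

variable (hD : IsJordan D) (hK : ∀ a, ι a ∈ D)
  (hC : ∀ W ∈ D, (∀ a, ι a * W = W * ι a) → ∃ b, ι b = W)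
  {X : AddMonoid.End A} (hX : X ∈ D)

include hD hK hX in
theorem comp_add_comp_mem (τ : K ≃+* K) : comp ι τ X + comp ι τ⁻¹ X ∈ D := by
  let e : Kˣ ≃ Kˣ :=
    { toFun := fun b => (Units.map τ.toRingHom.toMonoidHom b)⁻¹
      invFun := fun b => Units.map τ.symm.toRingHom.toMonoidHom b⁻¹
      left_inv := fun b => Units.ext (by simp)
      right_inv := fun b => Units.ext (by simp) }
  have h : comp ι τ⁻¹ X = -∑ b : Kˣ, ι ((b : K)⁻¹) * X * ι (τ (b : K)) := by
    rw [comp, neg_inj]
    refine (Fintype.sum_equiv e _ _ fun b => ?_).symm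
    simp [e, RingAut.inv_apply]
  rw [h, comp, ← neg_add, ← Finset.sum_add_distrib]
  exact neg_mem (sum_mem fun b _ => hD.lin (hK _) (hK _) hX)

include hD hK hX in
theorem comp_mem (τ : K ≃+* K) (hτ : τ⁻¹ = τ) : comp ι τ X ∈ D := by
  have hττ : ∀ x, τ (τ x) = x := fun x => by
    conv_lhs => rw [← hτ, RingAut.inv_apply, hτ]
    exact τ.symm_apply_apply x
  refine neg_mem (sum_mem_of_involution D _ (fun b => (Units.map τ.toRingHom.toMonoidHom b)⁻¹)
    (fun b => Units.ext ?_) (fun b => ?_) (fun b hb => ?_))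
  · simp [hττ]
  · simp only [Units.val_inv_eq_inv_val, Units.coe_map, RingHom.toMonoidHom_eq_coe, MonoidHom.coe_coe,
      RingEquiv.toRingHom_eq_coe, RingHom.coe_coe, map_inv₀, hττ, inv_inv]
    exact hD.lin (hK _) (hK _) hX
  · have : (τ (b : K))⁻¹ = b := by simpa using congrArg Units.val hb
    have e : τ (b : K) = (b : K)⁻¹ := by rw [← this, inv_inv, this]
    rw [e]
    exact hD.sandwich (hK _) hX

include hD hK hC in
/-- An element anticommuting with a quadratic subfield cannot exist. -/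
theorem false_of_anti {τ : K ≃+* K} {P : AddMonoid.End A} (hP : P ∈ D) (hP0 : P ≠ 0) {k : K}
    (hk1 : τ k ≠ k) (hanti : ∀ a, τ (τ a) = a → P * ι a = ι (τ a) * P)
    (hsmall : ∀ W ∈ D, W * P = P * W → (∀ a, ι a * W = W * ι a) → ∀ b, ι b = W → τ b = b)
    (hZ : ∀ W ∈ D, (∀ a, τ (τ a) = a → ι a * W = W * ι a) → ∀ a, ι a * W = W * ι a)
    (hk : τ (τ k) = k) : False := by
  have hsq : P * P ∈ D := hD.sq_mem hP
  have hcomm := hZ _ hsq fun a ha => by
    rw [mul_assoc P P, hanti a ha, ← mul_assoc P, hanti (τ a) (by rw [ha]), ha, mul_assoc]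
  obtain ⟨y, hy⟩ := hC _ hsq hcomm
  have hyτ : τ y = y := hsmall _ hsq (mul_assoc P P P) hcomm y hy
  -- the quadratic field of `k`
  let Q : Subfield K :=
    { carrier := {a | τ (τ a) = a}
      mul_mem' := fun {a b} (ha : τ (τ a) = a) (hb : τ (τ b) = b) => by simp [ha, hb]
      one_mem' := by simp
      add_mem' := fun {a b} (ha : τ (τ a) = a) (hb : τ (τ b) = b) => by simp [ha, hb]
      zero_mem' := by simp
      neg_mem' := fun {a} (ha : τ (τ a) = a) => by simp [ha]
      inv_mem' := fun a (ha : τ (τ a) = a) => by simp [ha] }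
  let τQ : ↥Q ≃+* ↥Q :=
    { toFun := fun a => ⟨τ a, show τ (τ (τ a)) = τ a by rw [show τ (τ (a : K)) = a from a.2]⟩
      invFun := fun a => ⟨τ a, show τ (τ (τ a)) = τ a by rw [show τ (τ (a : K)) = a from a.2]⟩
      left_inv := fun a => Subtype.ext a.2
      right_inv := fun a => Subtype.ext a.2
      map_mul' := fun a b => Subtype.ext (map_mul τ _ _)
      map_add' := fun a b => Subtype.ext (map_add τ _ _) }
  have h2 : τQ ^ 2 = 1 := RingEquiv.ext fun a => Subtype.ext (by
    rw [pow_two, RingAut.mul_apply]; exact a.2)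
  have hlt : ∀ i, 0 < i → i < 2 → τQ ^ i ≠ 1 := fun i hi hi2 e => by
    obtain rfl : i = 1 := by omega
    rw [pow_one] at e
    exact hk1 (congrArg Subtype.val (DFunLike.congr_fun e (⟨k, hk⟩ : ↥Q)))
  obtain ⟨a, hay⟩ : ∃ a : ↥Q, (a : K) * τ a = y := by
    by_cases hy0 : y = 0
    · exact ⟨0, by simp [hy0]⟩
    · obtain ⟨a, ha⟩ := exists_norm_eq τQ h2 (by norm_num) hlt (f := ⟨y, by
        show τ (τ y) = y
        rw [hyτ, hyτ]⟩) (Subtype.ext hyτ) (fun e => hy0 (congrArg Subtype.val e))
      refine ⟨a, ?_⟩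
      simp only [Finset.prod_range_succ, Finset.prod_range_zero, one_mul, pow_zero, pow_one,
        RingAut.one_apply] at ha
      exact congrArg Subtype.val ha
  have hτa : τ (τ (τ (a : K))) = τ a := by rw [show τ (τ (a : K)) = a from a.2]
  have hprod : (P - ι a) * (P + ι (τ a)) = 0 := by
    rw [sub_mul, mul_add, mul_add, hanti (τ a) hτa, show τ (τ (a : K)) = a from a.2, ← map_mul,
      ← hy, hay]
    abel
  -- neither factor vanishes, since `P` moves `k`
  have hne : ∀ b : K, P ≠ ι b := by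
    intro b hb
    refine hk1 (coef_eq hP0 (ι := ι) ?_)
    rw [← hanti k hk, hb, ← map_mul, ← map_mul, mul_comm]
  obtain ⟨s, -, -, hs⟩ := hD.inv _ (sub_mem hP (hK a)) (sub_ne_zero.2 (hne _))
  have : P + ι (τ a) = 0 := by rw [← one_mul (P + ι (τ a)), ← hs, mul_assoc, hprod, mul_zero]
  exact hne (-τ a) (by rw [map_neg]; exact eq_neg_of_add_eq_zero_left this)

end Core

end Cfsg.Agent.ItoDesign
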