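import Cfsg.Agent.ItoDesign.Jordan

/-!
The odd case of the commutativity of finite additive groups of units closed under inversion, and the theorem.
-/

set_option autoImplicit false
set_option linter.unusedSectionVars false

namespace Cfsg.Agent.ItoDesign

open Finset
open scoped Classical

variable {A : Type*} [AddCommGroup A] [Finite A]

section Odd

variable {K : Type*} [Field K] [Fintype K] (ι : K →+* AddMonoid.End A)

/-- The data of the odd case: the two opposite components `Y`, `Z` of an element. -/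
structure Pair (D : AddSubgroup (AddMonoid.End A)) (τ : K ≃+* K) (o : ℕ) (Y Z : AddMonoid.End A) :
    Prop where
  jordan : IsJordan D
  mem : Y + Z ∈ D
  cK : ∀ a, ι a ∈ D
  cent : ∀ W ∈ D, (∀ a, ι a * W = W * ι a) → ∃ b, ι b = W
  semiY : ∀ a, Y * ι a = ι (τ a) * Y
  semiZ : ∀ a, Z * ι a = ι (τ⁻¹ a) * Z
  odd : Odd o
  pow : τ ^ o = 1
  min : ∀ i, 0 < i → i < o → τ ^ i ≠ 1
  two : 2 < o
  neY : Y ≠ 0
  neZ : Z ≠ 0
  notK : ∀ s, Y + Z ≠ ι s

variable {ι} {D : AddSubgroup (AddMonoid.End A)} {τ : K ≃+* K} {o : ℕ} {Y Z : AddMonoid.End A}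

namespace Pair

theorem swap (h : Pair ι D τ o Y Z) : Pair ι D τ⁻¹ o Z Y where
  jordan := h.jordan
  mem := add_comm Y Z ▸ h.mem
  cK := h.cK
  cent := h.cent
  semiY := h.semiZ
  semiZ := fun a => by rw [inv_inv]; exact h.semiY a
  odd := h.odd
  pow := by rw [inv_pow, h.pow, inv_one]
  min := fun i hi hio e => h.min i hi hio (by rwa [inv_pow, inv_eq_one] at e)
  two := h.two
  neY := h.neZ
  neZ := h.neY
  notK := fun s e => h.notK s (by rwa [add_comm])

variable (h : Pair ι D τ o Y Z)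

include h in
theorem fix_of_fix_two {x : K} (hx : τ (τ x) = x) : τ x = x := by
  obtain ⟨m, hm⟩ := h.odd
  have e : ∀ n, (τ ^ (2 * n)) x = x := by
    intro n
    induction n with
    | zero => simp
    | succ n ih => rw [mul_add, pow_add, RingAut.mul_apply, mul_one, pow_two, RingAut.mul_apply, hx, ih]
  have : (τ ^ o) x = x := by rw [h.pow]; rfl
  rw [hm, pow_succ', RingAut.mul_apply, e] at this
  exact this

include h in
theorem inv_pow_pred : τ⁻¹ ^ (o - 1) = τ := by
  have := h.two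
  rw [inv_pow, inv_eq_iff_mul_eq_one, ← pow_succ, Nat.sub_add_cancel (by omega), h.pow]

include h in
theorem tau_ne_inv : τ ≠ τ⁻¹ := fun e => by
  refine h.min 2 (by norm_num) h.two ?_
  rw [pow_two]
  nth_rewrite 2 [e]
  exact mul_inv_cancel τ

include h in
theorem exists_moved : ∃ c : K, τ c ≠ c := by
  by_contra hall
  push Not at hall
  refine h.min 1 one_pos (by have := h.two; omega) ?_
  rw [pow_one]
  exact RingEquiv.ext hall

include h in
/-- The unit component of an element of `D` is a scalar. -/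
theorem comp_one_mem {W : AddMonoid.End A} (hW : W ∈ D) : ∃ b, ι b = comp ι 1 W :=
  h.cent _ (comp_mem h.jordan h.cK hW 1 inv_one) fun a => (comp_mul ι 1 W a).symm

include h in
theorem sum_mem : ∀ {Y' Z' : AddMonoid.End A}, Y' + Z' ∈ D →
    (∀ a, Y' * ι a = ι (τ a) * Y') → (∀ a, Z' * ι a = ι (τ⁻¹ a) * Z') →
    ∃ b, ι b = Y' * Z' + Z' * Y' := by
  intro Y' Z' hm hY hZ
  obtain ⟨b, hb⟩ := h.comp_one_mem (h.jordan.sq_mem hm)
  refine ⟨b, hb.trans ?_⟩
  have e : (Y' + Z') * (Y' + Z') = Y' * Y' + Z' * Z' + Y' * Z' + Z' * Y' := by noncomm_ring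
  have n1 : (1 : K ≃+* K) ≠ τ * τ := fun e => h.min 2 (by norm_num) h.two (by rw [pow_two, e])
  have n2 : (1 : K ≃+* K) ≠ τ⁻¹ * τ⁻¹ := fun e => h.min 2 (by norm_num) h.two (by
    rw [pow_two, ← inv_eq_one, mul_inv_rev, e])
  rw [e, comp_add, comp_add, comp_add, comp_eq ι (semi_mul hY hY), comp_eq ι (semi_mul hZ hZ),
    comp_eq ι (semi_mul hY hZ), comp_eq ι (semi_mul hZ hY), if_neg n1, if_neg n2,
    if_pos (mul_inv_cancel τ).symm, if_pos (inv_mul_cancel τ).symm]
  abel

include h in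
/-- Both products of the components are scalars. -/
theorem exists_c : ∃ c c' : K, Y * Z = ι c ∧ Z * Y = ι c' ∧ c = τ c' := by
  obtain ⟨s, hs⟩ := h.exists_moved
  obtain ⟨μ, hμ⟩ : ∃ μ, μ = s * τ s := ⟨_, rfl⟩
  have hμ2 : τ⁻¹ (μ * μ) ≠ μ * μ := by
    intro e
    have e1 : τ (μ * μ) = μ * μ := by
      conv_lhs => rw [← e]
      rw [RingAut.inv_apply, RingEquiv.apply_symm_apply]
    have e2 : τ (τ μ) = μ := by
      rw [map_mul] at e1
      rcases mul_self_eq_mul_self_iff.1 e1 with e2 | e2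
      · rw [e2, e2]
      · rw [e2, map_neg, e2, neg_neg]
    have e3 := h.fix_of_fix_two e2
    have hs0 : s ≠ 0 := fun e => hs (by rw [e, map_zero])
    refine hs (h.fix_of_fix_two ?_)
    rw [hμ, map_mul, mul_comm s] at e3
    exact mul_left_cancel₀ ((map_ne_zero τ).2 hs0) e3
  obtain ⟨b0, hb0⟩ := h.sum_mem h.mem h.semiY h.semiZ
  have hPs : ι μ * Y + ι (τ⁻¹ μ) * Z ∈ D := by
    have e : ι μ * Y + ι (τ⁻¹ μ) * Z = ι s * (Y + Z) * ι s := by
      rw [mul_add, add_mul, mul_assoc, h.semiY, mul_assoc, h.semiZ, ← mul_assoc, ← mul_assoc,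
        ← map_mul, ← map_mul, hμ, map_mul τ⁻¹, RingAut.inv_apply τ (τ s), RingEquiv.symm_apply_apply,
        mul_comm (τ⁻¹ s)]
    rw [e]
    exact h.jordan.sandwich (h.cK s) h.mem
  obtain ⟨b1, hb1⟩ := h.sum_mem hPs (semi_smul h.semiY μ) (semi_smul h.semiZ (τ⁻¹ μ))
  have e1 : ι μ * Y * (ι (τ⁻¹ μ) * Z) = ι (μ * μ) * (Y * Z) := by
    rw [mul_assoc, ← mul_assoc Y, h.semiY, RingAut.inv_apply, RingEquiv.apply_symm_apply, map_mul]
    simp only [mul_assoc]
  have e2 : ι (τ⁻¹ μ) * Z * (ι μ * Y) = ι (τ⁻¹ (μ * μ)) * (Z * Y) := by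
    rw [mul_assoc, ← mul_assoc Z, h.semiZ, map_mul τ⁻¹, map_mul]
    simp only [mul_assoc]
  rw [e1, e2] at hb1
  obtain ⟨t, ht⟩ : ∃ t, t = μ * μ - τ⁻¹ (μ * μ) := ⟨_, rfl⟩
  have key : ι t * (Z * Y) = ι (μ * μ * b0 - b1) := by
    rw [map_sub, map_mul ι _ b0, hb0, hb1, ht, map_sub, sub_mul, mul_add]
    abel
  have ht0 : t ≠ 0 := by rw [ht]; exact sub_ne_zero.2 hμ2.symm
  have hc' : Z * Y = ι (t⁻¹ * (μ * μ * b0 - b1)) := by
    rw [map_mul, ← key, ← mul_assoc, ← map_mul, inv_mul_cancel₀ ht0, map_one, one_mul]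
  have hc : Y * Z = ι (b0 - t⁻¹ * (μ * μ * b0 - b1)) := by
    rw [map_sub, ← hc', hb0, add_sub_cancel_right]
  refine ⟨_, _, hc, hc', coef_eq h.neY (ι := ι) ?_⟩
  rw [← hc, mul_assoc, hc', h.semiY]

/-- Lower terms of the powers of `Y + Z`. -/
def low (ι : K →+* AddMonoid.End A) (Y Z : AddMonoid.End A) (m : ℕ) :
    AddSubgroup (AddMonoid.End A) :=
  AddSubgroup.closure {W | ∃ j, ∃ k : K, j < m ∧ j % 2 = m % 2 ∧ (W = ι k * Y ^ j ∨ W = ι k * Z ^ j)}

theorem mem_low {m j : ℕ} (hj : j < m) (hp : j % 2 = m % 2) (k : K) :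
    ι k * Y ^ j ∈ low ι Y Z m ∧ ι k * Z ^ j ∈ low ι Y Z m :=
  ⟨AddSubgroup.subset_closure ⟨j, k, hj, hp, Or.inl rfl⟩,
    AddSubgroup.subset_closure ⟨j, k, hj, hp, Or.inr rfl⟩⟩

include h in
theorem mul_low {m : ℕ} {W : AddMonoid.End A} (hW : W ∈ low ι Y Z m) :
    (Y + Z) * W ∈ low ι Y Z (m + 1) := by
  obtain ⟨c, c', hc, hc', -⟩ := h.exists_c
  induction hW using AddSubgroup.closure_induction with
  | zero => rw [mul_zero]; exact zero_mem _
  | add a b _ _ ha hb => rw [mul_add]; exact add_mem ha hb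
  | neg a _ ha => rw [mul_neg]; exact neg_mem ha
  | mem W hW =>
    obtain ⟨j, k, hj, hp, rfl | rfl⟩ := hW
    · rw [← mul_assoc, add_mul, h.semiY, h.semiZ, add_mul, mul_assoc, mul_assoc, ← pow_succ']
      refine add_mem (mem_low (by omega) (by omega) _).1 ?_
      rcases Nat.eq_zero_or_pos j with rfl | hj0
      · rw [pow_zero, mul_one, ← pow_one Z]
        exact (mem_low (by omega) (by omega) _).2
      · obtain ⟨i, rfl⟩ : ∃ i, j = i + 1 := ⟨j - 1, by omega⟩
        rw [pow_succ', ← mul_assoc Z Y, hc', ← mul_assoc, ← map_mul]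
        exact (mem_low (by omega) (by omega) _).1
    · rw [← mul_assoc, add_mul, h.semiY, h.semiZ, add_mul, mul_assoc, mul_assoc, ← pow_succ']
      refine add_mem ?_ (mem_low (by omega) (by omega) _).2
      rcases Nat.eq_zero_or_pos j with rfl | hj0
      · rw [pow_zero, mul_one, ← pow_one Y]
        exact (mem_low (by omega) (by omega) _).1
      · obtain ⟨i, rfl⟩ : ∃ i, j = i + 1 := ⟨j - 1, by omega⟩
        rw [pow_succ', ← mul_assoc Y Z, hc, ← mul_assoc, ← map_mul]
        exact (mem_low (by omega) (by omega) _).2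

include h in
theorem pow_expand (m : ℕ) : (Y + Z) ^ (m + 1) - Y ^ (m + 1) - Z ^ (m + 1) ∈ low ι Y Z (m + 1) := by
  obtain ⟨c, c', hc, hc', -⟩ := h.exists_c
  induction m with
  | zero =>
    simp only [zero_add, pow_one, add_sub_cancel_left, sub_self]
    exact zero_mem _
  | succ m ih =>
    have e : (Y + Z) ^ (m + 1 + 1) - Y ^ (m + 1 + 1) - Z ^ (m + 1 + 1) =
        (Y + Z) * ((Y + Z) ^ (m + 1) - Y ^ (m + 1) - Z ^ (m + 1)) + (ι c' * Y ^ m + ι c * Z ^ m) := by
      rw [← hc, ← hc', pow_succ' (Y + Z) (m + 1), pow_succ' Y (m + 1), pow_succ' Z (m + 1), pow_succ' Y m,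
        pow_succ' Z m]
      noncomm_ring
    rw [e]
    exact add_mem (h.mul_low ih) (add_mem (mem_low (by omega) (by omega) _).1
      (mem_low (by omega) (by omega) _).2)

include h in
theorem comp_low {m : ℕ} {ρ : K ≃+* K} (hρ : ∀ j, j < m → j % 2 = m % 2 → ρ ≠ τ ^ j ∧ ρ ≠ τ⁻¹ ^ j)
    {W : AddMonoid.End A} (hW : W ∈ low ι Y Z m) : comp ι ρ W = 0 := by
  induction hW using AddSubgroup.closure_induction with
  | zero => exact comp_zero ι ρ
  | add a b _ _ ha hb => rw [comp_add, ha, hb, add_zero]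
  | neg a _ ha =>
    have := comp_add ι ρ a (-a)
    rw [add_neg_cancel, comp_zero, ha, zero_add] at this
    exact this.symm
  | mem W hW =>
    obtain ⟨j, k, hj, hp, rfl | rfl⟩ := hW
    · rw [comp_left, comp_eq ι (semi_pow h.semiY j), if_neg (hρ j hj hp).1, mul_zero]
    · rw [comp_left, comp_eq ι (semi_pow h.semiZ j), if_neg (hρ j hj hp).2, mul_zero]

include h in
theorem exists_e : ∃ e : K, Y ^ o + Z ^ o = ι e ∧ τ e = e := by
  obtain ⟨c, c', hc, hc', hcc⟩ := h.exists_c
  have ho := h.two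
  obtain ⟨e, he⟩ := h.comp_one_mem (h.jordan.pow_mem h.mem o)
  have h0 : comp ι 1 ((Y + Z) ^ o - Y ^ o - Z ^ o) = 0 := by
    refine h.comp_low (fun j hj hp => ?_) (Nat.sub_add_cancel (show 1 ≤ o by omega) ▸ h.pow_expand (o - 1))
    have hodd := Nat.odd_iff.1 h.odd
    exact ⟨fun e => h.min j (by omega) hj e.symm,
      fun e => h.swap.min j (by omega) hj e.symm⟩
  have hY : comp ι 1 (Y ^ o) = Y ^ o := by
    rw [comp_eq ι (semi_pow h.semiY o), if_pos h.pow.symm]
  have hZ : comp ι 1 (Z ^ o) = Z ^ o := by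
    rw [comp_eq ι (semi_pow h.semiZ o), if_pos h.swap.pow.symm]
  have e' : Y ^ o + Z ^ o = ι e := by
    rw [he, show (Y + Z) ^ o = ((Y + Z) ^ o - Y ^ o - Z ^ o) + Y ^ o + Z ^ o by abel, comp_add, comp_add,
      h0, hY, hZ, zero_add]
  refine ⟨e, e', coef_eq h.neY (ι := ι) ?_⟩
  obtain ⟨i, hi⟩ : ∃ i, o = i + 1 := ⟨o - 1, by omega⟩
  have e3 : Z ^ o * Y = Y * Z ^ o := by
    rw [hi, pow_succ Z i, mul_assoc, hc', semi_pow h.semiZ, show τ⁻¹ ^ i = τ by
      have := h.inv_pow_pred
      rwa [hi, Nat.add_sub_cancel] at this, ← hcc, ← hc, mul_assoc Y, ← pow_succ', pow_succ]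
  have e4 : (Y ^ o + Z ^ o) * Y = Y * (Y ^ o + Z ^ o) := by
    rw [add_mul, mul_add, e3, (Commute.pow_self Y o).eq]
  rw [e', h.semiY] at e4
  exact e4.symm

include h in
theorem comp_pred : comp ι τ ((Y + Z) ^ (o - 1)) = Z ^ (o - 1) := by
  have ho := h.two
  have hodd := Nat.odd_iff.1 h.odd
  have h0 : comp ι τ ((Y + Z) ^ (o - 1) - Y ^ (o - 1) - Z ^ (o - 1)) = 0 := by
    refine h.comp_low (fun j hj hp => ⟨fun e => ?_, fun e => ?_⟩)
      (Nat.sub_add_cancel (show 1 ≤ o - 1 by omega) ▸ h.pow_expand (o - 1 - 1))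
    · rcases Nat.eq_zero_or_pos j with rfl | hj0
      · exact h.min 1 one_pos (by omega) (by rw [pow_one, e, pow_zero])
      · obtain ⟨i, rfl⟩ : ∃ i, j = i + 1 := ⟨j - 1, by omega⟩
        refine h.min i (by omega) (by omega) ?_
        exact mul_left_cancel (a := τ) (by rw [mul_one, ← pow_succ', ← e])
    · refine h.min (j + 1) (by omega) (by omega) ?_
      rw [pow_succ]
      nth_rewrite 2 [e]
      rw [inv_pow, mul_inv_cancel]
  have hY : comp ι τ (Y ^ (o - 1)) = 0 := by
    rw [comp_eq ι (semi_pow h.semiY _), if_neg]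
    intro e
    refine h.min (o - 2) (by omega) (by omega) (mul_left_cancel (a := τ) ?_)
    rw [mul_one, ← pow_succ', show o - 2 + 1 = o - 1 by omega, ← e]
  have hZ : comp ι τ (Z ^ (o - 1)) = Z ^ (o - 1) := by
    rw [comp_eq ι (semi_pow h.semiZ _), if_pos h.inv_pow_pred.symm]
  rw [show (Y + Z) ^ (o - 1) = ((Y + Z) ^ (o - 1) - Y ^ (o - 1) - Z ^ (o - 1)) + Y ^ (o - 1) + Z ^ (o - 1) by
    abel, comp_add, comp_add, h0, hY, hZ, add_zero, zero_add]

include h in
theorem eq_zero_of_apply {d : AddMonoid.End A} (hd : d ∈ D) {v : A} (hv : v ≠ 0) (h0 : d v = 0) :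
    d = 0 := by
  by_contra hne
  obtain ⟨d', -, -, hd'⟩ := h.jordan.inv d hd hne
  refine hv ?_
  have : (d' * d) v = d' (d v) := rfl
  rw [hd', h0, map_zero] at this
  exact this

include h in
/-- An eigenvector of `Y ^ o` for a nonzero scalar is impossible. -/
theorem false_of_eigen {r : K} (hr : τ r = r) (hr0 : r ≠ 0) {w : A} (hw : w ≠ 0)
    (he : (Y ^ o) w = ι r w) : False := by
  have ho := h.two
  obtain ⟨b, hb⟩ := exists_norm_eq τ h.pow (by omega) h.min (f := r⁻¹) (by rw [map_inv₀, hr])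
    (inv_ne_zero hr0)
  have hb0 : b ≠ 0 := by
    intro e
    have hz : ∏ i ∈ range o, (τ ^ i) b = 0 :=
      Finset.prod_eq_zero (i := 0) (Finset.mem_range.2 (by omega)) (by simp [e])
    rw [hz] at hb
    exact inv_ne_zero hr0 hb.symm
  obtain ⟨v, hv, hfix⟩ := exists_fixed_vector ι h.pow (by omega) h.min
    (semi_smul h.semiY b) (w := w) (by
      rw [semi_mul_pow h.semiY, hb]
      show ι r⁻¹ ((Y ^ o) w) = w
      rw [he, ← ι_mul_apply, inv_mul_cancel₀ hr0, map_one]
      rfl) hw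
  have hY : Y v = ι b⁻¹ v := by
    conv_rhs => rw [← hfix]
    show Y v = ι b⁻¹ (ι b (Y v))
    rw [← ι_mul_apply, inv_mul_cancel₀ hb0, map_one]
    rfl
  obtain ⟨c, c', -, hc', -⟩ := h.exists_c
  have hb' : τ⁻¹ b⁻¹ ≠ 0 := (map_ne_zero τ⁻¹).2 (inv_ne_zero hb0)
  have hZ : Z v = ι ((τ⁻¹ b⁻¹)⁻¹ * c') v := by
    have h1 : ι c' v = ι (τ⁻¹ b⁻¹) (Z v) := by
      rw [← hc']
      show Z (Y v) = _
      rw [hY]
      show (Z * ι b⁻¹) v = _
      rw [h.semiZ]
      rfl
    rw [ι_mul_apply, h1, ← ι_mul_apply, inv_mul_cancel₀ hb', map_one]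
    rfl
  refine h.notK (b⁻¹ + (τ⁻¹ b⁻¹)⁻¹ * c') (sub_eq_zero.1 (h.eq_zero_of_apply
    (sub_mem h.mem (h.cK _)) hv ?_))
  show (Y v + Z v) - ι (b⁻¹ + (τ⁻¹ b⁻¹)⁻¹ * c') v = 0
  rw [map_add]
  show Y v + Z v - (ι b⁻¹ v + ι ((τ⁻¹ b⁻¹)⁻¹ * c') v) = 0
  rw [hY, hZ, sub_self]

include h in
/-- The quadratic relation of `Y ^ o`. -/
theorem exists_quad : ∃ e κ : K, Y ^ o + Z ^ o = ι e ∧ τ e = e ∧
    Y ^ o * Y ^ o - ι e * Y ^ o + ι κ = 0 ∧ τ κ = κ ∧ (κ = 0 → Y * Z = 0 ∧ Z * Y = 0) ∧
    (κ ≠ 0 → ∃ c', c' ≠ 0 ∧ Z * Y = ι c') := by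
  obtain ⟨c, c', hc, hc', hcc⟩ := h.exists_c
  obtain ⟨e, he, hτe⟩ := h.exists_e
  have hN : ∀ m, ∃ n : K, Z ^ m * Y ^ m = ι n ∧ (c' ≠ 0 → n ≠ 0) ∧ (c' = 0 → 0 < m → n = 0) := by
    intro m
    induction m with
    | zero => exact ⟨1, by simp, fun _ => one_ne_zero, fun _ h => absurd h (lt_irrefl 0)⟩
    | succ m ih =>
      obtain ⟨n, hn, hn1, -⟩ := ih
      refine ⟨τ⁻¹ n * c', ?_, fun hc0 => mul_ne_zero ((map_ne_zero τ⁻¹).2 (hn1 hc0)) hc0,
        fun hc0 _ => by rw [hc0, mul_zero]⟩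
      rw [pow_succ' Z, pow_succ Y, mul_assoc, ← mul_assoc (Z ^ m), hn, ← mul_assoc, h.semiZ,
        mul_assoc, hc', ← map_mul]
  obtain ⟨κ, hκ, hκ1, hκ0⟩ := hN o
  have hrel : Y ^ o * Y ^ o - ι e * Y ^ o + ι κ = 0 := by
    rw [← hκ, ← he, add_mul]
    abel
  have hYT : Y * Y ^ o = Y ^ o * Y := (Commute.self_pow Y o).eq
  have hτκ : τ κ = κ := by
    have e1 : ι κ = ι e * Y ^ o - Y ^ o * Y ^ o := by
      rw [← sub_eq_zero, ← hrel]
      abel
    refine coef_eq h.neY (ι := ι) ?_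
    rw [← h.semiY, e1, mul_sub, sub_mul, ← mul_assoc, h.semiY, hτe, mul_assoc, hYT, ← mul_assoc Y, hYT]
    simp only [mul_assoc, hYT]
  refine ⟨e, κ, he, hτe, hrel, hτκ, fun h0 => ?_, fun h0 => ?_⟩
  · have hc0 : c' = 0 := by
      by_contra hne
      exact hκ1 hne h0
    rw [hc, hc', hcc, hc0, map_zero, map_zero]
    exact ⟨rfl, rfl⟩
  · refine ⟨c', fun hne => h0 (hκ0 hne (by have := h.two; omega)), hc'⟩

include h in
theorem pow_eq_of_mul_eq_zero (h1 : Y * Z = 0) (h2 : Z * Y = 0) :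
    (Y + Z) ^ o = Y ^ o + Z ^ o := by
  have ho := h.two
  have : ∀ m, (Y + Z) ^ (m + 1) = Y ^ (m + 1) + Z ^ (m + 1) := by
    intro m
    induction m with
    | zero => simp
    | succ m ih =>
      rw [pow_succ' (Y + Z), ih, add_mul, mul_add, mul_add, pow_succ' Y m, pow_succ' Z m,
        ← mul_assoc Y Z, ← mul_assoc Z Y, h1, h2, zero_mul, zero_mul, add_zero, zero_add,
        ← pow_succ' Y m, ← pow_succ' Z m, ← pow_succ', ← pow_succ']
  have := this (o - 1)
  rwa [Nat.sub_add_cancel (by omega)] at this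

include h in
/-- No root of the quadratic relation lies in the field. -/
theorem no_root {e κ : K} (he : Y ^ o + Z ^ o = ι e) (hτe : τ e = e)
    (hrel : Y ^ o * Y ^ o - ι e * Y ^ o + ι κ = 0) (hτκ : τ κ = κ)
    (h0 : κ = 0 → Y * Z = 0 ∧ Z * Y = 0) {w0 : A} (hw0 : w0 ≠ 0) {r : K}
    (hr : r * r - e * r + κ = 0) : False := by
  have hfix : ∀ r : K, r * r - e * r + κ = 0 → τ r = r := by
    intro r hr
    have h1 : τ r * τ r - e * τ r + κ = 0 := by
      have := congrArg τ hr
      simpa [map_mul, map_sub, map_add, hτe, hτκ] using this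
    have h2 : (τ r - r) * (τ r + r - e) = 0 := by linear_combination h1 - hr
    rcases mul_eq_zero.1 h2 with h3 | h3
    · exact sub_eq_zero.1 h3
    · refine h.fix_of_fix_two ?_
      have : τ r = e - r := by linear_combination h3
      rw [this, map_sub, hτe, this, sub_sub_cancel]
  -- a nonzero root gives an eigenvector of `Y ^ o` or of `Z ^ o`
  have main : ∀ r : K, r * r - e * r + κ = 0 → r ≠ 0 → False := by
    intro r hr hr0
    set T := Y ^ o with hT
    have hTι : ∀ a, T * ι a = ι a * T := fun a => by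
      rw [hT, semi_pow h.semiY, h.pow]
      rfl
    have hfac : (T - ι r) * (T - ι (e - r)) = 0 := by
      have hκ' : κ = r * (e - r) := by linear_combination hr
      rw [← hrel, hκ', sub_mul, mul_sub, mul_sub, hTι, map_mul]
      simp only [map_sub, sub_mul, mul_sub]
      abel
    by_cases hex : ∃ w, (T - ι (e - r)) w ≠ 0
    · obtain ⟨w, hw⟩ := hex
      refine h.false_of_eigen (hfix r hr) hr0 hw ?_
      have := DFunLike.congr_fun hfac w
      exact sub_eq_zero.1 this
    · push Not at hex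
      by_cases hs : e - r = 0
      · have hTz : T = 0 := AddMonoidHom.ext fun w => by
          have := hex w
          rw [hs, map_zero, sub_zero] at this
          exact this
        refine h.swap.false_of_eigen (r := r) ?_ hr0 hw0 ?_
        · rw [RingAut.inv_apply, RingEquiv.symm_apply_eq, hfix r hr]
        · rw [show Z ^ o = ι e by rw [← he, hTz, zero_add], ← sub_eq_zero.1 hs]
      · refine h.false_of_eigen (r := e - r) ?_ hs hw0 ?_
        · rw [map_sub, hτe, hfix r hr]
        · have := hex w0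
          exact sub_eq_zero.1 this
  by_cases hr0 : r = 0
  · subst hr0
    have hκ : κ = 0 := by linear_combination hr
    by_cases he0 : e = 0
    · obtain ⟨h1, h2⟩ := h0 hκ
      have hP := h.pow_eq_of_mul_eq_zero h1 h2
      rw [he, he0, map_zero] at hP
      obtain ⟨P', -, hPP', -⟩ := h.jordan.inv _ h.mem fun e' => h.notK 0 (by rw [e', map_zero])
      have hz : ∀ m, (Y + Z) ^ m * P' ^ m = 1 := by
        intro m
        induction m with
        | zero => simp
        | succ m ih => rw [pow_succ, pow_succ', mul_assoc, ← mul_assoc _ P', hPP', one_mul, ih]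
      have := hz o
      rw [hP, zero_mul] at this
      exact hw0 (DFunLike.congr_fun this w0).symm
    · exact main e (by rw [hκ]; ring) he0
  · exact main r hr hr0

include h in
/-- The quadratic algebra case. -/
theorem false_of_no_root {e κ : K} (he : Y ^ o + Z ^ o = ι e) (hτe : τ e = e)
    (hrel : Y ^ o * Y ^ o - ι e * Y ^ o + ι κ = 0) (hc : κ ≠ 0 → ∃ c', c' ≠ 0 ∧ Z * Y = ι c')
    {w0 : A} (hw0 : w0 ≠ 0) (hno : ∀ r : K, r * r - e * r + κ ≠ 0) : False := by
  obtain ⟨c', hc'0, hc'⟩ := hc fun h0 => hno 0 (by rw [h0]; ring)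
  have ho := h.two
  set T := Y ^ o with hT
  have hTι : ∀ a, T * ι a = ι a * T := fun a => by rw [hT, semi_pow h.semiY, h.pow]; rfl
  -- `a + b T` vanishes only trivially
  have huniq : ∀ a b : K, ι a + ι b * T = 0 → a = 0 ∧ b = 0 := by
    intro a b hab
    by_cases hb : b = 0
    · subst hb
      rw [map_zero, zero_mul, add_zero] at hab
      refine ⟨?_, rfl⟩
      by_contra ha
      exact hw0 (apply_cancel ha (DFunLike.congr_fun hab w0))
    · exfalso
      have hTr : T = ι (-(b⁻¹ * a)) := by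
        have := congrArg (fun W => ι b⁻¹ * W) hab
        simp only [mul_add, mul_zero, ← mul_assoc, ← map_mul, inv_mul_cancel₀ hb, map_one, one_mul] at this
        rw [map_neg, eq_neg_iff_add_eq_zero, add_comm]
        exact this
      rw [hTr, ← map_mul, ← map_mul, ← map_sub, ← map_add] at hrel
      by_contra
      exact hw0 (apply_cancel (hno _) (DFunLike.congr_fun hrel w0))
  have hTT : T * T = ι (-κ) + ι e * T := by
    rw [map_neg, ← sub_eq_zero, ← hrel]; abel
  -- the quadratic field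
  let E : Subring (AddMonoid.End A) :=
    { carrier := {W | ∃ a b : K, W = ι a + ι b * T}
      one_mem' := ⟨1, 0, by simp⟩
      zero_mem' := ⟨0, 0, by simp⟩
      add_mem' := by
        rintro _ _ ⟨a, b, rfl⟩ ⟨a', b', rfl⟩
        exact ⟨a + a', b + b', by rw [map_add, map_add, add_mul]; abel⟩
      neg_mem' := by
        rintro _ ⟨a, b, rfl⟩
        exact ⟨-a, -b, by rw [map_neg, map_neg, neg_mul]; abel⟩
      mul_mem' := by
        rintro _ _ ⟨a, b, rfl⟩ ⟨a', b', rfl⟩
        refine ⟨a * a' + b * b' * -κ, a * b' + b * a' + b * b' * e, ?_⟩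
        calc (ι a + ι b * T) * (ι a' + ι b' * T)
            = ι a * ι a' + ι a * ι b' * T + ι b * (T * ι a') + ι b * (T * ι b') * T := by
              simp only [add_mul, mul_add, mul_assoc]; abel
          _ = ι (a * a') + ι (a * b') * T + ι (b * a') * T + ι (b * b') * (T * T) := by
              simp only [hTι, map_mul, mul_assoc]
          _ = _ := by
              rw [hTT]
              simp only [map_add, map_mul, add_mul, mul_add, mul_assoc]
              abel }
  have hEc : ∀ x ∈ E, ∀ y ∈ E, x * y = y * x := by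
    rintro _ ⟨a, b, rfl⟩ _ ⟨a', b', rfl⟩
    simp only [add_mul, mul_add]
    have e1 : ι a * (ι b' * T) = ι b' * T * ι a := by
      rw [mul_assoc, hTι, ← mul_assoc, ← mul_assoc, ← map_mul, ← map_mul, mul_comm a]
    have e2 : ι b * T * ι a' = ι a' * (ι b * T) := by
      rw [mul_assoc, hTι, ← mul_assoc, ← mul_assoc, ← map_mul, ← map_mul, mul_comm b]
    have e3 : ι b * T * (ι b' * T) = ι b' * T * (ι b * T) := by
      rw [mul_assoc, ← mul_assoc T, hTι, mul_assoc, mul_assoc (ι b'), ← mul_assoc T, hTι, mul_assoc,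
        ← mul_assoc (ι b), ← mul_assoc (ι b'), ← map_mul, ← map_mul, mul_comm b]
    rw [e1, e2, e3, ← map_mul, ← map_mul, mul_comm a]
    abel
  let _ : CommRing ↥E := { (inferInstance : Ring ↥E) with
    mul_comm := fun x y => Subtype.ext (hEc x x.2 y y.2) }
  have : Nontrivial ↥E := ⟨⟨1, 0, fun e => hw0 (DFunLike.congr_fun (congrArg Subtype.val e) w0)⟩⟩
  have : NoZeroDivisors ↥E := ⟨fun {x y} hxy => by
    by_contra hne
    push Not at hne
    obtain ⟨a, b, hx⟩ := x.2
    -- the norm of `x` is a nonzero scalar annihilating `y`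
    have hn : a * a + a * b * e + b * b * κ ≠ 0 := by
      intro h0
      by_cases hb : b = 0
      · subst hb
        refine hne.1 (Subtype.ext ?_)
        have : a = 0 := mul_self_eq_zero.1 (by linear_combination h0)
        rw [hx, this, map_zero, zero_mul, add_zero]
        rfl
      · refine hno (-(a / b)) ?_
        field_simp
        linear_combination h0
    have hy : ι (a * a + a * b * e + b * b * κ) * (y : AddMonoid.End A) = 0 := by
      have hxy' : (x : AddMonoid.End A) * y = 0 := congrArg Subtype.val hxy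
      have : (ι (a + b * e) + ι (-b) * T) * ((x : AddMonoid.End A) * y) = 0 := by rw [hxy', mul_zero]
      rw [← mul_assoc, hx] at this
      rw [← this]
      congr 1
      have e1 : (ι (a + b * e) + ι (-b) * T) * (ι a + ι b * T) =
          ι ((a + b * e) * a) + ι ((a + b * e) * b) * T + ι (-b * a) * T +
            ι (-b * b) * (T * T) := by
        have eb : ι (-b) * T * (ι b * T) = ι (-b * b) * (T * T) := by
          rw [mul_assoc, ← mul_assoc T, hTι, mul_assoc, ← mul_assoc, ← map_mul]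
        have ea : ι (-b) * T * ι a = ι (-b * a) * T := by
          rw [mul_assoc, hTι, ← mul_assoc, ← map_mul]
        rw [add_mul, mul_add, mul_add, eb, ea, ← map_mul, ← mul_assoc, ← map_mul]
        abel
      have e2 : ι (a * a + a * b * e + b * b * κ) = ι ((a + b * e) * a + -b * b * -κ) +
          ι ((a + b * e) * b + -b * a + -b * b * e) * T := by
        rw [show (a + b * e) * b + -b * a + -b * b * e = 0 by ring, map_zero, zero_mul, add_zero,
          show (a + b * e) * a + -b * b * -κ = a * a + a * b * e + b * b * κ by ring]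
      rw [e1, e2, hTT, mul_add, ← mul_assoc (ι (-b * b)), ← map_mul, ← map_mul]
      simp only [map_add, add_mul]
      abel
    exact hne.2 (Subtype.ext (cancel_left hn hy))⟩
  have : IsDomain ↥E := NoZeroDivisors.to_isDomain _
  let _ : Field ↥E := (Finite.isField_of_domain ↥E).toField
  let _ : Fintype ↥E := Fintype.ofFinite _
  -- `Y` is invertible and induces an automorphism of `E`
  have hYinj : Function.Injective Y := by
    intro x y hxy
    have e1 : ι c' (x - y) = 0 := by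
      rw [← hc']
      show Z (Y (x - y)) = 0
      rw [map_sub Y, hxy, sub_self, map_zero]
    exact sub_eq_zero.1 (apply_cancel hc'0 e1)
  have hcancel : ∀ x y : AddMonoid.End A, Y * x = Y * y → x = y := fun x y hxy =>
    AddMonoidHom.ext fun v => hYinj (DFunLike.congr_fun hxy v)
  have hYT : Y * T = T * Y := (Commute.self_pow Y o).eq
  let f : ↥E → ↥E := fun x =>
    ⟨ι (τ x.2.choose) + ι (τ x.2.choose_spec.choose) * T, _, _, rfl⟩
  have hf : ∀ x : ↥E, (f x : AddMonoid.End A) * Y = Y * x := by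
    intro x
    conv_rhs => rw [x.2.choose_spec.choose_spec]
    simp only [f, add_mul, mul_add, ← mul_assoc, h.semiY]
    rw [mul_assoc _ Y T, hYT, mul_assoc]
  have hYsurj : Function.Surjective Y := Finite.injective_iff_surjective.1 hYinj
  have hcancelR : ∀ x y : AddMonoid.End A, x * Y = y * Y → x = y := fun x y hxy =>
    AddMonoidHom.ext fun v => by
      obtain ⟨v, rfl⟩ := hYsurj v
      exact DFunLike.congr_fun hxy v
  have hfinj : Function.Injective f := fun x y hxy =>
    Subtype.ext (hcancel _ _ (by rw [← hf, ← hf, hxy]))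
  let σ : ↥E ≃+* ↥E :=
    { Equiv.ofBijective f (Finite.injective_iff_bijective.1 hfinj) with
      map_mul' := fun x y => Subtype.ext (hcancelR _ _ (by
        show (f (x * y) : AddMonoid.End A) * Y = (f x : AddMonoid.End A) * (f y : AddMonoid.End A) * Y
        rw [hf, mul_assoc, hf, ← mul_assoc, hf, mul_assoc]; rfl))
      map_add' := fun x y => Subtype.ext (hcancelR _ _ (by
        show (f (x + y) : AddMonoid.End A) * Y = ((f x : AddMonoid.End A) + (f y : AddMonoid.End A)) * Y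
        rw [hf, add_mul, hf, hf, ← mul_add]; rfl)) }
  have hsemi : ∀ x : ↥E, Y * E.subtype x = E.subtype (σ x) * Y := fun x => (hf x).symm
  have hTE : T ∈ E := ⟨0, 1, by simp⟩
  have hσpow : σ ^ o = 1 := by
    refine RingEquiv.ext fun x => Subtype.ext ?_
    have e1 := semi_pow hsemi o x
    have e2 : Y ^ o * E.subtype x = E.subtype x * Y ^ o := (hEc _ x.2 _ hTE).symm
    rw [e2] at e1
    refine AddMonoidHom.ext fun v => ?_
    obtain ⟨v, rfl⟩ : ∃ u, (Y ^ o) u = v := by
      have hs : ∀ m, Function.Surjective (Y ^ m : AddMonoid.End A) := fun m => by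
        induction m with
        | zero => exact fun v => ⟨v, rfl⟩
        | succ m ih => rw [pow_succ]; exact ih.comp hYsurj
      exact hs o v
    exact (DFunLike.congr_fun e1 v).symm
  have hlt : ∀ i, 0 < i → i < o → σ ^ i ≠ 1 := by
    intro i hi hio e
    refine h.min i hi hio (RingEquiv.ext fun a => coef_eq (ι := ι) (X := Y ^ i) ?_ ?_)
    · intro h0
      have hs : ∀ m, Function.Injective (Y ^ m : AddMonoid.End A) := fun m => by
        induction m with
        | zero => exact fun _ _ => id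
        | succ m ih => rw [pow_succ]; exact ih.comp hYinj
      exact hw0 (hs i (by rw [h0]; rfl))
    · rw [← semi_pow h.semiY]
      have e1 := semi_pow hsemi i (⟨ι a, a, 0, by simp⟩ : ↥E)
      rw [e] at e1
      exact e1
  -- a vector fixed by a multiple of `Y`
  have hT0 : T ≠ 0 := fun e => by
    obtain ⟨-, h1⟩ := huniq 0 1 (by simp [e])
    exact one_ne_zero h1
  have hσT : σ ⟨T, hTE⟩ = ⟨T, hTE⟩ := Subtype.ext (hcancelR _ _ (by
    show (f ⟨T, hTE⟩ : AddMonoid.End A) * Y = T * Y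
    rw [hf, hYT]))
  have hTne : (⟨T, hTE⟩ : ↥E) ≠ 0 := fun e => hT0 (congrArg Subtype.val e)
  obtain ⟨b, hb⟩ := exists_norm_eq σ hσpow (by omega) hlt (f := (⟨T, hTE⟩ : ↥E)⁻¹)
    (by rw [map_inv₀, hσT]) (inv_ne_zero hTne)
  have hb0 : b ≠ 0 := by
    intro e0
    have hz : ∏ i ∈ range o, (σ ^ i) b = 0 :=
      Finset.prod_eq_zero (i := 0) (Finset.mem_range.2 (by omega)) (by simp [e0])
    rw [hz] at hb
    exact inv_ne_zero hTne hb.symm
  obtain ⟨v, hv, hfix⟩ := exists_fixed_vector E.subtype hσpow (by omega) hlt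
    (semi_smul hsemi b) (w := w0) (by
      rw [semi_mul_pow hsemi, hb]
      show (((⟨T, hTE⟩ : ↥E)⁻¹ * ⟨T, hTE⟩ : ↥E) : AddMonoid.End A) w0 = w0
      rw [inv_mul_cancel₀ hTne]
      rfl) hw0
  -- the `E`-line through `v` is invariant
  set Wv : Finset A := univ.image fun x : ↥E => (x : AddMonoid.End A) v with hWv
  have hYv : Y v = ((b⁻¹ : ↥E) : AddMonoid.End A) v := by
    conv_rhs => rw [← hfix]
    show Y v = ((b⁻¹ * b : ↥E) : AddMonoid.End A) (Y v)
    rw [inv_mul_cancel₀ hb0]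
    rfl
  have hWY : ∀ x ∈ Wv, Y x ∈ Wv := by
    intro x hx
    obtain ⟨u, -, rfl⟩ := Finset.mem_image.1 hx
    refine Finset.mem_image.2 ⟨σ u * b⁻¹, Finset.mem_univ _, ?_⟩
    show (σ u : AddMonoid.End A) (((b⁻¹ : ↥E) : AddMonoid.End A) v) = Y ((u : AddMonoid.End A) v)
    rw [← hYv]
    exact (DFunLike.congr_fun (hsemi u) v).symm
  have hWι : ∀ a, ∀ x ∈ Wv, ι a x ∈ Wv := by
    intro a x hx
    obtain ⟨u, -, rfl⟩ := Finset.mem_image.1 hx
    exact Finset.mem_image.2 ⟨⟨ι a, a, 0, by simp⟩ * u, Finset.mem_univ _, rfl⟩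
  have hWZ : ∀ x ∈ Wv, Z x ∈ Wv := by
    intro x hx
    have himg : Wv.image Y = Wv := Finset.eq_of_subset_of_card_le (Finset.image_subset_iff.2 hWY)
      (by rw [Finset.card_image_of_injective _ hYinj])
    rw [← himg] at hx
    obtain ⟨y, hy, rfl⟩ := Finset.mem_image.1 hx
    have : Z (Y y) = ι c' y := by rw [← hc']; rfl
    rw [this]
    exact hWι c' y hy
  have hWadd : ∀ x ∈ Wv, ∀ y ∈ Wv, x + y ∈ Wv := by
    intro x hx y hy
    obtain ⟨u, -, rfl⟩ := Finset.mem_image.1 hx
    obtain ⟨u', -, rfl⟩ := Finset.mem_image.1 hy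
    exact Finset.mem_image.2 ⟨u + u', Finset.mem_univ _, rfl⟩
  have hWpow : ∀ (m : ℕ) (V : AddMonoid.End A), (∀ x ∈ Wv, V x ∈ Wv) → ∀ x ∈ Wv, (V ^ m) x ∈ Wv := by
    intro m V hV
    induction m with
    | zero => exact fun x hx => hx
    | succ m ih => exact fun x hx => by rw [pow_succ]; exact ih _ (hV x hx)
  -- three copies of `K` map into it
  set P' := comp ι τ ((Y + Z) ^ (o - 1)) + comp ι τ⁻¹ ((Y + Z) ^ (o - 1)) with hP'
  have hP'D : P' ∈ D := comp_add_comp_mem h.jordan h.cK (h.jordan.pow_mem h.mem (o - 1)) τ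
  have hP'eq : P' = Z ^ (o - 1) + Y ^ (o - 1) := by
    have h2 := h.swap.comp_pred
    rw [add_comm Z Y] at h2
    rw [hP', h.comp_pred, h2]
  let Φ : (K × K × K) →+ AddMonoid.End A :=
    { toFun := fun p => ι p.1 + (ι p.2.1 * (Y + Z) + (Y + Z) * ι p.2.1) + (ι p.2.2 * P' + P' * ι p.2.2)
      map_zero' := by simp
      map_add' := fun p p' => by
        simp only [Prod.fst_add, Prod.snd_add, map_add, add_mul, mul_add]
        abel }
  have hΦD : ∀ p, Φ p ∈ D := fun p =>
    add_mem (add_mem (h.cK _) (h.jordan.mul_add_mem (h.cK _) h.mem)) (h.jordan.mul_add_mem (h.cK _) hP'D)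
  have hΦW : ∀ p, Φ p v ∈ Wv := by
    intro p
    have hvW : v ∈ Wv := Finset.mem_image.2 ⟨1, Finset.mem_univ _, rfl⟩
    have hP : ∀ x ∈ Wv, (Y + Z) x ∈ Wv := fun x hx => hWadd _ (hWY x hx) _ (hWZ x hx)
    have hP'W : ∀ x ∈ Wv, P' x ∈ Wv := fun x hx => by
      rw [hP'eq]
      exact hWadd _ (hWpow _ Z hWZ x hx) _ (hWpow _ Y hWY x hx)
    exact hWadd _ (hWadd _ (hWι _ _ hvW) _ (hWadd _ (hWι _ _ (hP _ hvW)) _ (hP _ (hWι _ _ hvW)))) _
      (hWadd _ (hWι _ _ (hP'W _ hvW)) _ (hP'W _ (hWι _ _ hvW)))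
  have hker : ∀ p, Φ p v = 0 → p.1 = 0 ∧ τ p.2.1 = p.2.1 ∧ τ p.2.2 = p.2.2 := by
    intro p hp
    have h0 : Φ p = 0 := h.eq_zero_of_apply (hΦD p) hv hp
    obtain ⟨a, b1, b2⟩ := p
    have e0 : ι a + (ι b1 * Y + ι b1 * Z + (ι (τ b1) * Y + ι (τ⁻¹ b1) * Z)) +
        (ι b2 * Z ^ (o - 1) + ι b2 * Y ^ (o - 1) +
          (ι ((τ⁻¹ ^ (o - 1)) b2) * Z ^ (o - 1) + ι ((τ ^ (o - 1)) b2) * Y ^ (o - 1))) = 0 := by
      rw [← h0, show Φ (a, b1, b2) = ι a + (ι b1 * (Y + Z) + (Y + Z) * ι b1) +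
        (ι b2 * P' + P' * ι b2) from rfl, hP'eq]
      simp only [mul_add, add_mul, h.semiY, h.semiZ, semi_pow h.semiY, semi_pow h.semiZ]
    have hne1 : (1 : K ≃+* K) ≠ τ := fun e => h.min 1 one_pos (by omega) (by rw [pow_one, e])
    have hne2 : (1 : K ≃+* K) ≠ τ⁻¹ := fun e => hne1 (by rw [← inv_inv τ, ← e, inv_one])
    have hpY : τ ^ (o - 1) = τ⁻¹ := by
      have := h.swap.inv_pow_pred
      rwa [inv_inv] at this
    have hι1 : ∀ a, ∀ x : K, ι a * ι x = ι ((1 : K ≃+* K) x) * ι a := fun a x => by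
      rw [RingAut.one_apply, ← map_mul, ← map_mul, mul_comm]
    have c1 := congrArg (comp ι 1) e0
    simp only [comp_add, comp_zero, comp_left, comp_eq ι h.semiY, comp_eq ι h.semiZ,
      comp_eq ι (semi_pow h.semiY _), comp_eq ι (semi_pow h.semiZ _), h.inv_pow_pred, hpY,
      if_neg hne1, if_neg hne2, mul_zero, add_zero, comp_eq ι (hι1 a), if_true] at c1
    have ha : a = 0 := by
      by_contra ha
      exact hw0 (apply_cancel ha (DFunLike.congr_fun c1 w0))
    have cτ := congrArg (comp ι τ) e0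
    simp only [comp_add, comp_zero, comp_left, comp_eq ι h.semiY, comp_eq ι h.semiZ,
      comp_eq ι (semi_pow h.semiY _), comp_eq ι (semi_pow h.semiZ _), h.inv_pow_pred, hpY,
      if_neg h.tau_ne_inv, mul_zero, add_zero, comp_eq ι (hι1 a), if_neg hne1.symm,
      if_true, zero_add] at cτ
    obtain ⟨c, c'', hc, -, -⟩ := h.exists_c
    have hc0 : c ≠ 0 := by
      intro e0'
      obtain ⟨u, rfl⟩ : ∃ u, Y u = w0 := hYsurj w0
      have e1 : Y (Z (Y u)) = 0 := by
        show (Y * Z) (Y u) = 0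
        rw [hc, e0', map_zero]
        rfl
      have e2 : Z (Y u) = 0 := hYinj (e1.trans (map_zero Y).symm)
      have e3 : ι c' u = 0 := by rw [← hc']; exact e2
      refine hw0 ?_
      rw [apply_cancel hc'0 e3, map_zero]
    have e2 := congrArg (· * Z) cτ
    simp only [add_mul, zero_mul, mul_assoc, hc, ← pow_succ, Nat.sub_add_cancel (show 1 ≤ o by omega)] at e2
    rw [show Z ^ o = ι e - T by rw [← he]; abel] at e2
    have e3 : ι ((b1 + τ b1) * c + (b2 + τ b2) * e) + ι (-(b2 + τ b2)) * T = 0 := by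
      rw [← e2]
      simp only [map_add, map_mul, map_neg, add_mul, neg_mul, neg_add_rev, mul_sub]
      abel
    obtain ⟨e4, e5⟩ := huniq _ _ e3
    rw [neg_eq_zero] at e5
    rw [e5, zero_mul, add_zero, mul_eq_zero] at e4
    have hfx : ∀ b, b + τ b = 0 → τ b = b := fun b hb => h.fix_of_fix_two (by
      have : τ b = -b := eq_neg_of_add_eq_zero_right hb
      rw [this, map_neg, this, neg_neg])
    exact ⟨ha, hfx b1 (e4.resolve_right hc0), hfx b2 e5⟩
  -- counting
  set F0 : Finset K := univ.filter fun x => τ x = x with hF0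
  obtain ⟨s, hs⟩ := h.exists_moved
  have hF0sq : F0.card * F0.card < Fintype.card K := by
    let g : {x // x ∈ F0} × {x // x ∈ F0} → K := fun p => (p.1 : K) + (p.2 : K) * s
    have hfx' : ∀ x : {x // x ∈ F0}, τ (x : K) = x := fun x => (Finset.mem_filter.1 x.2).2
    have hg : Function.Injective g := by
      rintro ⟨x, y⟩ ⟨x', y'⟩ hxy
      have e1 : (x : K) + y * s = x' + y' * s := hxy
      have e2 := congrArg τ e1
      simp only [map_add, map_mul, hfx'] at e2
      have e3 : ((y : K) - y') * (τ s - s) = 0 := by linear_combination e2 - e1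
      have hy : (y : K) = y' := sub_eq_zero.1 ((mul_eq_zero.1 e3).resolve_right (sub_ne_zero.2 hs))
      have hx : (x : K) = x' := by rw [hy] at e1; exact add_right_cancel e1
      rw [Subtype.ext hx, Subtype.ext hy]
    have hle := Fintype.card_le_of_injective g hg
    simp only [Fintype.card_prod, Fintype.card_coe] at hle
    refine lt_of_le_of_ne hle fun heq => ?_
    have hsurj : Function.Surjective g := ((Fintype.bijective_iff_injective_and_card g).2
      ⟨hg, by simpa using heq⟩).2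
    obtain ⟨⟨x, y⟩, hxy⟩ := hsurj (s * s)
    have e1 : (x : K) + y * s = s * s := hxy
    have e2 := congrArg τ e1
    simp only [map_add, map_mul, hfx'] at e2
    have e3 : (τ s - s) * ((y : K) - τ s - s) = 0 := by linear_combination e2 - e1
    have e4 : τ s = (y : K) - s := by
      linear_combination -((mul_eq_zero.1 e3).resolve_left (sub_ne_zero.2 hs))
    exact hs (h.fix_of_fix_two (by rw [e4, map_sub, hfx', e4, sub_sub_cancel]))
  have hcount : Fintype.card K ^ 3 ≤ Wv.card * (F0.card * F0.card) := by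
    have h1 := Finset.card_le_mul_card_image_of_maps_to (s := (univ : Finset (K × K × K)))
      (f := fun p => Φ p v) (t := Wv) (fun p _ => hΦW p) (F0.card * F0.card) ?_
    · simp only [Finset.card_univ, Fintype.card_prod] at h1
      calc Fintype.card K ^ 3 = Fintype.card K * (Fintype.card K * Fintype.card K) := by ring
        _ ≤ _ := h1
        _ = _ := by ring
    · intro x _
      by_cases hx : ∃ p, Φ p v = x
      · obtain ⟨p0, hp0⟩ := hx
        rw [← Finset.card_product]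
        refine Finset.card_le_card_of_injOn (fun p => (p.2.1 - p0.2.1, p.2.2 - p0.2.2)) ?_ ?_
        · intro p hp
          have hp' : Φ p v = x := (Finset.mem_filter.1 hp).2
          obtain ⟨-, h2, h3⟩ := hker (p - p0) (by
            rw [map_sub]; show Φ p v - Φ p0 v = 0; rw [hp', hp0, sub_self])
          simpa [hF0] using And.intro h2 h3
        · intro p hp q hq hpq
          have hp' : Φ p v = x := (Finset.mem_filter.1 hp).2
          have hq' : Φ q v = x := (Finset.mem_filter.1 hq).2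
          obtain ⟨h1, -, -⟩ := hker (p - q) (by
            rw [map_sub]; show Φ p v - Φ q v = 0; rw [hp', hq', sub_self])
          simp only [Prod.mk.injEq, sub_left_inj] at hpq
          exact Prod.ext (sub_eq_zero.1 h1) (Prod.ext hpq.1 hpq.2)
      · rw [Finset.filter_false_of_mem fun p _ hp => hx ⟨p, hp⟩]
        simp
  have hW : Wv.card ≤ Fintype.card K * Fintype.card K := by
    refine le_trans Finset.card_image_le ?_
    rw [Finset.card_univ, ← Fintype.card_prod]
    exact Fintype.card_le_of_surjective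
      (fun p : K × K => (⟨ι p.1 + ι p.2 * T, _, _, rfl⟩ : ↥E))
      (by rintro ⟨_, a, b, rfl⟩; exact ⟨(a, b), rfl⟩)
  have hq : 0 < Fintype.card K := Fintype.card_pos
  have := Nat.mul_le_mul_right (F0.card * F0.card) hW
  have h3 : Fintype.card K ^ 3 ≤ Fintype.card K * Fintype.card K * (F0.card * F0.card) :=
    hcount.trans this
  have h4 := Nat.mul_lt_mul_of_pos_left hF0sq (Nat.mul_pos hq hq)
  rw [pow_three] at h3
  nlinarith

include h in
theorem absurd_pair {w0 : A} (hw0 : w0 ≠ 0) : False := by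
  obtain ⟨e, κ, he, hτe, hrel, hτκ, h0, hc⟩ := h.exists_quad
  by_cases hr : ∃ r : K, r * r - e * r + κ = 0
  · obtain ⟨r, hr⟩ := hr
    exact h.no_root he hτe hrel hτκ h0 hw0 hr
  · push Not at hr
    exact h.false_of_no_root he hτe hrel hc hw0 hr

end Pair

end Odd

end Cfsg.Agent.ItoDesign
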