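import Cfsg.Agent.ItoDesign.Coord
import Cfsg.Agent.Classical.LinearBasic

/-!
The group generated by the axial groups of such a design is `PSL`, with trivial centraliser.
-/

set_option autoImplicit false
set_option linter.unusedSectionVars false

namespace Cfsg.Agent.ItoDesign

open Finset Matrix
open scoped LinearAlgebra.Projectivization

section Matrices

variable {F : Type*} [Field F] {m : ℕ}

/-- The transvection `x ↦ x + (w ⬝ᵥ x) • u`. -/
def tvec (u w : Fin m → F) (h : w ⬝ᵥ u = 0) : Matrix.SpecialLinearGroup (Fin m) F :=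
  ⟨1 + vecMulVec u w, by
    rw [vecMulVec_eq Unit, det_one_add_replicateCol_mul_replicateRow, h, add_zero]⟩

theorem tvec_mulVec (u w : Fin m → F) (h : w ⬝ᵥ u = 0) (x : Fin m → F) :
    (tvec u w h : Matrix (Fin m) (Fin m) F) *ᵥ x = x + (w ⬝ᵥ x) • u := by
  show (1 + vecMulVec u w) *ᵥ x = _
  rw [add_mulVec, one_mulVec, vecMulVec_mulVec]
  simp [op_smul_eq_smul]

theorem mulVec_ne_zero (g : Matrix.SpecialLinearGroup (Fin m) F) {v : Fin m → F} (hv : v ≠ 0) :
    (g : Matrix (Fin m) (Fin m) F) *ᵥ v ≠ 0 := fun e => by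
  have := congrArg (((g⁻¹ : Matrix.SpecialLinearGroup (Fin m) F) : Matrix (Fin m) (Fin m) F) *ᵥ ·) e
  simp only [mulVec_mulVec, ← Matrix.SpecialLinearGroup.coe_mul, inv_mul_cancel,
    Matrix.SpecialLinearGroup.coe_one, one_mulVec, mulVec_zero] at this
  exact hv this

theorem sl_smul_mk (g : Matrix.SpecialLinearGroup (Fin m) F) {v : Fin m → F} (hv : v ≠ 0) :
    g • Projectivization.mk F v hv = Projectivization.mk F _ (mulVec_ne_zero g hv) := by
  rw [Projectivization.matrixSpecialLinearGroup_smul_def, Projectivization.smul_mk]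
  rfl

theorem dot_smul_iff (g : Matrix.SpecialLinearGroup (Fin m) F) (w : Fin m → F) (z : ℙ F (Fin m → F)) :
    (w ᵥ* ((g⁻¹ : Matrix.SpecialLinearGroup (Fin m) F) : Matrix (Fin m) (Fin m) F)) ⬝ᵥ (g • z).rep = 0 ↔
      w ⬝ᵥ z.rep = 0 := by
  induction z using Projectivization.ind with
  | h v hv =>
  rw [sl_smul_mk, dot_rep_iff, dot_rep_iff, ← dotProduct_mulVec, mulVec_mulVec,
    ← Matrix.SpecialLinearGroup.coe_mul, inv_mul_cancel, Matrix.SpecialLinearGroup.coe_one, one_mulVec]

theorem mem_span_of_dot {x y r : Fin m → F}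
    (h : ∀ v : Fin m → F, v ⬝ᵥ x = 0 → v ⬝ᵥ y = 0 → v ⬝ᵥ r = 0) :
    ∃ a b : F, r = a • x + b • y := by
  by_contra hc
  push Not at hc
  have hr : r ∉ Submodule.span F ({x, y} : Set (Fin m → F)) := fun hr => by
    obtain ⟨a, b, e⟩ := Submodule.mem_span_pair.1 hr
    exact hc a b e.symm
  obtain ⟨f, hfr, hf⟩ := Submodule.exists_dual_map_eq_bot_of_notMem hr inferInstance
  have key : ∀ z : Fin m → F, (fun i => f (Pi.single i 1)) ⬝ᵥ z = f z := by
    intro z
    conv_rhs => rw [show z = ∑ i, z i • (Pi.single i 1 : Fin m → F) from (pi_eq_sum_univ' z)]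
    simp [dotProduct, map_sum, map_smul, mul_comm]
  have hker : ∀ z ∈ ({x, y} : Set (Fin m → F)), f z = 0 := fun z hz => by
    have hmem : f z ∈ (Submodule.span F ({x, y} : Set (Fin m → F))).map f :=
      Submodule.mem_map_of_mem (Submodule.subset_span hz)
    rw [hf] at hmem
    exact (Submodule.mem_bot F).1 hmem
  refine hfr ?_
  rw [← key]
  exact h _ (by rw [key]; exact hker x (by simp)) (by rw [key]; exact hker y (by simp))

end Matrices

variable {P L : Type*} [Fintype P] [Fintype L] [DecidableEq P] [DecidableEq L]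

namespace Elations

variable {G : Type*} [Group G] [Finite G] [MulAction G P] [MulAction G L] {D : Design P L}
  (E : Elations G D) {F : Type} [Field F] {m : ℕ} (Φ : P ≃ ℙ F (Fin (m + 1) → F))

/-- The action of `SL` on the points of the design through the model. -/
def rho : Matrix.SpecialLinearGroup (Fin (m + 1)) F →* Equiv.Perm P :=
  Φ.symm.permCongrHom.toMonoidHom.comp
    (MulAction.toPermHom (Matrix.SpecialLinearGroup (Fin (m + 1)) F) (ℙ F (Fin (m + 1) → F)))

theorem rho_apply (g : Matrix.SpecialLinearGroup (Fin (m + 1)) F) (p : P) :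
    rho Φ g p = Φ.symm (g • Φ p) := rfl

theorem rho_ker : (rho Φ).ker = Subgroup.center (Matrix.SpecialLinearGroup (Fin (m + 1)) F) := by
  rw [← Projectivization.SL_mulAction_ker]
  ext g
  simp only [MonoidHom.mem_ker, rho, MonoidHom.comp_apply]
  exact map_eq_one_iff (Φ.symm.permCongrHom.toMonoidHom) Φ.symm.permCongrHom.injective

variable {Φ}
variable (hblk : ∀ l, ∃ w : Fin (m + 1) → F, w ≠ 0 ∧ ∀ p, p ∈ D.pts l ↔ w ⬝ᵥ (Φ p).rep = 0)
  (hall : ∀ w : Fin (m + 1) → F, w ≠ 0 → ∃ l, ∀ p, p ∈ D.pts l ↔ w ⬝ᵥ (Φ p).rep = 0)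

include hblk hall in
theorem exists_aut_rho (g : Matrix.SpecialLinearGroup (Fin (m + 1)) F) :
    ∃ A : Aut D, A.σ = rho Φ g := by
  have key : ∀ l, ∃ l', ∀ p, rho Φ g p ∈ D.pts l' ↔ p ∈ D.pts l := by
    intro l
    obtain ⟨w, hw0, hw⟩ := hblk l
    have hne : w ᵥ* ((g⁻¹ : Matrix.SpecialLinearGroup (Fin (m + 1)) F) : Matrix (Fin (m + 1)) (Fin (m + 1)) F) ≠ 0 := fun e => by
      refine hw0 ?_
      have := congrArg (· ᵥ* (g : Matrix (Fin (m + 1)) (Fin (m + 1)) F)) e
      simpa only [vecMul_vecMul, ← Matrix.SpecialLinearGroup.coe_mul, inv_mul_cancel,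
        Matrix.SpecialLinearGroup.coe_one, vecMul_one, zero_vecMul] using this
    obtain ⟨l', hl'⟩ := hall _ hne
    refine ⟨l', fun p => ?_⟩
    rw [hl', hw, rho_apply, Equiv.apply_symm_apply, dot_smul_iff]
  choose f hf using key
  have hinj : Function.Injective f := fun l l' e => D.pts_injective (Finset.ext fun p => by
    rw [← hf l, ← hf l', e])
  exact ⟨⟨rho Φ g, Equiv.ofBijective f (Finite.injective_iff_bijective.1 hinj), fun p l => hf l p⟩, rfl⟩

include E hblk hall in
/-- An elation is a transvection. -/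
theorem exists_tvec {l : L} {w : Fin (m + 1) → F} (hw : ∀ p, p ∈ D.pts l ↔ w ⬝ᵥ (Φ p).rep = 0)
    {h : G} (hh : h ∈ E.K l) :
    ∃ (u : Fin (m + 1) → F) (hu : w ⬝ᵥ u = 0), MulAction.toPerm h = rho Φ (tvec u w hu) := by
  classical
  by_cases h1 : h = 1
  · subst h1
    refine ⟨0, dotProduct_zero w, Equiv.ext fun p => ?_⟩
    have : tvec (0 : Fin (m + 1) → F) w (dotProduct_zero w) = 1 := Subtype.ext (by simp [tvec])
    rw [this, map_one]
    simp
  obtain ⟨c, hc, hcP⟩ := E.exists_mem_Pt hh h1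
  obtain ⟨x0, hx0⟩ : ∃ x, x ∉ D.pts l := by
    by_contra hcc
    push Not at hcc
    obtain ⟨C, hC⟩ := E.exists_ne l
    exact hC (D.eq_of_subset fun p _ => hcc p)
  have hy : h • x0 ∉ D.pts l := fun e => hx0 ((E.inv h x0 l).1 ((E.smul_axis hh).symm ▸ e))
  have hmove : (E.aut h).σ x0 ≠ x0 := fun e => h1 (E.semireg l h hh x0 hx0 e)
  set X := (Φ x0).rep with hX
  set Y := (Φ (h • x0)).rep with hY
  set C := (Φ c).rep with hCdef
  have hwX : w ⬝ᵥ X ≠ 0 := fun e => hx0 ((hw x0).2 e)
  have hwY : w ⬝ᵥ Y ≠ 0 := fun e => hy ((hw _).2 e)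
  have hwC : w ⬝ᵥ C = 0 := (hw c).1 hc
  -- the centre is on the line through a point and its image
  obtain ⟨a, b, hab⟩ := mem_span_of_dot (x := X) (y := Y) (r := C) (by
    intro v hvX hvY
    by_cases hv0 : v = 0
    · simp [hv0]
    obtain ⟨l', hl'⟩ := hall v hv0
    have hfix : h • l' = l' :=
      (E.axis_aut hh).block_fixed hmove ((hl' x0).2 hvX) ((hl' (h • x0)).2 hvY)
    exact (hl' c).1 ((E.fix_iff hcP h1 l').1 hfix))
  set α := w ⬝ᵥ X with hα
  set β := w ⬝ᵥ Y with hβ
  set u : Fin (m + 1) → F := α⁻¹ • ((α / β) • Y - X) with hudef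
  have hu : w ⬝ᵥ u = 0 := by
    rw [hudef, dotProduct_smul, dotProduct_sub, dotProduct_smul, ← hβ, ← hα, smul_eq_mul, smul_eq_mul,
      div_mul_cancel₀ α hwY, sub_self, mul_zero]
  have hCu : C = (b * β) • u := by
    have e : a * α + b * β = 0 := by
      rw [hab, dotProduct_add, dotProduct_smul, dotProduct_smul, ← hα, ← hβ] at hwC
      exact hwC
    have ha : a = -(b * β) * α⁻¹ := by field_simp; linear_combination e
    rw [hab, hudef, ha, smul_sub, smul_sub, smul_smul, smul_smul, smul_smul]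
    rw [show b * β * α⁻¹ * (α / β) = b by field_simp, neg_mul, neg_smul]
    abel
  refine ⟨u, hu, ?_⟩
  obtain ⟨A, hA⟩ := exists_aut_rho hblk hall (tvec u w hu)⁻¹
  -- the composite fixes the axis, a further point and too many blocks
  let B' : Aut D := ⟨(MulAction.toPerm h : Equiv.Perm P).trans A.σ, (MulAction.toPerm h : Equiv.Perm L).trans A.τ,
    fun p l => (A.map _ _).trans (E.inv h p l)⟩
  suffices hB : ∀ p, B'.σ p = p by
    refine Equiv.ext fun p => ?_
    have h2 := hB p
    simp only [B', Equiv.trans_apply, MulAction.toPerm_apply, hA, map_inv] at h2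
    rw [Equiv.Perm.inv_def, Equiv.symm_apply_eq] at h2
    exact h2
  have hT : ∀ p, w ⬝ᵥ (Φ p).rep = 0 → rho Φ (tvec u w hu) p = p := by
    intro p hp
    rw [rho_apply, Equiv.symm_apply_eq]
    conv_lhs => rw [← Projectivization.mk_rep (Φ p)]
    rw [sl_smul_mk]
    conv_rhs => rw [← Projectivization.mk_rep (Φ p)]
    refine (Projectivization.mk_eq_mk_iff' F _ _ _ _).2 ⟨1, ?_⟩
    rw [tvec_mulVec, hp, zero_smul, add_zero, one_smul]
  have hTx : rho Φ (tvec u w hu) x0 = h • x0 := by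
    rw [rho_apply, Equiv.symm_apply_eq]
    conv_lhs => rw [← Projectivization.mk_rep (Φ x0)]
    rw [sl_smul_mk]
    conv_rhs => rw [← Projectivization.mk_rep (Φ (h • x0))]
    refine (Projectivization.mk_eq_mk_iff' F _ _ _ _).2 ⟨α / β, ?_⟩
    show (α / β) • Y = _
    rw [tvec_mulVec, ← hX, ← hα, hudef, smul_smul, mul_inv_cancel₀ hwX, one_smul, add_sub_cancel]
  have hσ : ∀ p, B'.σ p = (rho Φ (tvec u w hu))⁻¹ (h • p) := fun p => by
    simp [B', hA]
  have hax : B'.Axis l := fun p hp => by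
    rw [hσ, E.axis l h hh p hp, Equiv.Perm.inv_def, Equiv.symm_apply_eq, hT p ((hw p).1 hp)]
  have hfx0 : B'.σ x0 = x0 := by
    rw [hσ, Equiv.Perm.inv_def, Equiv.symm_apply_eq, hTx]
  by_contra hne
  push Not at hne
  obtain ⟨x, hx⟩ := hne
  have hPle : B'.fixP.card ≤ D.k + 1 := by
    rw [← D.blk l]
    refine le_trans (Finset.card_le_card fun p hp => ?_) (Finset.card_insert_le x0 (D.pts l))
    rw [Aut.mem_fixP] at hp
    rw [Finset.mem_insert]
    by_cases hpl : p ∈ D.pts l
    · exact Or.inr hpl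
    · exact Or.inl (hax.eq_of_fixed_out hx hp hfx0 hpl hx0)
  rw [B'.card_fix] at hPle
  have hsub : D.blks x0 ∪ D.blks c ⊆ B'.fixL := by
    intro l' hl'
    rw [Aut.mem_fixL]
    rcases Finset.mem_union.1 hl' with h2 | h2
    · exact hax.fixed_of_out hfx0 hx0 (D.mem_blks.1 h2)
    · rw [D.mem_blks] at h2
      obtain ⟨v, hv0, hv⟩ := hblk l'
      have hvu : v ⬝ᵥ u = 0 := by
        have e := (hv c).1 h2
        rw [← hCdef, hCu, dotProduct_smul, smul_eq_mul, mul_eq_zero] at e
        refine e.resolve_left ?_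
        intro hz
        exact Projectivization.rep_nonzero (Φ c) (by rw [← hCdef, hCu, hz, zero_smul])
      have hTinv : ∀ p, rho Φ (tvec u w hu) p ∈ D.pts l' ↔ p ∈ D.pts l' := by
        intro p
        rw [hv, hv, rho_apply, Equiv.apply_symm_apply]
        conv_lhs => rw [← Projectivization.mk_rep (Φ p), sl_smul_mk, dot_rep_iff]
        rw [tvec_mulVec, dotProduct_add, dotProduct_smul, hvu, smul_zero, add_zero]
      refine D.pts_injective ?_
      rw [B'.pts_τ]
      refine Finset.eq_of_subset_of_card_le (fun q hq => ?_) ?_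
      · obtain ⟨p, hp, rfl⟩ := Finset.mem_image.1 hq
        rw [hσ, ← hTinv]
        simp only [Equiv.Perm.inv_def, Equiv.apply_symm_apply]
        exact ((E.aut h).σ_mem (hcP.2 l' h2)).2 hp
      · rw [Finset.card_image_of_injective _ B'.σ.injective]
  have h3 := Finset.card_le_card hsub
  have h4 := Finset.card_union_add_card_inter (D.blks x0) (D.blks c)
  rw [D.card_blks_inter (fun (e : x0 = c) => hx0 (e ▸ hc)), D.card_blks, D.card_blks] at h4
  have := D.lam_lt
  omega

include E hblk hall in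
theorem exists_elation {l : L} {w : Fin (m + 1) → F} (hw0 : w ≠ 0)
    (hw : ∀ p, p ∈ D.pts l ↔ w ⬝ᵥ (Φ p).rep = 0) {u : Fin (m + 1) → F} (hu : w ⬝ᵥ u = 0) :
    ∃ h ∈ E.K l, MulAction.toPerm h = rho Φ (tvec u w hu) := by
  obtain ⟨i, hi⟩ : ∃ i, w i ≠ 0 := Function.ne_iff.1 hw0
  set X : Fin (m + 1) → F := Pi.single i 1 with hXdef
  have hwX : w ⬝ᵥ X ≠ 0 := by simpa [hXdef] using hi
  have hX0 : X ≠ 0 := fun e => hwX (by rw [e, dotProduct_zero])
  have hwY : w ⬝ᵥ (X + (w ⬝ᵥ X) • u) = w ⬝ᵥ X := by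
    rw [dotProduct_add, dotProduct_smul, hu, smul_zero, add_zero]
  have hY0 : X + (w ⬝ᵥ X) • u ≠ 0 := fun e => hwX (by rw [← hwY, e, dotProduct_zero])
  obtain ⟨h, hh, hhx⟩ := E.exists_smul_eq (B := l) (x := Φ.symm (Projectivization.mk F X hX0))
    (y := Φ.symm (Projectivization.mk F _ hY0))
    (fun e => hwX (by rw [hw, Equiv.apply_symm_apply, dot_rep_iff] at e; exact e))
    (fun e => hwX (by rw [hw, Equiv.apply_symm_apply, dot_rep_iff, hwY] at e; exact e))
  obtain ⟨u', hu', he⟩ := E.exists_tvec hblk hall hw hh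
  refine ⟨h, hh, ?_⟩
  suffices u' = u by subst this; exact he
  have e1 := Equiv.congr_fun he (Φ.symm (Projectivization.mk F X hX0))
  rw [MulAction.toPerm_apply, hhx, rho_apply, Equiv.apply_symm_apply, sl_smul_mk,
    Equiv.apply_eq_iff_eq] at e1
  obtain ⟨b, hb⟩ := (Projectivization.mk_eq_mk_iff' F _ _ _ _).1 e1
  rw [tvec_mulVec] at hb
  have hb1 := congrArg (w ⬝ᵥ ·) hb
  simp only [dotProduct_smul, dotProduct_add, hu', hu, smul_eq_mul, mul_zero, add_zero] at hb1
  have : b = 1 := mul_right_cancel₀ hwX (hb1.trans (one_mul _).symm)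
  rw [this, one_smul] at hb
  exact smul_right_injective _ hwX (add_left_cancel hb)

set_option maxHeartbeats 400000 in
include E in
/-- **The group contains `PSL` as a normal subgroup with trivial centraliser.** -/
theorem exists_psl [FaithfulSMul G P] [Nonempty L] :
    ∃ (m : ℕ) (F : Type) (_ : Field F) (_ : Fintype F), 2 ≤ m ∧
      Nat.card P = (Fintype.card F ^ (m + 1) - 1) / (Fintype.card F - 1) ∧
      ∃ N : Subgroup G, N.Normal ∧
        Nonempty (↥N ≃* Matrix.ProjectiveSpecialLinearGroup (Fin (m + 1)) F) ∧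
        Subgroup.centralizer (N : Set G) = ⊥ := by
  classical
  obtain ⟨F, hF, hFin, m, Φ, hm, hblk, hall⟩ := E.exists_model
  refine ⟨m, F, hF, hFin, hm, ?_, ?_⟩
  · rw [Nat.card_congr Φ, Projectivization.card'', Nat.card_eq_fintype_card, Nat.card_eq_fintype_card]
    simp
  let N : Subgroup G := Subgroup.closure (⋃ l, (E.K l : Set G))
  let θ : G →* Equiv.Perm P := MulAction.toPermHom G P
  have hθ : Function.Injective θ := MulAction.toPerm_injective
  have hrange : N.map θ = (rho Φ).range := by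
    refine le_antisymm ?_ ?_
    · rw [Subgroup.map_le_iff_le_comap, Subgroup.closure_le]
      rintro h hh
      obtain ⟨l, hl⟩ := Set.mem_iUnion.1 hh
      obtain ⟨w, -, hw⟩ := hblk l
      obtain ⟨u, hu, he⟩ := E.exists_tvec hblk hall hw hl
      exact ⟨tvec u w hu, he.symm⟩
    · rw [MonoidHom.range_eq_map, Subgroup.map_le_iff_le_comap,
        ← Classical.sl_eq_top_of_transvection ((N.map θ).comap (rho Φ)) ?_]
      intro i j hij c
      have hw0 : (Pi.single j 1 : Fin (m + 1) → F) ≠ 0 := Pi.single_ne_zero_iff.2 one_ne_zero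
      obtain ⟨l, hl⟩ := hall _ hw0
      have hu : (Pi.single j 1 : Fin (m + 1) → F) ⬝ᵥ Pi.single i c = 0 := by
        rw [single_dotProduct, one_mul, Pi.single_eq_of_ne hij.symm]
      obtain ⟨h, hh, he⟩ := E.exists_elation hblk hall hw0 hl hu
      have e : tvec (Pi.single i c) (Pi.single j 1) hu = Matrix.SpecialLinearGroup.transvection hij c := by
        refine Classical.sl_ext_mulVec fun v => ?_
        rw [tvec_mulVec, Matrix.SpecialLinearGroup.transvection_coe]
        rw [Classical.tv_mulVec, single_dotProduct, one_mul, ← Pi.single_smul, smul_eq_mul, mul_comm]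
      rw [Subgroup.mem_comap, ← e, ← he]
      exact ⟨h, Subgroup.subset_closure (Set.mem_iUnion.2 ⟨l, hh⟩), rfl⟩
  refine ⟨N, ⟨fun n hn g => ?_⟩, ⟨?_⟩, ?_⟩
  · induction hn using Subgroup.closure_induction with
    | mem h hh =>
      obtain ⟨l, hl⟩ := Set.mem_iUnion.1 hh
      exact Subgroup.subset_closure (Set.mem_iUnion.2 ⟨g • l, E.conj g l h hl⟩)
    | one => simp [one_mem]
    | mul a b _ _ ha hb => simpa [mul_assoc] using mul_mem ha hb
    | inv a _ ha => simpa [mul_assoc] using inv_mem ha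
  · exact ((N.equivMapOfInjective θ hθ).trans (MulEquiv.subgroupCongr hrange)).trans
      ((QuotientGroup.quotientKerEquivRange (rho Φ)).symm.trans
        (QuotientGroup.quotientMulEquivOfEq (rho_ker Φ)))
  · refine (Subgroup.eq_bot_iff_forall _).2 fun g hg => ?_
    rw [Subgroup.mem_centralizer_iff] at hg
    have hl : ∀ l : L, g • l = l := by
      intro l
      by_contra hne
      obtain ⟨h, hh, hh1⟩ := E.nontriv l
      have h2 : h ∈ E.K (g • l) := by
        have := E.conj g l h hh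
        rwa [← hg h (Subgroup.subset_closure (Set.mem_iUnion.2 ⟨l, hh⟩)), mul_inv_cancel_right] at this
      obtain ⟨x, hx, hxl⟩ : ∃ x ∈ D.pts (g • l), x ∉ D.pts l := by
        by_contra hcc
        push Not at hcc
        exact hne (D.eq_of_subset hcc)
      exact hh1 (E.semireg l h hh x hxl (E.axis _ h h2 x hx))
    refine eq_of_smul_eq_smul (α := P) fun p => ?_
    rw [one_smul]
    by_contra hne
    obtain ⟨l, hp, hq⟩ := D.exists_not_mem p (g • p) (Ne.symm hne)
    refine hq ?_
    rw [← hl l, E.inv]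
    exact hp

end Elations

end Cfsg.Agent.ItoDesign
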