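import Mathlib

/-!
Semilinear components of a ring over a finite subfield: orthogonality, projections,
Hilbert 90 and fixed vectors of semilinear maps.
-/

set_option autoImplicit false
set_option linter.unusedSectionVars false

namespace Cfsg.Agent.ItoDesign

open Finset
open scoped Classical

section Field

variable {K : Type*} [Field K]

instance finite_ringEquiv [Finite K] : Finite (K ≃+* K) :=
  Finite.of_injective (fun e => (e : K → K)) DFunLike.coe_injective

open Classical in
/-- Orthogonality of field automorphisms. -/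
theorem sum_units_orth [Fintype K] (σ τ : K ≃+* K) :
    ∑ b : Kˣ, σ (b : K) * τ ((b : K)⁻¹) = if σ = τ then -1 else 0 := by
  split_ifs with hστ
  · subst hστ
    rw [Finset.sum_congr rfl fun (b : Kˣ) _ => show σ (b : K) * σ ((b : K)⁻¹) = 1 by
      rw [← map_mul, mul_inv_cancel₀ b.ne_zero, map_one]]
    rw [Finset.sum_const, Finset.card_univ, Fintype.card_units, nsmul_eq_mul, mul_one,
      Nat.cast_sub Fintype.card_pos, FiniteField.cast_card_eq_zero]
    simp
  · obtain ⟨c, hc0, hc⟩ : ∃ c : K, c ≠ 0 ∧ σ c ≠ τ c := by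
      by_contra hall
      push Not at hall
      refine hστ (RingEquiv.ext fun x => ?_)
      by_cases hx : x = 0
      · simp [hx]
      · exact hall x hx
    set S := ∑ b : Kˣ, σ (b : K) * τ ((b : K)⁻¹) with hS
    have h : σ c * (τ c)⁻¹ * S = S := by
      rw [hS, Finset.mul_sum]
      refine Fintype.sum_equiv (Equiv.mulLeft (Units.mk0 c hc0)) _ _ fun b => ?_
      simp only [Equiv.coe_mulLeft, Units.val_mul, Units.val_mk0, map_mul, map_inv₀, mul_inv]
      ring
    by_contra hne
    exact hc ((mul_inv_eq_one₀ ((map_ne_zero τ).2 hc0)).1 (mul_right_cancel₀ hne (h.trans (one_mul S).symm)))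

/-- The norm of a cyclic group of automorphisms of a finite field is onto the fixed field. -/
theorem exists_norm_eq [Finite K] (τ : K ≃+* K) {o : ℕ} (ho : τ ^ o = 1) (ho' : 0 < o)
    (hlt : ∀ i, 0 < i → i < o → τ ^ i ≠ 1) {f : K} (hf : τ f = f) (hf0 : f ≠ 0) :
    ∃ b : K, ∏ i ∈ range o, (τ ^ i) b = f := by
  classical
  have := Fintype.ofFinite K
  let N : Kˣ →* Kˣ :=
    { toFun := fun u => ∏ i ∈ range o, Units.map (τ ^ i).toRingHom.toMonoidHom u
      map_one' := by simp
      map_mul' := fun u v => by simp [Finset.prod_mul_distrib] }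
  have hN : ∀ u, ((N u : Kˣ) : K) = ∏ i ∈ range o, (τ ^ i) (u : K) := fun u => by simp [N]
  let g : Kˣ →* Kˣ :=
    { toFun := fun u => u / Units.map τ.toRingHom.toMonoidHom u
      map_one' := by simp
      map_mul' := fun u v => by simp [mul_div_mul_comm] }
  have hshift : ∀ u : K, u ≠ 0 → τ (∏ i ∈ range o, (τ ^ i) u) = ∏ i ∈ range o, (τ ^ i) u := by
    intro u hu
    have e := Finset.prod_range_succ' (fun i => (τ ^ i) u) o
    rw [Finset.prod_range_succ, ho] at e
    simp only [pow_succ', RingAut.mul_apply, pow_zero] at e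
    rw [map_prod]
    exact (mul_right_cancel₀ hu e).symm
  have hker : N.ker ≤ g.range := by
    intro x hx
    have hx' : ∏ i ∈ range o, (τ ^ i) (x : K) = 1 := by rw [← hN, MonoidHom.mem_ker.1 hx]; simp
    -- Hilbert 90
    let P : ℕ → K := fun i => ∏ j ∈ range i, (τ ^ j) (x : K)
    obtain ⟨a, ha⟩ : ∃ a : K, ∑ i ∈ range o, P i * (τ ^ i) a ≠ 0 := by
      by_contra hall
      push Not at hall
      have h0 : ∑ b : Kˣ, (∑ i ∈ range o, P i * (τ ^ i) (b : K)) * ((b : K)⁻¹) = 0 :=
        Finset.sum_eq_zero fun b _ => by rw [hall, zero_mul]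
      simp only [Finset.sum_mul, mul_assoc] at h0
      rw [Finset.sum_comm] at h0
      have h1 : ∀ i ∈ range o, ∑ b : Kˣ, P i * ((τ ^ i) (b : K) * (b : K)⁻¹) =
          if i = 0 then -P i else 0 := by
        intro i hi
        rw [← Finset.mul_sum]
        have := sum_units_orth (τ ^ i) 1
        simp only [RingAut.one_apply] at this
        rw [this]
        split_ifs with h2 h3 h3
        · simp
        · exact absurd h2 (hlt i (Nat.pos_of_ne_zero h3) (Finset.mem_range.1 hi))
        · exact absurd (by rw [h3, pow_zero]) h2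
        · simp
      rw [Finset.sum_congr rfl h1, Finset.sum_ite_eq', if_pos (Finset.mem_range.2 ho')] at h0
      simp [P] at h0
    set y := ∑ i ∈ range o, P i * (τ ^ i) a with hy
    have key : (x : K) * τ y = y := by
      have e := Finset.sum_range_succ' (fun i => P i * (τ ^ i) a) o
      rw [Finset.sum_range_succ] at e
      simp only [P, ho, hx', Finset.prod_range_zero, pow_zero] at e
      rw [hy, map_sum, Finset.mul_sum]
      refine Eq.trans ?_ (add_right_cancel e).symm
      refine Finset.sum_congr rfl fun i _ => ?_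
      rw [Finset.prod_range_succ', map_mul, map_prod]
      simp only [pow_succ', RingAut.mul_apply, pow_zero, RingAut.one_apply]
      ring
    refine ⟨Units.mk0 y ha, Units.ext ?_⟩
    show ((Units.mk0 y ha / Units.map τ.toRingHom.toMonoidHom (Units.mk0 y ha) : Kˣ) : K) = x
    rw [Units.val_div_eq_div_val]
    simp only [Units.val_mk0, Units.coe_map, RingHom.toMonoidHom_eq_coe, MonoidHom.coe_coe,
      RingEquiv.toRingHom_eq_coe, RingHom.coe_coe]
    rw [div_eq_iff ((map_ne_zero τ).2 ha), key]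
  have hrange : N.range ≤ g.ker := by
    rintro _ ⟨u, rfl⟩
    rw [MonoidHom.mem_ker]
    refine div_eq_one.2 (Units.ext ?_)
    show ((N u : Kˣ) : K) = τ ((N u : Kˣ) : K)
    rw [hN]
    exact (hshift _ u.ne_zero).symm
  have hf' : Units.mk0 f hf0 ∈ g.ker := by
    rw [MonoidHom.mem_ker]
    exact div_eq_one.2 (Units.ext (by simp [hf]))
  have h1 := N.ker.card_mul_index
  rw [Subgroup.index_ker] at h1
  have h2 := g.ker.card_mul_index
  rw [Subgroup.index_ker] at h2
  have h3 := Subgroup.card_le_of_le hker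
  have hle : Nat.card ↥g.ker ≤ Nat.card ↥N.range := by
    refine Nat.le_of_mul_le_mul_left ?_ (Nat.card_pos (α := ↥N.ker))
    calc Nat.card ↥N.ker * Nat.card ↥g.ker ≤ Nat.card ↥g.range * Nat.card ↥g.ker :=
          Nat.mul_le_mul_right _ h3
      _ = Nat.card ↥N.ker * Nat.card ↥N.range := by rw [h1, mul_comm, h2]
  have heq := Subgroup.eq_of_le_of_card_ge hrange hle
  rw [← heq] at hf'
  obtain ⟨u, hu⟩ := hf'
  exact ⟨u, by rw [← hN, hu, Units.val_mk0]⟩

end Field

section Ring

variable {R : Type*} [Ring R] {K : Type*} [Field K] [Fintype K] (ι : K →+* R)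

/-- The component of type `τ`. -/
noncomputable def comp (τ : K ≃+* K) (X : R) : R := -∑ b : Kˣ, ι (τ (b : K)) * X * ι ((b : K)⁻¹)

theorem comp_add (τ : K ≃+* K) (X Y : R) : comp ι τ (X + Y) = comp ι τ X + comp ι τ Y := by
  simp only [comp, mul_add, add_mul, Finset.sum_add_distrib, neg_add]

theorem comp_zero (τ : K ≃+* K) : comp ι τ (0 : R) = 0 := by simp [comp]

theorem comp_mul (τ : K ≃+* K) (X : R) (a : K) :
    comp ι τ X * ι a = ι (τ a) * comp ι τ X := by
  by_cases ha : a = 0
  · simp [ha]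
  simp only [comp, neg_mul, mul_neg, Finset.sum_mul, Finset.mul_sum, neg_inj]
  refine Fintype.sum_equiv (Equiv.mulRight (Units.mk0 a ha)⁻¹) _ _ fun b => ?_
  simp only [Equiv.coe_mulRight, Units.val_mul, Units.val_inv_eq_inv_val, Units.val_mk0]
  have e1 : (b : K)⁻¹ * a = ((b : K) * a⁻¹)⁻¹ := by rw [mul_inv, inv_inv]
  have e2 : τ a * τ ((b : K) * a⁻¹) = τ (b : K) := by
    rw [← map_mul, mul_comm (b : K), mul_inv_cancel_left₀ ha]
  rw [mul_assoc, ← map_mul, e1, ← mul_assoc, ← mul_assoc, ← map_mul, e2]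

theorem comp_eq {τ ρ : K ≃+* K} {W : R} (h : ∀ a, W * ι a = ι (ρ a) * W) :
    comp ι τ W = if τ = ρ then W else 0 := by
  classical
  have e : ∀ b : Kˣ, ι (τ (b : K)) * W * ι ((b : K)⁻¹) = ι (τ (b : K) * ρ ((b : K)⁻¹)) * W :=
    fun b => by rw [mul_assoc, h, ← mul_assoc, map_mul]
  rw [comp, Finset.sum_congr rfl fun b _ => e b, ← Finset.sum_mul, ← map_sum, sum_units_orth]
  split_ifs <;> simp

theorem comp_left (τ : K ≃+* K) (a : K) (X : R) :
    comp ι τ (ι a * X) = ι a * comp ι τ X := by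
  simp only [comp, mul_neg, Finset.mul_sum, neg_inj]
  refine Finset.sum_congr rfl fun b _ => ?_
  simp only [← mul_assoc, ← map_mul, mul_comm (τ (b : K)) a]

variable {ι}

theorem semi_mul {τ ρ : K ≃+* K} {Y W : R} (hY : ∀ a, Y * ι a = ι (τ a) * Y)
    (hW : ∀ a, W * ι a = ι (ρ a) * W) (a : K) : Y * W * ι a = ι ((τ * ρ) a) * (Y * W) := by
  rw [mul_assoc, hW, ← mul_assoc, hY, mul_assoc]
  rfl

theorem semi_pow {τ : K ≃+* K} {Y : R} (hY : ∀ a, Y * ι a = ι (τ a) * Y) (m : ℕ) (a : K) :
    Y ^ m * ι a = ι ((τ ^ m) a) * Y ^ m := by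
  induction m generalizing a with
  | zero => simp
  | succ m ih =>
    rw [pow_succ, pow_succ]
    exact semi_mul ih hY a

theorem semi_smul {τ : K ≃+* K} {Y : R} (hY : ∀ a, Y * ι a = ι (τ a) * Y) (c a : K) :
    ι c * Y * ι a = ι (τ a) * (ι c * Y) := by
  rw [mul_assoc, hY, ← mul_assoc, ← mul_assoc, ← map_mul, ← map_mul, mul_comm]

theorem semi_mul_pow {τ : K ≃+* K} {Y : R} (hY : ∀ a, Y * ι a = ι (τ a) * Y) (b : K) (m : ℕ) :
    (ι b * Y) ^ m = ι (∏ i ∈ range m, (τ ^ i) b) * Y ^ m := by
  induction m with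
  | zero => simp
  | succ m ih =>
    rw [pow_succ, ih, Finset.prod_range_succ, map_mul, ← mul_assoc, mul_assoc (ι _) (Y ^ m),
      semi_pow hY, pow_succ]
    simp only [mul_assoc]

end Ring

section End

variable {A : Type*} [AddCommGroup A] {K : Type*} [Field K] [Fintype K]
  (ι : K →+* AddMonoid.End A)

/-- A semilinear map whose power fixes a nonzero vector fixes a nonzero vector. -/
theorem exists_fixed_vector {τ : K ≃+* K} {o : ℕ} (ho : τ ^ o = 1) (ho' : 0 < o)
    (hlt : ∀ i, 0 < i → i < o → τ ^ i ≠ 1) {L : AddMonoid.End A}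
    (hL : ∀ a, L * ι a = ι (τ a) * L) {w : A} (hw : (L ^ o) w = w) (hw0 : w ≠ 0) :
    ∃ v, v ≠ 0 ∧ L v = v := by
  classical
  by_contra hall
  push Not at hall
  have hpow : ∀ (i : ℕ) (x : A), L ((L ^ i) x) = (L ^ (i + 1)) x := fun i x => by
    rw [pow_succ']; rfl
  have hv : ∀ a : K, ∑ i ∈ range o, (L ^ i) (ι a w) = 0 := by
    intro a
    by_contra h0
    refine hall _ h0 ?_
    rw [map_sum]
    simp only [hpow]
    have e := Finset.sum_range_succ' (fun i => (L ^ i) (ι a w)) o
    rw [Finset.sum_range_succ] at e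
    have : (L ^ o) (ι a w) = (L ^ 0) (ι a w) := by
      have := DFunLike.congr_fun (semi_pow hL o a) w
      rw [ho] at this
      simp only [RingAut.one_apply] at this
      rw [pow_zero]
      show (L ^ o * ι a) w = ι a w
      rw [DFunLike.congr_fun (semi_pow hL o a) w, ho]
      simp only [RingAut.one_apply]
      show ι a ((L ^ o) w) = ι a w
      rw [hw]
    rw [this] at e
    exact (add_right_cancel e).symm
  have h0 : ∑ b : Kˣ, ι ((b : K)⁻¹) (∑ i ∈ range o, (L ^ i) (ι (b : K) w)) = 0 :=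
    Finset.sum_eq_zero fun b _ => by rw [hv, map_zero]
  simp only [map_sum] at h0
  rw [Finset.sum_comm] at h0
  have h1 : ∀ i ∈ range o, ∑ b : Kˣ, ι ((b : K)⁻¹) ((L ^ i) (ι (b : K) w)) =
      if i = 0 then -w else 0 := by
    intro i hi
    have e : ∀ b : Kˣ, ι ((b : K)⁻¹) ((L ^ i) (ι (b : K) w)) =
        ι ((τ ^ i) (b : K) * (b : K)⁻¹) ((L ^ i) w) := fun b => by
      rw [mul_comm, map_mul]
      show ι ((b : K)⁻¹) ((L ^ i * ι (b : K)) w) = _
      rw [semi_pow hL]
      rfl
    have hs : ∀ (f : Kˣ → K) (x : A), ∑ b, ι (f b) x = ι (∑ b, f b) x := fun f x => by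
      rw [map_sum]
      exact (AddMonoidHom.finsetSum_apply (fun b => ι (f b)) Finset.univ x).symm
    have := sum_units_orth (τ ^ i) 1
    simp only [RingAut.one_apply] at this
    rw [Finset.sum_congr rfl fun b _ => e b, hs, this]
    split_ifs with h2 h3 h3
    · subst h3
      rw [map_neg, map_one, pow_zero]
      rfl
    · exact absurd h2 (hlt i (Nat.pos_of_ne_zero h3) (Finset.mem_range.1 hi))
    · exact absurd (by rw [h3, pow_zero]) h2
    · simp
  rw [Finset.sum_congr rfl h1, Finset.sum_ite_eq', if_pos (Finset.mem_range.2 ho'), neg_eq_zero] at h0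
  exact hw0 h0

end End

end Cfsg.Agent.ItoDesign
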