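import Cfsg.Agent.ItoDesign.Elation
import Cfsg.Agent.Char.Frobenius
import Cfsg.Agent.S3704

/-!
A doubly transitive group with an intransitive subgroup `H` of index the degree, fixing no point and
not semifaithful on one of its orbits, gives a symmetric design with a family of semiregular axial
groups (the elations).
-/

set_option autoImplicit false
set_option linter.unusedSectionVars false
set_option linter.style.haveILetI false

namespace Cfsg.Agent.ItoDesign

open Finset

variable {G Ω : Type*} [Group G] [Finite G] [MulAction G Ω] [Fintype Ω] [DecidableEq Ω]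
  (H : Subgroup G) (B : Set Ω)

/-- The point set of a translate of an `H`-invariant set. -/
noncomputable def blkPts (q : G ⧸ H) : Finset Ω := by
  classical exact univ.filter fun x => ∃ g : G, (g : G ⧸ H) = q ∧ g⁻¹ • x ∈ B

variable {H B}

theorem mem_blkPts_mk (hB : ∀ h ∈ H, ∀ x ∈ B, h • x ∈ B) (g : G) (x : Ω) :
    x ∈ blkPts H B (g : G ⧸ H) ↔ g⁻¹ • x ∈ B := by
  simp only [blkPts, Finset.mem_filter, Finset.mem_univ, true_and]
  exact S3704.inTr_iff H hB g x

theorem mem_blkPts_smul (g : G) (q : G ⧸ H) (x : Ω) :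
    g • x ∈ blkPts H B (g • q) ↔ x ∈ blkPts H B q := by
  simp only [blkPts, Finset.mem_filter, Finset.mem_univ, true_and]
  exact S3704.inTr_smul H B g q x

section Counting

variable {P L : Type*} [Fintype P] [Fintype L] [DecidableEq P] [DecidableEq L]

/-- Regularity of the point side forces regularity of the block side. -/
theorem two_blks_of_two_pts (pts : L → Finset P) (k lam : ℕ) (hcard : Fintype.card L = Fintype.card P)
    (blk : ∀ l, (pts l).card = k) (pt : ∀ p, (univ.filter fun l => p ∈ pts l).card = k)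
    (two : ∀ p q, p ≠ q → (univ.filter fun l => p ∈ pts l ∧ q ∈ pts l).card = lam)
    (hcnt : lam * Fintype.card P + k = k * k + lam) {l m : L} (hlm : l ≠ m) :
    (pts l ∩ pts m).card = lam := by
  have hs1 : ∑ j, ((pts l ∩ pts j).card : ℤ) = k * k := by
    have h := Finset.sum_card_bipartiteAbove_eq_sum_card_bipartiteBelow (s := pts l)
      (t := (univ : Finset L)) fun p j => p ∈ pts j
    simp only [Finset.bipartiteAbove, Finset.bipartiteBelow, pt, Finset.sum_const, blk,
      smul_eq_mul] at h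
    have e : ∀ j, (pts l).filter (fun p => p ∈ pts j) = pts l ∩ pts j := fun j =>
      Finset.filter_mem_eq_inter
    simp only [e] at h
    exact_mod_cast h.symm
  have hs2 : ∑ j, ((pts l ∩ pts j).card : ℤ) ^ 2 = k * k + k * ((k : ℤ) - 1) * lam := by
    have h := Finset.sum_card_bipartiteAbove_eq_sum_card_bipartiteBelow (s := pts l ×ˢ pts l)
      (t := (univ : Finset L)) fun x j => x.1 ∈ pts j ∧ x.2 ∈ pts j
    simp only [Finset.bipartiteAbove, Finset.bipartiteBelow] at h
    have e : ∀ j, (pts l ×ˢ pts l).filter (fun x => x.1 ∈ pts j ∧ x.2 ∈ pts j) =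
        (pts l ∩ pts j) ×ˢ (pts l ∩ pts j) := fun j => by ext x; simp; tauto
    simp only [e, Finset.card_product] at h
    rw [← Finset.diag_union_offDiag, Finset.sum_union (Finset.disjoint_diag_offDiag _)] at h
    have h1 : ∀ x ∈ (pts l).diag, (univ.filter fun j => x.1 ∈ pts j ∧ x.2 ∈ pts j).card = k := by
      intro x hx
      obtain ⟨-, hx2⟩ := Finset.mem_diag.1 hx
      rw [← hx2]
      simp [pt]
    have h2 : ∀ x ∈ (pts l).offDiag,
        (univ.filter fun j => x.1 ∈ pts j ∧ x.2 ∈ pts j).card = lam := fun x hx =>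
      two _ _ (Finset.mem_offDiag.1 hx).2.2
    rw [Finset.sum_congr rfl h1, Finset.sum_congr rfl h2, Finset.sum_const, Finset.sum_const,
      Finset.diag_card, Finset.offDiag_card, blk, smul_eq_mul, smul_eq_mul] at h
    zify [Nat.le_mul_self k] at h
    simp only [sq]
    linear_combination -h
  have hrest : ∑ j ∈ univ.erase l, (((pts l ∩ pts j).card : ℤ) - lam) ^ 2 = 0 := by
    have hN : ((univ.erase l).card : ℤ) = (Fintype.card P : ℤ) - 1 := by
      rw [Finset.card_erase_of_mem (mem_univ l), Finset.card_univ, hcard,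
        Nat.cast_sub (hcard ▸ (Fintype.card_pos_iff.2 ⟨l⟩ : 0 < Fintype.card L))]
      simp
    have e1 := Finset.add_sum_erase univ (fun j => ((pts l ∩ pts j).card : ℤ)) (mem_univ l)
    have e2 := Finset.add_sum_erase univ (fun j => ((pts l ∩ pts j).card : ℤ) ^ 2) (mem_univ l)
    rw [hs1, Finset.inter_self, blk] at e1
    rw [hs2, Finset.inter_self, blk] at e2
    have hc : (lam : ℤ) * Fintype.card P + k = k * k + lam := by exact_mod_cast hcnt
    calc ∑ j ∈ univ.erase l, (((pts l ∩ pts j).card : ℤ) - lam) ^ 2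
        = ∑ j ∈ univ.erase l, ((pts l ∩ pts j).card : ℤ) ^ 2
          - 2 * lam * ∑ j ∈ univ.erase l, ((pts l ∩ pts j).card : ℤ)
          + (univ.erase l).card * (lam : ℤ) ^ 2 := by
          simp only [sub_sq, Finset.sum_add_distrib, Finset.sum_sub_distrib, Finset.sum_const,
            nsmul_eq_mul, Finset.mul_sum]
          congr 2
          exact Finset.sum_congr rfl fun j _ => by ring
      _ = 0 := by
          rw [hN]
          linear_combination e2 - 2 * (lam : ℤ) * e1 + (lam : ℤ) * hc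
  have h := (Finset.sum_eq_zero_iff_of_nonneg fun j _ => sq_nonneg _).1 hrest m
    (Finset.mem_erase.2 ⟨hlm.symm, mem_univ m⟩)
  rw [sq_eq_zero_iff, sub_eq_zero] at h
  exact_mod_cast h

end Counting

/-- The design of the translates of an orbit. -/
theorem exists_design [Fintype (G ⧸ H)] [DecidableEq (G ⧸ H)]
    (h2 : MulAction.IsMultiplyPretransitive G Ω 2) (hidx : H.index = Nat.card Ω)
    (hB : ∀ h ∈ H, ∀ x ∈ B, h • x ∈ B) (hk : 2 ≤ B.ncard) (hkn : B.ncard + 2 ≤ Nat.card Ω) :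
    ∃ D : Design Ω (G ⧸ H), ∀ q, D.pts q = blkPts H B q := by
  classical
  haveI := Fintype.ofFinite G
  haveI : MulAction.IsPretransitive G Ω :=
    MulAction.isPretransitive_of_is_two_pretransitive
  have hcard : Fintype.card (G ⧸ H) = Fintype.card Ω := by
    rw [← Nat.card_eq_fintype_card, ← Subgroup.index_eq_card, hidx, Nat.card_eq_fintype_card]
  rw [Nat.card_eq_fintype_card] at hkn
  set k := B.ncard with hkdef
  have blk : ∀ q, (blkPts H B q).card = k := by
    intro q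
    induction q using QuotientGroup.induction_on with
    | _ g =>
      rw [hkdef, Set.ncard_eq_toFinset_card' B]
      refine Finset.card_bij' (fun x _ => g⁻¹ • x) (fun x _ => g • x) ?_ ?_ ?_ ?_
      · intro x hx; exact Set.mem_toFinset.2 ((mem_blkPts_mk hB g x).1 hx)
      · intro x hx
        refine (mem_blkPts_mk hB g _).2 ?_
        rw [inv_smul_smul]; exact Set.mem_toFinset.1 hx
      · intro x _; exact smul_inv_smul _ _
      · intro x _; exact inv_smul_smul _ _
  have ptc : ∀ p p', (univ.filter fun q => p ∈ blkPts H B q).card =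
      (univ.filter fun q => p' ∈ blkPts H B q).card := by
    intro p p'
    obtain ⟨g, rfl⟩ := MulAction.exists_smul_eq G p p'
    refine Finset.card_equiv (MulAction.toPerm g) fun q => ?_
    simp only [Finset.mem_filter, Finset.mem_univ, true_and, MulAction.toPerm_apply]
    exact (mem_blkPts_smul g q p).symm
  have hΩ : 2 ≤ Fintype.card Ω := by omega
  have pt : ∀ p, (univ.filter fun q => p ∈ blkPts H B q).card = k := by
    intro p
    have h := Finset.sum_card_bipartiteAbove_eq_sum_card_bipartiteBelow (s := (univ : Finset Ω))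
      (t := (univ : Finset (G ⧸ H))) fun x q => x ∈ blkPts H B q
    simp only [Finset.bipartiteAbove, Finset.bipartiteBelow, Finset.filter_univ_mem, blk,
      Finset.sum_const, smul_eq_mul, Finset.card_univ] at h
    rw [Finset.sum_congr rfl fun x _ => ptc x p, Finset.sum_const, smul_eq_mul, Finset.card_univ,
      hcard] at h
    exact Nat.eq_of_mul_eq_mul_left (by omega) h
  obtain ⟨p₀, q₀, hpq₀⟩ := Fintype.exists_pair_of_one_lt_card (α := Ω) (by omega)
  set lam := (univ.filter fun l => p₀ ∈ blkPts H B l ∧ q₀ ∈ blkPts H B l).card with hlam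
  have two : ∀ p q, p ≠ q →
      (univ.filter fun l => p ∈ blkPts H B l ∧ q ∈ blkPts H B l).card = lam := by
    intro p q hpq
    obtain ⟨g, hp, hq⟩ := MulAction.is_two_pretransitive_iff.1 h2 hpq hpq₀
    refine Finset.card_equiv (MulAction.toPerm g) fun l => ?_
    simp only [Finset.mem_filter, Finset.mem_univ, true_and, MulAction.toPerm_apply]
    rw [← hp, ← hq, mem_blkPts_smul, mem_blkPts_smul]
  have hcnt : lam * (Fintype.card Ω - 1) = k * (k - 1) := by
    have h := Finset.sum_card_bipartiteAbove_eq_sum_card_bipartiteBelow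
      (s := univ.erase p₀) (t := univ.filter fun l => p₀ ∈ blkPts H B l)
      fun q l => q ∈ blkPts H B l
    simp only [Finset.bipartiteAbove, Finset.bipartiteBelow, Finset.filter_filter] at h
    have hr : ∀ l ∈ univ.filter (fun l => p₀ ∈ blkPts H B l),
        ((univ.erase p₀).filter fun q => q ∈ blkPts H B l).card = k - 1 := by
      intro l hl
      rw [← blk l, ← Finset.card_erase_of_mem (Finset.mem_filter.1 hl).2]
      congr 1
      ext x
      simp [and_comm]
    rw [Finset.sum_congr rfl fun q hq => two p₀ q (Ne.symm (Finset.ne_of_mem_erase hq)),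
      Finset.sum_congr rfl hr, Finset.sum_const, Finset.sum_const,
      pt, Finset.card_erase_of_mem (mem_univ _), Finset.card_univ, smul_eq_mul, smul_eq_mul] at h
    rw [← h, mul_comm]
  have hcount : lam * Fintype.card Ω + k = k * k + lam := by
    obtain ⟨n, hn⟩ : ∃ n, Fintype.card Ω = n + 1 := ⟨_, (Nat.sub_add_cancel (by omega)).symm⟩
    obtain ⟨j, hj⟩ : ∃ j, k = j + 1 := ⟨_, (Nat.sub_add_cancel (by omega)).symm⟩
    rw [hn, hj] at hcnt ⊢
    simp only [Nat.add_sub_cancel] at hcnt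
    linear_combination hcnt
  have hpos : 1 ≤ lam := by
    rcases Nat.eq_zero_or_pos lam with h0 | h0
    · rw [h0, zero_mul] at hcnt
      have : 0 < k * (k - 1) := Nat.mul_pos (by omega) (by omega)
      omega
    · exact h0
  have hlt : lam + 2 ≤ k := by
    by_contra hc
    rcases Nat.lt_or_ge lam k with h1 | h1
    · have e : lam = k - 1 := by omega
      rw [e, mul_comm k] at hcnt
      have := Nat.eq_of_mul_eq_mul_left (show 0 < k - 1 by omega) hcnt
      omega
    · have := Nat.mul_le_mul h1 (show k ≤ Fintype.card Ω - 1 by omega)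
      have := Nat.mul_lt_mul_of_pos_left (show k - 1 < k by omega) (show 0 < k by omega)
      omega
  exact ⟨⟨blkPts H B, k, lam, hcard, blk, pt, two,
    fun l m hlm => two_blks_of_two_pts _ k lam hcard blk pt two hcount hlm, hpos, hlt, hcount⟩,
    fun _ => rfl⟩

variable [Fintype (G ⧸ H)] [DecidableEq (G ⧸ H)] {D : Design Ω (G ⧸ H)}

/-- The axial elements without fixed points off the axis, and the identity. -/
def IsElation (D : Design Ω (G ⧸ H)) (l : G ⧸ H) (h : G) : Prop :=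
  (∀ p ∈ D.pts l, h • p = p) ∧ (h = 1 ∨ ∀ p, p ∉ D.pts l → h • p ≠ p)

theorem isElation_conj (hinv : ∀ (g : G) p l, g • p ∈ D.pts (g • l) ↔ p ∈ D.pts l) {l : G ⧸ H}
    {h : G} (hh : IsElation D l h) (g : G) : IsElation D (g • l) (g * h * g⁻¹) := by
  refine ⟨fun p hp => ?_, hh.2.imp (fun e => by rw [e, mul_one, mul_inv_cancel]) fun hf p hp e => ?_⟩
  · obtain ⟨p, rfl⟩ := MulAction.surjective g p
    rw [mul_smul, mul_smul, inv_smul_smul, hh.1 p ((hinv g p l).1 hp)]
  · obtain ⟨p, rfl⟩ := MulAction.surjective g p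
    rw [mul_smul, mul_smul, inv_smul_smul, smul_left_cancel_iff] at e
    exact hf p (fun h' => hp ((hinv g p l).2 h')) e

/-- An element fixing two points off its axis is trivial. -/
theorem eq_one_of_fixed_two [FaithfulSMul G Ω]
    (hinv : ∀ (g : G) p l, g • p ∈ D.pts (g • l) ↔ p ∈ D.pts l) {l : G ⧸ H} {h : G}
    (hh : ∀ p ∈ D.pts l, h • p = p) {a b : Ω} (hab : a ≠ b) (ha : a ∉ D.pts l) (hb : b ∉ D.pts l)
    (hha : h • a = a) (hhb : h • b = b) : h = 1 := by
  refine FaithfulSMul.eq_of_smul_eq_smul (α := Ω) fun x => ?_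
  rw [one_smul]
  by_contra hx
  exact hab (Aut.Axis.eq_of_fixed_out (A := ⟨MulAction.toPerm h, MulAction.toPerm h, hinv h⟩)
    (B := l) hh hx hha hhb ha hb)

/-- Elations of the base block form a nontrivial subgroup. -/
theorem exists_base_elations [FaithfulSMul G Ω]
    (hinv : ∀ (g : G) p l, g • p ∈ D.pts (g • l) ↔ p ∈ D.pts l) (l₀ : G ⧸ H)
    (hl₀ : l₀ = ((1 : G) : G ⧸ H)) (htr : ∀ p, p ∉ D.pts l₀ → ∀ q, q ∉ D.pts l₀ → ∃ h ∈ H, h • p = q)
    (hout : ∃ p q, p ∉ D.pts l₀ ∧ q ∉ D.pts l₀ ∧ p ≠ q) (hne : ∃ h : G, h ≠ 1 ∧ ∀ p ∈ D.pts l₀, h • p = p) :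
    ∃ K : Subgroup G, (∀ h, h ∈ K ↔ IsElation D l₀ h) ∧ K ≠ ⊥ := by
  classical
  set K₁ := fixingSubgroup G ((D.pts l₀ : Finset Ω) : Set Ω) with hK₁
  have hmem : ∀ h, h ∈ K₁ ↔ ∀ p ∈ D.pts l₀, h • p = p := fun h => mem_fixingSubgroup_iff G
  by_cases hfix : ∀ h ∈ K₁, h ≠ 1 → ∀ p, p ∉ D.pts l₀ → h • p ≠ p
  · refine ⟨K₁, fun h => ⟨fun hh => ⟨(hmem h).1 hh, or_iff_not_imp_left.2 (hfix h hh)⟩,
      fun hh => (hmem h).2 hh.1⟩, fun e => ?_⟩
    obtain ⟨h, h1, hh⟩ := hne
    exact h1 (Subgroup.mem_bot.1 (e ▸ (hmem h).2 hh))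
  push Not at hfix
  obtain ⟨h₀, hh₀, h₀1, a, ha, hh₀a⟩ := hfix
  set O := {p : Ω // p ∉ D.pts l₀} with hO
  have hH : ∀ h ∈ K₁, ∀ g ∈ H, g * h * g⁻¹ ∈ K₁ := by
    intro h hh g hg
    rw [hmem]
    have hgl : g • l₀ = l₀ := by
      rw [hl₀, MulAction.Quotient.smul_mk, smul_eq_mul, mul_one]
      exact QuotientGroup.eq.2 (by simpa using hg)
    intro p hp
    obtain ⟨p, rfl⟩ := MulAction.surjective g p
    have : p ∈ D.pts l₀ := (hinv g p l₀).1 (by rw [hgl]; exact hp)
    rw [mul_smul, mul_smul, inv_smul_smul, (hmem h).1 hh p this]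
  have hoff : ∀ h : K₁, ∀ p : O, (h : G) • (p : Ω) ∉ D.pts l₀ := fun h p e => p.2 (by
    have e' := (hmem (h : G)).1 h.2 _ e
    rw [smul_left_cancel_iff] at e'
    rw [← e']; exact e)
  letI : MulAction K₁ O :=
    { smul := fun h p => ⟨(h : G) • (p : Ω), hoff h p⟩
      one_smul := fun p => Subtype.ext (one_smul G (p : Ω))
      mul_smul := fun h h' p => Subtype.ext (mul_smul (h : G) (h' : G) (p : Ω)) }
  have hsm : ∀ (h : K₁) (p : O), ((h • p : O) : Ω) = (h : G) • (p : Ω) := fun _ _ => rfl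
  set A := MulAction.stabilizer K₁ (⟨a, ha⟩ : O) with hA
  have hAmem : ∀ h : K₁, h ∈ A ↔ (h : G) • a = a := fun h =>
    MulAction.mem_stabilizer_iff.trans Subtype.ext_iff
  have htwo : ∀ (h : K₁) (p q : O), p ≠ q → h • p = p → h • q = q → h = 1 := fun h p q hpq hp hq =>
    Subtype.ext (eq_one_of_fixed_two hinv ((hmem _).1 h.2) (fun e => hpq (Subtype.ext e)) p.2 q.2
      (congrArg Subtype.val hp) (congrArg Subtype.val hq))
  set m := Nat.card A with hm
  have hstab : ∀ p : O, Nat.card (MulAction.stabilizer K₁ p) = m := by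
    intro p
    obtain ⟨g, hg, hgp⟩ := htr a ha p p.2
    let f : A → MulAction.stabilizer K₁ p := fun h =>
      ⟨⟨g * (h : K₁) * g⁻¹, hH _ (h : K₁).2 g hg⟩, Subtype.ext (by
        show (g * ((h : K₁) : G) * g⁻¹) • (p : Ω) = p
        rw [← hgp, mul_smul, mul_smul, inv_smul_smul, (hAmem _).1 h.2])⟩
    let f' : MulAction.stabilizer K₁ p → A := fun h =>
      ⟨⟨g⁻¹ * (h : K₁) * g, by simpa using hH _ (h : K₁).2 g⁻¹ (inv_mem hg)⟩, (hAmem _).2 (by
        show (g⁻¹ * ((h : K₁) : G) * g) • a = a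
        rw [mul_smul, mul_smul, hgp, show ((h : K₁) : G) • (p : Ω) = p from
          congrArg Subtype.val (h.2 : (h : K₁) • p = p), ← hgp, inv_smul_smul])⟩
    exact (Nat.card_congr
      ⟨f, f', fun h => by ext; simp [f, f', mul_assoc], fun h => by ext; simp [f, f', mul_assoc]⟩).symm
  have hm2 : 2 ≤ m := by
    have : A ≠ ⊥ := by
      intro e
      have h1 : (⟨h₀, hh₀⟩ : K₁) ∈ A := (hAmem _).2 hh₀a
      rw [e, Subgroup.mem_bot, Subtype.ext_iff] at h1
      exact h₀1 h1
    exact Subgroup.one_lt_card_iff_ne_bot A |>.2 this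
  haveI := Fintype.ofFinite K₁
  have hcount : Fintype.card O * (m - 1) ≤ Nat.card K₁ - 1 := by
    let f : (Σ p : O, {h : MulAction.stabilizer K₁ p // h ≠ 1}) → {h : K₁ // h ≠ 1} :=
      fun x => ⟨(x.2.1 : K₁), fun e => x.2.2 (Subtype.ext e)⟩
    have hf : Function.Injective f := by
      rintro ⟨p, ⟨h, hh⟩, h1⟩ ⟨q, ⟨h', hh'⟩, h1'⟩ e
      have e' : h = h' := congrArg Subtype.val e
      subst e'
      obtain rfl : p = q := by
        by_contra hpq
        exact h1 (Subtype.ext (htwo h p q hpq hh hh'))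
      rfl
    have h := Nat.card_le_card_of_injective f hf
    rw [Nat.card_sigma, Finset.sum_congr rfl (g := fun _ => m - 1) fun p _ => ?_, Finset.sum_const,
      smul_eq_mul, Finset.card_univ] at h
    · refine h.trans (le_of_eq ?_)
      rw [Nat.card_eq_fintype_card, Fintype.card_subtype_compl, Fintype.card_subtype_eq,
        ← Nat.card_eq_fintype_card]
    · rw [Nat.card_eq_fintype_card, Fintype.card_subtype_compl, Fintype.card_subtype_eq,
        ← Nat.card_eq_fintype_card, hstab p]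
  have horb : ∀ p : O, Nat.card (MulAction.orbit K₁ p) * m = Nat.card K₁ := fun p => by
    rw [← hstab p, Nat.card_coe_set_eq, ← MulAction.index_stabilizer]
    exact Subgroup.index_mul_card _
  have htrK : ∀ p : O, p ∈ MulAction.orbit K₁ (⟨a, ha⟩ : O) := by
    by_contra hc
    push Not at hc
    obtain ⟨q, hq⟩ := hc
    have hd : Disjoint (MulAction.orbit K₁ (⟨a, ha⟩ : O)) (MulAction.orbit K₁ q) := by
      rw [Set.disjoint_left]
      intro z hz hz'
      refine hq ?_
      rw [← MulAction.orbit_eq_iff.2 hz, MulAction.orbit_eq_iff.2 hz']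
      exact MulAction.mem_orbit_self q
    have h1 : Nat.card (MulAction.orbit K₁ (⟨a, ha⟩ : O)) + Nat.card (MulAction.orbit K₁ q) ≤
        Fintype.card O := by
      rw [Nat.card_coe_set_eq, Nat.card_coe_set_eq, ← Set.ncard_union_eq hd, ← Nat.card_eq_fintype_card]
      exact Set.ncard_le_card _
    have e1 := horb ⟨a, ha⟩
    have e2 := horb q
    have h3 := Nat.mul_le_mul_right m h1
    rw [add_mul, e1, e2] at h3
    have h4 : 0 < Nat.card K₁ := Nat.card_pos
    obtain ⟨j, hj⟩ : ∃ j, m = j + 2 := ⟨_, (Nat.sub_add_cancel hm2).symm⟩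
    rw [hj] at h3 hcount
    simp only [show j + 2 - 1 = j + 1 by omega] at hcount
    nlinarith [Nat.mul_le_mul_left (Fintype.card O) (show j + 2 ≤ 2 * (j + 1) by omega),
      Nat.sub_add_cancel h4]
  have htrK' : ∀ p : O, ∃ g : K₁, g • (⟨a, ha⟩ : O) = p := fun p => htrK p
  obtain ⟨N, hN, hcomp, hNmem⟩ := Char.frobenius_kernel A (by
    intro g hg h hh hc
    by_contra h1
    refine hg (MulAction.mem_stabilizer_iff.2 ?_)
    by_contra hga
    refine h1 (htwo h ⟨a, ha⟩ (g⁻¹ • ⟨a, ha⟩) (fun e => hga ?_) hh ?_)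
    · conv_lhs => rw [e]
      rw [smul_inv_smul]
    · have hc' : (g * h * g⁻¹) • (⟨a, ha⟩ : O) = ⟨a, ha⟩ := hc
      rw [mul_smul, mul_smul, smul_eq_iff_eq_inv_smul] at hc'
      exact hc')
  have hfree : ∀ g : K₁, (∀ x : K₁, x⁻¹ * g * x ∉ A) ↔ ∀ p, p ∉ D.pts l₀ → (g : G) • p ≠ p := by
    intro g
    constructor
    · intro hg p hp e
      obtain ⟨x, hx⟩ := htrK' ⟨p, hp⟩
      refine hg x (MulAction.mem_stabilizer_iff.2 ?_)
      rw [mul_smul, mul_smul, hx, show g • (⟨p, hp⟩ : O) = ⟨p, hp⟩ from Subtype.ext e, ← hx,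
        inv_smul_smul]
    · intro hg x hx
      have hx' : (x⁻¹ * g * x) • (⟨a, ha⟩ : O) = ⟨a, ha⟩ := hx
      rw [mul_smul, mul_smul, inv_smul_eq_iff] at hx'
      exact hg _ (x • (⟨a, ha⟩ : O)).2 (congrArg Subtype.val hx')
  refine ⟨N.map K₁.subtype, fun h => ⟨?_, ?_⟩, ?_⟩
  · rintro ⟨g, hg, rfl⟩
    refine ⟨(hmem _).1 g.2, ?_⟩
    rcases (hNmem g).1 hg with e | e
    · exact Or.inl (by rw [e]; rfl)
    · exact Or.inr ((hfree g).1 e)
  · rintro ⟨h1, h2⟩
    exact ⟨⟨h, (hmem h).2 h1⟩, (hNmem _).2 (h2.imp (fun e => Subtype.ext e)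
      fun e => (hfree _).2 e), rfl⟩
  · rw [ne_eq, Subgroup.map_eq_bot_iff_of_injective _ K₁.subtype_injective]
    intro e
    rw [e] at hcomp
    obtain ⟨p, q, hp, hq, hpq⟩ := hout
    obtain ⟨g, hg⟩ := htrK' ⟨p, hp⟩
    obtain ⟨g', hg'⟩ := htrK' ⟨q, hq⟩
    have hg2 : g ∈ A := Subgroup.isComplement'_bot_left.1 hcomp ▸ Subgroup.mem_top g
    have hg2' : g' ∈ A := Subgroup.isComplement'_bot_left.1 hcomp ▸ Subgroup.mem_top g'
    exact hpq (congrArg Subtype.val ((hg.symm.trans hg2).trans (hg'.symm.trans hg2').symm))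

/-- **The elation structure** of a doubly transitive group with an intransitive subgroup of index
the degree which is not semifaithful on an orbit. -/
theorem exists_elations {G Ω : Type*} [Group G] [Finite G] [MulAction G Ω] [FaithfulSMul G Ω]
    [Fintype Ω] [DecidableEq Ω] (h2 : MulAction.IsMultiplyPretransitive G Ω 2) (H : Subgroup G)
    [Fintype (G ⧸ H)] [DecidableEq (G ⧸ H)] (hidx : H.index = Nat.card Ω)
    (hnt : ¬ MulAction.IsPretransitive H Ω) (hfix : ∀ a : Ω, ∃ h : H, h • a ≠ a)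
    (hunf : ∃ a : Ω, ∃ h : H, h ≠ 1 ∧ ∀ b ∈ MulAction.orbit H a, h • b = b) :
    ∃ D : Design Ω (G ⧸ H), Nonempty (Elations G D) := by
  classical
  obtain ⟨a, h₁, h₁1, hh₁⟩ := hunf
  set B : Set Ω := MulAction.orbit H a with hBdef
  have hB : ∀ h ∈ H, ∀ x ∈ B, h • x ∈ B := fun h hh x hx => by
    rw [hBdef, ← MulAction.orbit_eq_iff.2 hx]; exact ⟨⟨h, hh⟩, rfl⟩
  have hQ := S3704.result h2 H hidx hnt hfix
  have htrO : ∀ p, p ∉ B → ∀ q, q ∉ B → ∃ h ∈ H, h • p = q := by
    intro p hp q hq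
    haveI := Fintype.ofFinite (MulAction.orbitRel.Quotient H Ω)
    have hne : ∀ x, x ∉ B → (Quotient.mk'' x : MulAction.orbitRel.Quotient H Ω) ≠ Quotient.mk'' a :=
      fun x hx e => hx (Quotient.eq''.1 e)
    have hpq : (Quotient.mk'' p : MulAction.orbitRel.Quotient H Ω) = Quotient.mk'' q := by
      by_contra hpq
      have := Fintype.two_lt_card_iff.2 ⟨_, _, _, hpq, hne p hp, hne q hq⟩
      rw [← Nat.card_eq_fintype_card] at this
      have e2 : Nat.card (MulAction.orbitRel.Quotient H Ω) ≤ 2 := hQ.le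
      exact absurd this (not_lt.2 e2)
    obtain ⟨⟨h, hh⟩, e⟩ := Quotient.eq''.1 hpq.symm
    exact ⟨h, hh, e⟩
  obtain ⟨h, hha⟩ := hfix a
  have hk : 2 ≤ B.ncard :=
    (Set.one_lt_ncard (Set.toFinite _)).2
      ⟨_, ⟨h, rfl⟩, a, MulAction.mem_orbit_self a, hha⟩
  obtain ⟨b, hb⟩ : ∃ b, b ∉ B := by
    by_contra hc
    push Not at hc
    refine hnt ⟨fun x y => ?_⟩
    have hy := hc y
    rw [hBdef, ← MulAction.orbit_eq_iff.2 (hc x)] at hy
    exact hy
  obtain ⟨h', hh'b⟩ := hfix b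
  have hb' : (h' : G) • b ∉ B := fun e => hb (by
    simpa using hB _ (inv_mem h'.2) _ e)
  have hkn : B.ncard + 2 ≤ Nat.card Ω := by
    have h3 : 2 ≤ Bᶜ.ncard := (Set.one_lt_ncard (Set.toFinite _)).2 ⟨_, hb', b, hb, hh'b⟩
    have := Set.ncard_add_ncard_compl B
    omega
  obtain ⟨D, hD⟩ := exists_design h2 hidx hB hk hkn
  have hinv : ∀ (g : G) p l, g • p ∈ D.pts (g • l) ↔ p ∈ D.pts l := fun g p l => by
    rw [hD, hD]; exact mem_blkPts_smul g l p
  set l₀ : G ⧸ H := ((1 : G) : G ⧸ H) with hl₀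
  have hl₀B : ∀ p, p ∈ D.pts l₀ ↔ p ∈ B := fun p => by
    rw [hD, hl₀, mem_blkPts_mk hB, inv_one, one_smul]
  have hHl₀ : ∀ g : G, g • l₀ = l₀ ↔ g ∈ H := fun g => by
    rw [hl₀, MulAction.Quotient.smul_mk, smul_eq_mul, mul_one, QuotientGroup.eq, mul_one,
      Subgroup.inv_mem_iff]
  obtain ⟨K, hK, hK1⟩ := exists_base_elations hinv l₀ hl₀
    (fun p hp q hq => htrO p (fun e => hp ((hl₀B p).2 e)) q (fun e => hq ((hl₀B q).2 e)))
    ⟨_, b, fun e => hb' ((hl₀B _).1 e), fun e => hb ((hl₀B _).1 e), hh'b⟩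
    ⟨h₁, fun e => h₁1 (Subtype.ext e), fun p hp => hh₁ p ((hl₀B p).1 hp)⟩
  have hsurj : ∀ l : G ⧸ H, ∃ g : G, g • l₀ = l := fun l => by
    obtain ⟨g, rfl⟩ := QuotientGroup.mk_surjective l
    exact ⟨g, by rw [hl₀, MulAction.Quotient.smul_mk, smul_eq_mul, mul_one]⟩
  have hback : ∀ l (g : G), g • l₀ = l → ∀ x, IsElation D l x ↔ g⁻¹ * x * g ∈ K := by
    intro l g hg x
    rw [hK]
    constructor
    · intro hx
      have := isElation_conj hinv hx g⁻¹
      rwa [inv_inv, ← hg, inv_smul_smul] at this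
    · intro hx
      have := isElation_conj hinv hx g
      rwa [hg, show g * (g⁻¹ * x * g) * g⁻¹ = x by group] at this
  choose γ hγ using hsurj
  let Kf : G ⧸ H → Subgroup G := fun l => K.map (MulAut.conj (γ l)).toMonoidHom
  have hKf : ∀ l x, x ∈ Kf l ↔ IsElation D l x := fun l x => by
    rw [hback l _ (hγ l), Subgroup.mem_map_equiv, MulAut.conj_symm_apply]
  -- transitivity of the stabiliser on the other blocks
  have htrL : ∀ l m : G ⧸ H, l ≠ l₀ → m ≠ l₀ → ∃ h ∈ H, h • l = m := by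
    haveI := Fintype.ofFinite H
    haveI := Fintype.ofFinite (MulAction.orbitRel.Quotient H Ω)
    haveI := Fintype.ofFinite (MulAction.orbitRel.Quotient H (G ⧸ H))
    have hb1 := MulAction.sum_card_fixedBy_eq_card_orbits_mul_card_group H Ω
    have hb2 := MulAction.sum_card_fixedBy_eq_card_orbits_mul_card_group H (G ⧸ H)
    have e : ∀ x : H, Fintype.card (MulAction.fixedBy Ω x) =
        Fintype.card (MulAction.fixedBy (G ⧸ H) x) := fun x => by
      have := (⟨MulAction.toPerm (x : G), MulAction.toPerm (x : G), hinv x⟩ : Aut D).card_fix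
      rw [← Set.toFinset_card, ← Set.toFinset_card]
      convert this using 2 <;> ext y <;> simp [Aut.fixP, Aut.fixL] <;> rfl
    rw [Finset.sum_congr rfl fun x _ => e x, hb2] at hb1
    have hc : Fintype.card (MulAction.orbitRel.Quotient H (G ⧸ H)) = 2 := by
      rw [← hQ, Nat.card_eq_fintype_card]
      exact Nat.eq_of_mul_eq_mul_right Fintype.card_pos hb1
    intro l m hl hm
    have hne : ∀ x, x ≠ l₀ → (Quotient.mk'' x : MulAction.orbitRel.Quotient H (G ⧸ H)) ≠
        Quotient.mk'' l₀ := fun x hx e => hx (by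
      obtain ⟨⟨g, hg⟩, rfl⟩ := Quotient.eq''.1 e
      exact (hHl₀ g).2 hg)
    have hlm : (Quotient.mk'' l : MulAction.orbitRel.Quotient H (G ⧸ H)) = Quotient.mk'' m := by
      by_contra hlm
      have := Fintype.two_lt_card_iff.2 ⟨_, _, _, hlm, hne l hl, hne m hm⟩
      rw [← Nat.card_eq_fintype_card] at this
      rw [← Nat.card_eq_fintype_card] at hc
      exact absurd this (not_lt.2 hc.le)
    obtain ⟨⟨g, hg⟩, e'⟩ := Quotient.eq''.1 hlm.symm
    exact ⟨g, hg, e'⟩
  exact ⟨D, ⟨{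
    K := Kf
    inv := hinv
    axis := fun l x hx => ((hKf l x).1 hx).1
    semireg := fun l x hx p hp e => ((hKf l x).1 hx).2.resolve_right fun hf => hf p hp e
    conj := fun g l x hx => (hKf _ _).2 (isElation_conj hinv ((hKf l x).1 hx) g)
    nontriv := fun l => by
      obtain ⟨x, hx, hx1⟩ := Subgroup.ne_bot_iff_exists_ne_one.1 (show Kf l ≠ ⊥ by
        rw [ne_eq, Subgroup.map_eq_bot_iff_of_injective _ (MulAut.conj (γ l)).injective]
        exact hK1) |> fun ⟨⟨x, hx⟩, hx1⟩ => (⟨x, hx, fun e => hx1 (Subtype.ext e)⟩ :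
          ∃ x, x ∈ Kf l ∧ x ≠ 1)
      exact ⟨x, hx, hx1⟩
    two := fun l m l' m' hlm hlm' => by
      have key : ∀ l m, l ≠ m → ∃ x : G, x • l₀ = l ∧ (x⁻¹ • m) ≠ l₀ := fun l m hlm =>
        ⟨γ l, hγ l, fun e => hlm (by rw [← hγ l, ← e, smul_inv_smul])⟩
      obtain ⟨x, hx, hxm⟩ := key l m hlm
      obtain ⟨y, hy, hym⟩ := key l' m' hlm'
      obtain ⟨h, hh, hhm⟩ := htrL _ _ hxm hym
      refine ⟨y * h * x⁻¹, ?_, ?_⟩
      · rw [mul_smul, mul_smul, ← hx, inv_smul_smul, (hHl₀ h).2 hh, hy]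
      · rw [mul_smul, mul_smul, hhm, smul_inv_smul]
    flag := fun l p hp q hq => by
      have hp' : (γ l)⁻¹ • p ∈ B := (hl₀B _).1 (by rw [← hinv (γ l), smul_inv_smul, hγ]; exact hp)
      have hq' : (γ l)⁻¹ • q ∈ B := (hl₀B _).1 (by rw [← hinv (γ l), smul_inv_smul, hγ]; exact hq)
      rw [hBdef, ← MulAction.orbit_eq_iff.2 hp'] at hq'
      obtain ⟨⟨h, hh⟩, e⟩ := hq'
      refine ⟨γ l * h * (γ l)⁻¹, ?_, ?_⟩
      · rw [mul_smul, mul_smul, show (γ l)⁻¹ • l = l₀ from inv_smul_eq_iff.2 (hγ l).symm,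
          (hHl₀ h).2 hh, hγ]
      · rw [mul_smul, mul_smul]
        exact eq_inv_smul_iff.1 e }⟩⟩

end Cfsg.Agent.ItoDesign
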