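import Cfsg.Agent.ItoDesign.Centre
import Cfsg.Agent.ItoDesign.Frame

/-!
The axial group of a block, as a spread with all shears.
-/

set_option autoImplicit false
set_option linter.unusedSectionVars false

namespace Cfsg.Agent.ItoDesign

open Finset

variable {P L : Type*} [Fintype P] [Fintype L] [DecidableEq P] [DecidableEq L]

namespace Elations

variable {G : Type*} [Group G] [Finite G] [MulAction G P] [MulAction G L] {D : Design P L}
  (E : Elations G D)

/-- An elation moves a point to any prescribed point on the line through its centre. -/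
theorem exists_same_centre {B C : L} {q x : P} (hqC : q ∈ D.pts C) {w : G} (hw : w ∈ E.Pt B q)
    (hw1 : w ≠ 1) (hxB : x ∉ D.pts B) (hxC : x ∉ D.pts C) :
    ∃ t ∈ E.Pt C q, t • x = w • x := by
  have hwC : w • C = C := hw.2 C hqC
  have hx' : w • x ∉ D.pts C := fun h => hxC ((E.inv w x C).1 (hwC.symm ▸ h))
  obtain ⟨t, ht, htx⟩ := E.exists_smul_eq hxC hx'
  have hne : w • x ≠ x := fun h => hw1 (E.semireg B w hw.1 x hxB h)
  have ht1 : t ≠ 1 := by
    rintro rfl
    rw [one_smul] at htx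
    exact hne htx.symm
  obtain ⟨s, -, hts⟩ := E.exists_mem_Pt ht ht1
  suffices q = s from ⟨t, this ▸ hts, htx⟩
  by_contra hqs
  have hxq : x ≠ q := fun h => hxC (h ▸ hqC)
  have hsub : D.blks q ∩ D.blks x ⊆ D.blks q ∩ D.blks s := by
    intro l hl
    simp only [Finset.mem_inter, Design.mem_blks] at hl ⊢
    refine ⟨hl.1, (E.fix_iff hts ht1 l).1 ?_⟩
    have h2 : (E.aut w).σ x ∈ D.pts l := ((E.aut w).σ_mem (hw.2 l hl.1)).2 hl.2
    refine (E.axis_aut ht).block_fixed (x := x) ?_ hl.2 ?_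
    · rw [aut_σ, htx]; exact hne
    · rw [aut_σ, htx]; exact h2
  have he := Finset.eq_of_subset_of_card_le hsub
    (by rw [D.card_blks_inter hqs, D.card_blks_inter (Ne.symm hxq)])
  have hC : C ∈ D.blks q ∩ D.blks s := by
    simp only [Finset.mem_inter, Design.mem_blks]
    exact ⟨hqC, (E.fix_iff hts ht1 C).1 (E.smul_axis ht)⟩
  rw [← he] at hC
  exact hxC (D.mem_blks.1 (Finset.mem_inter.1 hC).2)

include E in
theorem exists_block {B : L} {o p q : P} (hpB : p ∈ D.pts B) (hqB : q ∈ D.pts B) (ho : o ∉ D.pts B)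
    (hpq : p ≠ q) : ∃ C, o ∈ D.pts C ∧ q ∈ D.pts C ∧ p ∉ D.pts C := by
  by_contra hc
  push Not at hc
  have hoq : o ≠ q := fun h => ho (h ▸ hqB)
  have hsub : D.blks o ∩ D.blks q ⊆ D.blks p ∩ D.blks q := fun l hl => by
    simp only [Finset.mem_inter, Design.mem_blks] at hl ⊢
    exact ⟨hc l hl.1 hl.2, hl.2⟩
  have he := Finset.eq_of_subset_of_card_le hsub
    (by rw [D.card_blks_inter hpq, D.card_blks_inter hoq])
  have hB : B ∈ D.blks p ∩ D.blks q := by simp [hpB, hqB]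
  rw [← he] at hB
  exact ho (D.mem_blks.1 (Finset.mem_inter.1 hB).1)

/-- The conjugation commutator by an element fixing an axis. -/
def shearMap (B : L) (t : G) (ht : t • B = B) : ↥(E.K B) →* ↥(E.K B) where
  toFun u := ⟨t * u * t⁻¹ * (u : G)⁻¹, mul_mem (E.conj_of_fixed ht u.2) (inv_mem u.2)⟩
  map_one' := Subtype.ext (by simp)
  map_mul' u v := Subtype.ext (by
    show t * ((u : G) * v) * t⁻¹ * ((u : G) * v)⁻¹ =
      t * u * t⁻¹ * (u : G)⁻¹ * (t * v * t⁻¹ * (v : G)⁻¹)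
    have h := E.commute (inv_mem u.2) (mul_mem (E.conj_of_fixed ht v.2) (inv_mem v.2))
    calc t * ((u : G) * v) * t⁻¹ * ((u : G) * v)⁻¹
        = t * u * t⁻¹ * (t * v * t⁻¹ * (v : G)⁻¹ * (u : G)⁻¹) := by group
      _ = t * u * t⁻¹ * ((u : G)⁻¹ * (t * v * t⁻¹ * (v : G)⁻¹)) := by rw [h]
      _ = _ := by group)

theorem shearMap_apply (B : L) (t : G) (ht : t • B = B) (u : ↥(E.K B)) :
    (E.shearMap B t ht u : G) = t * u * t⁻¹ * (u : G)⁻¹ := rfl

theorem exists_shear {B : L} {o p q : P} (ho : o ∉ D.pts B) (hp : p ∈ D.pts B) (hq : q ∈ D.pts B)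
    (hpq : p ≠ q) {v w : ↥(E.K B)} (hv : (v : G) ∈ E.Pt B p) (hv1 : v ≠ 1)
    (hw : (w : G) ∈ E.Pt B q) :
    ∃ η : ↥(E.K B) →* ↥(E.K B), (∀ u, (η u : G) ∈ E.Pt B q) ∧
      (∀ u : ↥(E.K B), (u : G) ∈ E.Pt B q → η u = 1) ∧ η v = w ∧
      ∀ r ∈ D.pts B, ∃ r' ∈ D.pts B, ∀ u : ↥(E.K B), (u : G) ∈ E.Pt B r → (u * η u : G) ∈ E.Pt B r' := by
  by_cases hw1 : w = 1
  · subst hw1
    exact ⟨1, fun _ => one_mem _, fun _ _ => rfl, rfl, fun r hr => ⟨r, hr, fun u hu => by simpa using hu⟩⟩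
  obtain ⟨C, hoC, hqC, hpC⟩ := E.exists_block hp hq ho hpq
  have hBC : B ≠ C := fun h => hpC (h ▸ hp)
  have hv1' : (v : G) ≠ 1 := fun h => hv1 (Subtype.ext h)
  have hvo : (v : G) • o ∉ D.pts C := by
    intro h
    refine hpC ((E.fix_iff hv hv1' C).1 ?_)
    exact (E.axis_aut hv.1).block_fixed (x := o) (fun e => hv1' (E.semireg B v hv.1 o ho e)) hoC h
  have hvoB : (v : G) • o ∉ D.pts B := fun h => ho ((E.inv (v : G) o B).1 ((E.smul_axis hv.1).symm ▸ h))
  obtain ⟨t, ht, htx⟩ := E.exists_same_centre hqC hw (fun h => hw1 (Subtype.ext h)) hvoB hvo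
  have htB : t • B = B := ht.2 B hq
  refine ⟨E.shearMap B t htB, fun u => ?_, fun u hu => ?_, ?_, fun r hr => ?_⟩
  · refine ⟨(E.shearMap B t htB u).2, fun l hl => ?_⟩
    rw [shearMap_apply]
    have h1 : q ∈ D.pts ((u : G)⁻¹ • l) := by
      rw [← E.inv (u : G), E.axis B u u.2 q hq, smul_inv_smul]
      exact hl
    rw [mul_smul, mul_smul, mul_smul, inv_smul_eq_iff.2 (ht.2 _ h1).symm, smul_inv_smul, ht.2 l hl]
  · refine Subtype.ext ?_
    have h1 : t * (u : G) * t⁻¹ * (u : G)⁻¹ ∈ E.K C := by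
      have h2 := E.conj_of_fixed (g := (u : G)) (hu.2 C hqC) (inv_mem ht.1)
      simpa [mul_assoc] using mul_mem ht.1 h2
    obtain ⟨y, hy, hyB⟩ : ∃ y ∈ D.pts C, y ∉ D.pts B := ⟨o, hoC, ho⟩
    exact E.semireg B _ (E.shearMap B t htB u).2 y hyB (E.axis C _ h1 y hy)
  · refine Subtype.ext ?_
    have h1 : t * (v : G) * t⁻¹ ∈ E.K B := E.conj_of_fixed htB v.2
    have h2 : t * (v : G) * t⁻¹ = (w : G) * v := by
      refine E.eq_of_smul_eq h1 (mul_mem w.2 v.2) ho ?_
      rw [mul_smul, mul_smul, mul_smul, inv_smul_eq_iff.2 (E.axis C t ht.1 o hoC).symm, htx]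
    rw [shearMap_apply, h2, mul_inv_cancel_right]
  · refine ⟨t • r, ?_, fun u hu => ?_⟩
    · rw [← htB, E.inv]; exact hr
    · rw [E.commute u.2 (E.shearMap B t htB u).2, shearMap_apply, inv_mul_cancel_right]
      have := E.conj_Pt t hu
      rwa [htB] at this

/-- The axial group is commutative. -/
@[implicit_reducible] def commGroupK (B : L) : CommGroup ↥(E.K B) :=
  { (inferInstance : Group ↥(E.K B)) with mul_comm := fun a b => Subtype.ext (E.commute a.2 b.2) }

/-- The spread of an axial group. -/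
noncomputable def spread (B : L) (o : P) (ho : o ∉ D.pts B) :
    letI := E.commGroupK B
    TSpread {p // p ∈ D.pts B} (Additive ↥(E.K B)) :=
  letI := E.commGroupK B
  { P := fun p => ((E.Pt B p).subgroupOf (E.K B)).toAddSubgroup
    two_le := fun p => by
      obtain ⟨C, hC⟩ := E.exists_ne B
      have h := (E.params (Ne.symm hC) p.2).1
      have h2 := (E.two_le (Ne.symm hC)).2
      refine le_of_le_of_eq (h ▸ h2 : 2 ≤ Nat.card ↥(E.Pt B p)) ?_
      exact Nat.card_congr (Subgroup.subgroupOfEquivOfLe (E.Pt_le B p)).symm.toEquiv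
    card_eq := fun p q => by
      refine Eq.trans ?_ ((E.card_Pt_eq p.2 q.2).trans ?_)
      · exact Nat.card_congr (Subgroup.subgroupOfEquivOfLe (E.Pt_le B p)).toEquiv
      · exact Nat.card_congr (Subgroup.subgroupOfEquivOfLe (E.Pt_le B q)).symm.toEquiv
    cover := fun v => by
      by_cases hv : Additive.toMul v = 1
      · have hk := D.lam_lt
        obtain ⟨p, hp⟩ : (D.pts B).Nonempty := Finset.card_pos.1 (by rw [D.blk]; omega)
        exact ⟨⟨p, hp⟩, by
          show ((Additive.toMul v : ↥(E.K B)) : G) ∈ E.Pt B p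
          rw [hv]; exact one_mem _⟩
      · obtain ⟨p, hp, hvp⟩ := E.exists_mem_Pt (Additive.toMul v).2 fun h => hv (Subtype.ext h)
        exact ⟨⟨p, hp⟩, hvp⟩
    disjoint := fun p q hpq v hvp hvq => by
      by_contra hv
      exact hpq (Subtype.ext (E.centre_unique (h := ((Additive.toMul v : ↥(E.K B)) : G)) hvp hvq
        fun h => hv (congrArg Additive.ofMul (Subtype.ext h : Additive.toMul v = 1))))
    shear := fun p q hpq v hv hv0 w hw => by
      obtain ⟨η, h1, h2, h3, h4⟩ := E.exists_shear ho p.2 q.2 (fun h => hpq (Subtype.ext h))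
        (v := Additive.toMul v) (w := Additive.toMul w) hv (fun h => hv0 (congrArg Additive.ofMul h)) hw
      refine ⟨MonoidHom.toAdditive η, fun u => h1 _, fun u hu => congrArg Additive.ofMul (h2 _ hu),
        congrArg Additive.ofMul h3, fun i => ?_⟩
      obtain ⟨r', hr', h⟩ := h4 i i.2
      exact ⟨⟨r', hr'⟩, fun u hu => h _ hu⟩
    pair := by
      have hk := D.lam_lt
      obtain ⟨p, hp, q, hq, hpq⟩ := Finset.one_lt_card.1 (show 1 < (D.pts B).card by rw [D.blk]; omega)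
      exact ⟨⟨p, hp⟩, ⟨q, hq⟩, fun h => hpq (congrArg Subtype.val h)⟩ }

end Elations

end Cfsg.Agent.ItoDesign
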