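import Mathlib

/-!
Spreads of an abelian group with enough shears: the groups of shear maps and their composition.
-/

set_option autoImplicit false
set_option linter.unusedSectionVars false

namespace Cfsg.Agent.ItoDesign

/-- A partition of an abelian group by subgroups of equal order, with all shears. -/
structure TSpread (ι V : Type*) [AddCommGroup V] where
  P : ι → AddSubgroup V
  two_le : ∀ i, 2 ≤ Nat.card ↥(P i)
  card_eq : ∀ i j, Nat.card ↥(P i) = Nat.card ↥(P j)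
  cover : ∀ v, ∃ i, v ∈ P i
  disjoint : ∀ i j, i ≠ j → ∀ v ∈ P i, v ∈ P j → v = 0
  shear : ∀ p q, p ≠ q → ∀ v ∈ P p, v ≠ 0 → ∀ w ∈ P q, ∃ η : V →+ V,
    (∀ u, η u ∈ P q) ∧ (∀ u ∈ P q, η u = 0) ∧ η v = w ∧ ∀ i, ∃ j, ∀ u ∈ P i, u + η u ∈ P j
  pair : ∃ i j : ι, i ≠ j

namespace TSpread

variable {ι V : Type*} [AddCommGroup V] [Finite V] (T : TSpread ι V)

theorem exists_ne_zero (p : ι) : ∃ v : ↥(T.P p), v ≠ 0 := by
  have : Nontrivial ↥(T.P p) := Finite.one_lt_card_iff_nontrivial.1 (T.two_le p)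
  exact exists_ne 0

theorem eq_of_mem {i j : ι} {v : V} (hv : v ≠ 0) (hi : v ∈ T.P i) (hj : v ∈ T.P j) : i = j := by
  by_contra h
  exact hv (T.disjoint i j h v hi hj)

/-- A homomorphism between two members whose graph is a member. -/
def IsGraph {p q : ι} (φ : ↥(T.P p) →+ ↥(T.P q)) : Prop :=
  ∃ r, ∀ u : ↥(T.P p), (u : V) + φ u ∈ T.P r

/-- The restriction of a shear. -/
def res {p q : ι} (η : V →+ V) (hη : ∀ u, η u ∈ T.P q) : ↥(T.P p) →+ ↥(T.P q) :=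
  (η.comp (T.P p).subtype).codRestrict (T.P q) fun _ => hη _

theorem isGraph_res {p q : ι} (η : V →+ V) (hη : ∀ u, η u ∈ T.P q)
    (hi : ∀ i, ∃ j, ∀ u ∈ T.P i, u + η u ∈ T.P j) : T.IsGraph (T.res (p := p) η hη) := by
  obtain ⟨j, hj⟩ := hi p
  exact ⟨j, fun u => hj u u.2⟩

theorem isGraph_zero (p q : ι) : T.IsGraph (0 : ↥(T.P p) →+ ↥(T.P q)) :=
  ⟨p, fun u => by simp⟩

theorem graph_eq {p q : ι} (hpq : p ≠ q) {φ ψ : ↥(T.P p) →+ ↥(T.P q)} (hφ : T.IsGraph φ)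
    (hψ : T.IsGraph ψ) {v : ↥(T.P p)} (hv : v ≠ 0) (h : φ v = ψ v) : φ = ψ := by
  obtain ⟨r, hr⟩ := hφ
  obtain ⟨s, hs⟩ := hψ
  have hv' : (v : V) ≠ 0 := fun e => hv (Subtype.ext e)
  have hne : (v : V) + φ v ≠ 0 := fun e => hv' (T.disjoint p q hpq v v.2 (by
    rw [eq_neg_of_add_eq_zero_left e]
    exact neg_mem (φ v).2))
  have hrs : r = s := T.eq_of_mem hne (hr v) (h ▸ hs v)
  have hrq : r ≠ q := by
    rintro rfl
    exact hv' (T.disjoint p r hpq v v.2 (by simpa using sub_mem (hr v) (φ v).2))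
  refine AddMonoidHom.ext fun u => Subtype.ext (sub_eq_zero.1 (T.disjoint r q hrq _ ?_ ?_))
  · subst hrs
    simpa using sub_mem (hr u) (hs u)
  · exact sub_mem (φ u).2 (ψ u).2

theorem exists_graph {p q : ι} (hpq : p ≠ q) {v : ↥(T.P p)} (hv : v ≠ 0) (w : ↥(T.P q)) :
    ∃ φ : ↥(T.P p) →+ ↥(T.P q), T.IsGraph φ ∧ φ v = w := by
  obtain ⟨η, h1, -, h3, h4⟩ := T.shear p q hpq v v.2 (fun e => hv (Subtype.ext e)) w w.2
  exact ⟨T.res η h1, T.isGraph_res η h1 h4, Subtype.ext h3⟩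

theorem isGraph_add {p q : ι} (hpq : p ≠ q) {φ ψ : ↥(T.P p) →+ ↥(T.P q)} (hφ : T.IsGraph φ)
    (hψ : T.IsGraph ψ) : T.IsGraph (φ + ψ) := by
  obtain ⟨v, hv⟩ := T.exists_ne_zero p
  obtain ⟨η, h1, h2, h3, h4⟩ := T.shear p q hpq v v.2 (fun e => hv (Subtype.ext e)) (ψ v) (ψ v).2
  have he : T.res η h1 = ψ := T.graph_eq hpq (T.isGraph_res η h1 h4) hψ hv (Subtype.ext h3)
  obtain ⟨r, hr⟩ := hφ
  obtain ⟨j, hj⟩ := h4 r
  refine ⟨j, fun u => ?_⟩
  have h5 := hj _ (hr u)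
  have h6 : η u = (ψ u : V) := congrArg Subtype.val (DFunLike.congr_fun he u)
  rw [map_add, h2 _ (φ u).2, add_zero, h6, add_assoc] at h5
  simpa using h5

theorem isGraph_neg {p q : ι} (hpq : p ≠ q) {φ : ↥(T.P p) →+ ↥(T.P q)} (hφ : T.IsGraph φ) :
    T.IsGraph (-φ) := by
  obtain ⟨v, hv⟩ := T.exists_ne_zero p
  obtain ⟨ψ, hψ, hψv⟩ := T.exists_graph hpq hv (-φ v)
  have h : φ + ψ = 0 :=
    T.graph_eq hpq (T.isGraph_add hpq hφ hψ) (T.isGraph_zero p q) hv (by simp [hψv])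
  rwa [← eq_neg_of_add_eq_zero_right h]

theorem isGraph_sub {p q : ι} (hpq : p ≠ q) {φ ψ : ↥(T.P p) →+ ↥(T.P q)} (hφ : T.IsGraph φ)
    (hψ : T.IsGraph ψ) : T.IsGraph (φ - ψ) := by
  rw [sub_eq_add_neg]
  exact T.isGraph_add hpq hφ (T.isGraph_neg hpq hψ)

theorem graph_bijective {p q : ι} (hpq : p ≠ q) {φ : ↥(T.P p) →+ ↥(T.P q)} (hφ : T.IsGraph φ)
    (h0 : φ ≠ 0) : Function.Bijective φ := by
  refine (Nat.bijective_iff_injective_and_card φ).2 ⟨(injective_iff_map_eq_zero φ).2 fun u hu => ?_,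
    T.card_eq p q⟩
  by_contra hne
  exact h0 (T.graph_eq hpq hφ (T.isGraph_zero p q) hne (by simp [hu]))

theorem isGraph_symm {p q : ι} (e : ↥(T.P p) ≃+ ↥(T.P q)) (he : T.IsGraph e.toAddMonoidHom) :
    T.IsGraph e.symm.toAddMonoidHom := by
  obtain ⟨r, hr⟩ := he
  refine ⟨r, fun u => ?_⟩
  have := hr (e.symm u)
  simp only [AddEquiv.coe_toAddMonoidHom, AddEquiv.apply_symm_apply] at this
  rwa [add_comm]

theorem plane {p q r : ι} (hpq : p ≠ q) {x : V} (hx : x ∈ T.P p ⊔ T.P q) (h0 : x ≠ 0)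
    (hr : x ∈ T.P r) : T.P r ≤ T.P p ⊔ T.P q := by
  obtain ⟨u, hu, w, hw, rfl⟩ := AddSubgroup.mem_sup.1 hx
  by_cases hu0 : u = 0
  · subst hu0
    rw [zero_add] at hr h0
    rw [T.eq_of_mem h0 hr hw]
    exact le_sup_right
  · obtain ⟨φ, ⟨j, hj⟩, hφu⟩ := T.exists_graph hpq (v := ⟨u, hu⟩) (fun e => hu0 (congrArg Subtype.val e)) ⟨w, hw⟩
    have hjr : r = j := by
      refine T.eq_of_mem h0 hr ?_
      have := hj ⟨u, hu⟩
      rwa [hφu] at this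
    subst hjr
    let f : ↥(T.P p) → ↥(T.P r) := fun a => ⟨(a : V) + φ a, hj a⟩
    have hf : Function.Injective f := by
      intro a b hab
      have e : (a : V) + φ a = (b : V) + φ b := congrArg Subtype.val hab
      refine Subtype.ext (sub_eq_zero.1 (T.disjoint p q hpq _ (sub_mem a.2 b.2) ?_))
      rw [show (a : V) - b = φ b - φ a by linear_combination (norm := abel) e]
      exact sub_mem (φ b).2 (φ a).2
    intro y hy
    obtain ⟨a, ha⟩ := ((Nat.bijective_iff_injective_and_card f).2 ⟨hf, T.card_eq p r⟩).2 ⟨y, hy⟩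
    rw [show y = (a : V) + φ a from (congrArg Subtype.val ha).symm]
    exact AddSubgroup.add_mem_sup a.2 (φ a).2

/-- Composition of shear maps of three independent members. -/
theorem isGraph_comp {p q r : ι} (hpq : p ≠ q) (hqr : q ≠ r) (hpr : p ≠ r)
    (hind : ∀ u ∈ T.P p, ∀ w ∈ T.P q, ∀ z ∈ T.P r, u + w + z = 0 → u = 0 ∧ w = 0 ∧ z = 0)
    {φ : ↥(T.P p) →+ ↥(T.P q)} (hφ : T.IsGraph φ) {ψ : ↥(T.P q) →+ ↥(T.P r)} (hψ : T.IsGraph ψ) :
    T.IsGraph (ψ.comp φ) := by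
  obtain ⟨v, hv⟩ := T.exists_ne_zero p
  by_cases hφv : φ v = 0
  · rw [T.graph_eq hpq hφ (T.isGraph_zero p q) hv (by simp [hφv]), AddMonoidHom.comp_zero]
    exact T.isGraph_zero p r
  obtain ⟨η, h1, -, h3, h4⟩ := T.shear q r hqr (φ v) (φ v).2 (fun e => hφv (Subtype.ext e))
    (ψ (φ v)) (ψ (φ v)).2
  have hq' : T.res η h1 = ψ := T.graph_eq hqr (T.isGraph_res η h1 h4) hψ hφv (Subtype.ext h3)
  have hp' : T.IsGraph (T.res (p := p) η h1) := T.isGraph_res η h1 h4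
  obtain ⟨a, ha⟩ := hφ
  obtain ⟨a', ha'⟩ := h4 a
  set ξ := T.res (p := p) η h1 + ψ.comp φ with hξ
  have himg : ∀ u : ↥(T.P p), (u : V) + φ u + ξ u ∈ T.P a' := fun u => by
    have h5 := ha' _ (ha u)
    have h6 : η (φ u : V) = (ψ (φ u) : V) := congrArg Subtype.val (DFunLike.congr_fun hq' (φ u))
    rw [map_add, h6] at h5
    exact h5
  obtain ⟨ξ', hξ', hξv⟩ := T.exists_graph hpr hv (ξ v)
  obtain ⟨b, hb⟩ := hξ'
  have hx0 : (v : V) + ξ' v ≠ 0 := fun e =>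
    hv (Subtype.ext (hind v v.2 0 (zero_mem _) (ξ' v) (ξ' v).2 (by rw [add_zero, e])).1)
  have ha'q : a' ≠ q := by
    rintro rfl
    obtain ⟨h, -, -⟩ := hind v v.2 (φ v - ((v : V) + φ v + ξ v)) (sub_mem (φ v).2 (himg v)) (ξ v) (ξ v).2
      (by abel)
    exact hv (Subtype.ext h)
  have hle := T.plane ha'q (x := (v : V) + ξ' v) (r := b) (by
    rw [hξv, show (v : V) + ξ v = ((v : V) + φ v + ξ v) + -(φ v : V) by abel]
    exact AddSubgroup.add_mem_sup (himg v) (neg_mem (φ v).2)) hx0 (hb v)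
  have hinj : ∀ u : ↥(T.P p), (u : V) + φ u + ξ u = 0 → u = 0 := fun u hu =>
    Subtype.ext (hind u u.2 (φ u) (φ u).2 (ξ u) (ξ u).2 hu).1
  let f : ↥(T.P p) → ↥(T.P a') := fun u => ⟨(u : V) + φ u + ξ u, himg u⟩
  have hf : Function.Injective f := fun u u' h => by
    have e : (u : V) + φ u + ξ u = (u' : V) + φ u' + ξ u' := congrArg Subtype.val h
    refine sub_eq_zero.1 (hinj _ ?_)
    simp only [map_sub, AddSubgroup.coe_sub]
    linear_combination (norm := abel) e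
  have hfs := ((Nat.bijective_iff_injective_and_card f).2 ⟨hf, T.card_eq p a'⟩).2
  have key : ξ' = ξ := by
    refine AddMonoidHom.ext fun u => Subtype.ext ?_
    obtain ⟨x, hx, z, hz, hxz⟩ := AddSubgroup.mem_sup.1 (hle (hb u))
    obtain ⟨u', hu'⟩ := hfs ⟨x, hx⟩
    have hu'' : (u' : V) + φ u' + ξ u' = x := congrArg Subtype.val hu'
    obtain ⟨h5, -, h7⟩ := hind ((u' : V) - u) (sub_mem u'.2 u.2) ((φ u' : V) + z) (add_mem (φ u').2 hz)
      ((ξ u' : V) - ξ' u) (sub_mem (ξ u').2 (ξ' u).2) (by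
        rw [show (u' : V) - u + ((φ u' : V) + z) + ((ξ u' : V) - ξ' u) =
          ((u' : V) + φ u' + ξ u' + z) - ((u : V) + ξ' u) by abel, hu'', hxz, sub_self])
    have h8 : u' = u := Subtype.ext (sub_eq_zero.1 h5)
    rw [h8] at h7
    exact (sub_eq_zero.1 h7).symm
  have hfinal := T.isGraph_sub hpr (key ▸ ⟨b, hb⟩ : T.IsGraph ξ) hp'
  rwa [hξ, add_sub_cancel_left] at hfinal

end TSpread

end Cfsg.Agent.ItoDesign
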